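import Cfsg.Agent.Lib.Crit5.Interface
import Cfsg.Agent.Lib.Crit8.Prod.Odd
import Cfsg.Agent.Lib.PGroups.Omega
import Cfsg.Agent.Lib.Involutions.StronglyEmbedded

/-!
# The single fixed point criterion: elementary facts (section F)

Parity, and the subgroup generated by members as a smaller setting.  See
`notes/crit_helper5.md`, section F.  F3 is proved by induction on the `2`-subgroup, without Bender's
theorem: the central members of a maximal subgroup form a normal subgroup.
-/

set_option autoImplicit false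
set_option linter.style.haveILetI false

namespace Cfsg.Agent.Lib.Crit5.Facts

open MulAction Subgroup Cfsg.Agent.Lib.Involutions.Basic
open Cfsg.Agent.Lib.Crit8 (Pre Action Bad memAt memSwap loc part)

universe u

variable {G Ω : Type*} [Group G] [MulAction G Ω] [Finite G] [FaithfulSMul G Ω] {D : Set G}
  (h : Action G Ω D)

include h

/-- The members in `P` centralising `P`, with the identity. -/
def centMem (P : Subgroup G) : Subgroup G where
  carrier := {x | x = 1 ∨ (x ∈ D ∧ x ∈ P ∧ ∀ p ∈ P, Commute x p)}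
  one_mem' := Or.inl rfl
  mul_mem' := by
    rintro a b (rfl | ⟨ha, haP, hac⟩) hb
    · rwa [one_mul]
    rcases hb with rfl | ⟨hb, hbP, hbc⟩
    · rw [mul_one]; exact Or.inr ⟨ha, haP, hac⟩
    by_cases hab : a = b
    · subst hab; exact Or.inl (invol_mul_self (h.invol a ha))
    · exact Or.inr ⟨h.mul_mem_D ha hb hab (hac b hbP), mul_mem haP hbP,
        fun p hp => (hac p hp).mul_left (hbc p hp)⟩
  inv_mem' := by
    rintro a (rfl | ⟨ha, haP, hac⟩)
    · exact Or.inl inv_one
    · rw [invol_inv (h.invol a ha)]; exact Or.inr ⟨ha, haP, hac⟩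

theorem centMem_le (P : Subgroup G) : centMem h P ≤ P := by
  rintro x (rfl | ⟨-, hx, -⟩)
  · exact one_mem _
  · exact hx

/-- A 2-subgroup with a member has a member in its centre. -/
theorem exists_central_mem {a : Ω} {d : G} (hd : d ∈ memAt G D a) :
    ∀ P : Subgroup G, IsPGroup 2 P → d ∈ P →
      ∃ z ∈ memAt G D a, z ∈ P ∧ ∀ p ∈ P, Commute z p := by
  haveI : Fact (Nat.Prime 2) := ⟨Nat.prime_two⟩
  intro P
  induction P using WellFoundedLT.induction with
  | ind P ih =>
  intro hP hdP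
  rcases (zpowers_le.2 hdP).eq_or_lt with heq | hlt
  · refine ⟨d, hd, hdP, fun p hp => ?_⟩
    rw [← heq] at hp
    obtain ⟨k, rfl⟩ := mem_zpowers_iff.1 hp
    exact (Commute.refl d).zpow_right k
  obtain ⟨M, ⟨hdM, hMP⟩, hmax⟩ :=
    exists_maximal_of_wellFoundedGT (fun M : Subgroup G => zpowers d ≤ M ∧ M < P)
      ⟨_, le_rfl, hlt⟩
  haveI : Group.IsNilpotent P := hP.isNilpotent
  have hN : P ⊓ normalizer (M : Set G) = P := by
    by_contra hne
    have h1 := Involutions.StronglyEmbedded.lt_inf_normalizer hMP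
    exact h1.not_ge (hmax ⟨hdM.trans h1.le, lt_of_le_of_ne inf_le_left hne⟩ h1.le)
  obtain ⟨z, hz, hzM, hzc⟩ := ih M hMP (hP.to_le hMP.le) (hdM (mem_zpowers d))
  have hnorm : ((centMem h M).subgroupOf P).Normal := by
    refine ⟨fun x hx g => ?_⟩
    have hgN : (g : G) ∈ normalizer (M : Set G) := (hN.ge g.2).2
    rcases hx with hx | ⟨hxD, hxM, hxc⟩
    · refine Or.inl ?_
      show (g : G) * x * (g : G)⁻¹ = 1
      rw [show (x : G) = 1 from hx, mul_one, mul_inv_cancel]
    · refine Or.inr ⟨h.conj _ _ hxD, (mem_normalizer_iff.1 hgN _).1 hxM, fun p hp => ?_⟩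
      have h1 := hxc ((g : G)⁻¹ * p * g) (by
        have := (mem_normalizer_iff.1 (inv_mem hgN) p).1 hp
        simpa using this)
      show (g : G) * x * (g : G)⁻¹ * p = p * ((g : G) * x * (g : G)⁻¹)
      calc (g : G) * x * (g : G)⁻¹ * p = g * (x * ((g : G)⁻¹ * p * g)) * (g : G)⁻¹ := by group
        _ = g * ((g : G)⁻¹ * p * g * x) * (g : G)⁻¹ := by
          rw [show (x : G) * ((g : G)⁻¹ * p * g) = (g : G)⁻¹ * p * g * x from h1.eq]
        _ = _ := by group
  have hne : (centMem h M).subgroupOf P ≠ ⊥ := fun e => by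
    have h1 : (⟨z, hMP.le hzM⟩ : P) ∈ (centMem h M).subgroupOf P :=
      Or.inr ⟨hz.1, hzM, hzc⟩
    rw [e, mem_bot] at h1
    exact invol_ne_one (h.invol z hz.1) (congrArg Subtype.val h1)
  obtain ⟨w, hw, hw1⟩ := (Subgroup.bot_or_exists_ne_one _).resolve_left
    (PGroups.normal_inf_center_ne_bot hP _ hne)
  rcases hw.1 with h1 | ⟨hwD, hwM, hwc⟩
  · exact absurd (Subtype.ext h1) hw1
  have hwP : ∀ p ∈ P, Commute (w : G) p := fun p hp =>
    (congrArg Subtype.val (mem_center_iff.1 hw.2 ⟨p, hp⟩)).symm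
  obtain ⟨b, hb⟩ := (h.one _ hwD).exists
  have hab : b = a := h.fix_eq_of_commute hwD hb hd.1 hd.2 (hwc d (hdM (mem_zpowers d)))
  exact ⟨w, ⟨hwD, hab ▸ hb⟩, w.2, hwP⟩

/-- A 2-subgroup with a member at `a` fixes `a`. -/
theorem le_stab {a : Ω} {d : G} (hd : d ∈ memAt G D a) {P : Subgroup G} (hP : IsPGroup 2 P)
    (hdP : d ∈ P) : P ≤ stabilizer G a := by
  obtain ⟨z, hz, -, hc⟩ := exists_central_mem h hd P hP hdP
  exact fun p hp => h.smul_eq_of_commute hz.1 hz.2 (hc p hp)

/-- A subgroup has none or an odd number of the members at a point. -/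
theorem odd_card_memAt {a : Ω} {d : G} (hd : d ∈ memAt G D a) {M : Subgroup G} (hdM : d ∈ M) :
    Odd (Nat.card {x : G | x ∈ memAt G D a ∧ x ∈ M}) := by
  classical
  haveI : Fact (Nat.Prime 2) := ⟨Nat.prime_two⟩
  set Ma : Subgroup G := M ⊓ stabilizer G a with hMa
  have hdMa : d ∈ Ma := ⟨hdM, hd.2⟩
  have hz2 : IsPGroup 2 (zpowers (⟨d, hdMa⟩ : Ma)) := IsPGroup.of_card (n := 1) (by
    rw [Nat.card_zpowers, ← Subgroup.orderOf_coe, h.invol d hd.1, pow_one])
  obtain ⟨Q, hQ⟩ := hz2.exists_le_sylow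
  set P : Subgroup G := (Q : Subgroup Ma).map Ma.subtype with hPdef
  have hP : IsPGroup 2 P := Q.2.map _
  have hPM : P ≤ Ma := map_subtype_le _
  have hdP : d ∈ P := ⟨⟨d, hdMa⟩, hQ (mem_zpowers _), rfl⟩
  set S := {x : G | x ∈ memAt G D a ∧ x ∈ M} with hS
  letI : MulAction P S :=
    { smul := fun p x => ⟨p * x.1 * (p : G)⁻¹,
        ⟨by have h1 := h.conj_mem_memAt (g := (p : G)) x.2.1
            rwa [show (p : G) • a = a from (hPM p.2).2] at h1,
          mul_mem (mul_mem (hPM p.2).1 x.2.2) (inv_mem (hPM p.2).1)⟩⟩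
      one_smul := fun x => Subtype.ext (by show (1 : G) * x.1 * (1 : G)⁻¹ = x.1; simp)
      mul_smul := fun p q x => Subtype.ext (by
        show ((p : G) * q) * x.1 * ((p : G) * q)⁻¹ = p * (q * x.1 * (q : G)⁻¹) * (p : G)⁻¹
        group) }
  have hmod := hP.card_modEq_card_fixedPoints S
  have hfix : ∀ x : S, x ∈ fixedPoints P S ↔ (x : G) ∈ centMem h P := by
    intro x
    constructor
    · intro hx
      have hc : ∀ p ∈ P, Commute (x : G) p := fun p hp =>
        (mul_inv_eq_iff_eq_mul.1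
          (show (p : G) * x.1 * p⁻¹ = x.1 from congrArg Subtype.val (hx ⟨p, hp⟩))).symm
      refine Or.inr ⟨x.2.1.1, ?_, hc⟩
      set y : Ma := ⟨x, x.2.2, x.2.1.2⟩ with hy
      have hy2 : IsPGroup 2 (zpowers y) := IsPGroup.of_card (n := 1) (by
        rw [Nat.card_zpowers, ← Subgroup.orderOf_coe, h.invol _ x.2.1.1, pow_one])
      have hle : zpowers y ≤ normalizer ((Q : Subgroup Ma) : Set Ma) := by
        refine zpowers_le.2 (centralizer_le_normalizer _ (mem_centralizer_iff.2 fun q hq => ?_))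
        exact Subtype.ext (hc q ⟨q, hq, rfl⟩).eq.symm
      have hQy : y ∈ (Q : Subgroup Ma) :=
        (Q.3 (IsPGroup.to_sup_of_normal_left' Q.2 hy2 hle) le_sup_left).le
          (mem_sup_right (mem_zpowers y))
      exact ⟨y, hQy, rfl⟩
    · rintro (h1 | ⟨-, -, hc⟩)
      · exact absurd h1 (invol_ne_one (h.invol _ x.2.1.1))
      · exact fun p => Subtype.ext (mul_inv_eq_iff_eq_mul.2 (hc p p.2).eq.symm)
  have hcard : Nat.card (centMem h P) = Nat.card (fixedPoints P S) + 1 := by
    haveI := Fintype.ofFinite G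
    let f : Option (fixedPoints P S) → centMem h P := fun o =>
      o.elim 1 fun x => ⟨x.1.1, (hfix x.1).1 x.2⟩
    have hf : Function.Bijective f := by
      constructor
      · rintro (_ | x) (_ | y) e
        · rfl
        · exact absurd (congrArg Subtype.val e).symm (invol_ne_one (h.invol _ y.1.2.1.1))
        · exact absurd (congrArg Subtype.val e) (invol_ne_one (h.invol _ x.1.2.1.1))
        · exact congrArg some (Subtype.ext (Subtype.ext (congrArg (fun t : centMem h P => (t : G)) e)))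
      · rintro ⟨x, hx⟩
        rcases hx with rfl | ⟨hxD, hxP, hxc⟩
        · exact ⟨none, rfl⟩
        · obtain ⟨b, hb⟩ := (h.one x hxD).exists
          have hab : b = a := h.fix_eq_of_commute hxD hb hd.1 hd.2 (hxc d hdP)
          refine ⟨some ⟨⟨x, ⟨hxD, hab ▸ hb⟩, (hPM hxP).1⟩, (hfix _).2 (Or.inr ⟨hxD, hxP, hxc⟩)⟩,
            rfl⟩
    rw [← Nat.card_congr (Equiv.ofBijective f hf), Finite.card_option]
  obtain ⟨z, hz, hzP, hzc⟩ := exists_central_mem h hd P hP hdP
  have hev : Even (Nat.card (centMem h P)) := by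
    obtain ⟨n, hn⟩ := IsPGroup.iff_card.1 (hP.to_le (centMem_le h P))
    rw [hn]
    refine (Nat.even_pow' fun h0 => ?_).2 even_two
    rw [h0, pow_zero, Subgroup.card_eq_one] at hn
    have h1 : z ∈ centMem h P := Or.inr ⟨hz.1, hzP, hzc⟩
    rw [hn, mem_bot] at h1
    exact invol_ne_one (h.invol z hz.1) h1
  rw [Nat.odd_iff]
  refine Eq.trans hmod ?_
  rw [hcard] at hev
  exact Nat.odd_iff.1 (Nat.not_even_iff_odd.1 fun he => Nat.even_add_one.1 hev he)

omit h [MulAction G Ω] [FaithfulSMul G Ω] in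
/-- A strongly embedded subgroup restricts along an injective map when it stays proper and even. -/
theorem stronglyEmbedded_comap {L K : Type*} [Group L] [Group K] [Finite L] [Finite K] (f : K →* L)
    (hf : Function.Injective f) {M : Subgroup L} (hM : Cfsg.IsStronglyEmbedded M)
    (htop : M.comap f ≠ ⊤) (hev : Even (Nat.card (M.comap f))) :
    Cfsg.IsStronglyEmbedded (M.comap f) :=
  Involutions.StronglyEmbedded.of_forall_conj htop hev fun t ht ht2 g hg => by
    refine Involutions.StronglyEmbedded.mem_of_conj_mem hM (t := f t) ?_ ht ?_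
    · rw [orderOf_injective f hf, ht2]
    · rw [mem_comap, map_mul, map_mul, map_inv] at hg
      exact hg

/-- A subgroup with members at two points is a setting on the orbit of a point of a member. -/
theorem subAction {Y : Subgroup G} {a : Ω} {d : G} (hd : d ∈ memAt G D a) (hdY : d ∈ Y)
    (hmove : ∃ y ∈ Y, y • a ≠ a) : Action Y (orbit Y a) (part Y D) := by
  classical
  have hone : ∀ e ∈ part Y D, ∃! x : orbit Y a, e • x = x := by
    intro e he
    obtain ⟨b, hb, hb'⟩ := h.one _ he
    obtain ⟨-, -, ha'⟩ := h.one d hd.1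
    haveI : Finite Ω := by
      haveI := h.trans
      exact Finite.of_surjective (fun g : G => g • a) fun x => exists_smul_eq G a x
    obtain ⟨k, hk, hkb⟩ := Crit8.exists_smul_of_unique_fix (K := Y) (h.invol _ he) e.2
      (h.invol d hd.1) hdY (a := b) hb' hd.2 (fun x hx => h.eq_of_fix hd.1 hx hd.2)
    exact ⟨⟨b, ⟨k, hk⟩, hkb⟩, Subtype.ext hb, fun y hy =>
      Subtype.ext (hb' _ (congrArg Subtype.val hy))⟩
  have hodd : ∀ p : orbit Y a,
      Odd (Nat.card {x : Y | x ∈ part Y D ∧ x • p = p}) := by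
    rintro ⟨b, g, hg⟩
    obtain rfl : (g : G) • a = b := hg
    have hd' : (g : G) * d * (g : G)⁻¹ ∈ memAt G D ((g : G) • a) := h.conj_mem_memAt hd
    have h1 := odd_card_memAt h hd' (M := Y) (mul_mem (mul_mem g.2 hdY) (inv_mem g.2))
    refine (Nat.card_congr ?_).symm ▸ h1
    exact
      { toFun := fun x => ⟨x.1.1, ⟨x.2.1, congrArg Subtype.val x.2.2⟩, x.1.2⟩
        invFun := fun x => ⟨⟨x.1, x.2.2⟩, x.2.1.1, Subtype.ext x.2.1.2⟩
        left_inv := fun x => rfl
        right_inv := fun x => rfl }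
  refine { invol := fun e he => ?_, conj := fun g e he => h.conj g e he, one := hone, odd := hodd,
           trans := inferInstance, nonempty := ⟨⟨d, hdY⟩, hd.1⟩,
           nontrivial := ?_, oddMul := ?_, emb := ?_ }
  · rw [← Subgroup.orderOf_coe]; exact h.invol _ he
  · obtain ⟨y, hy, hya⟩ := hmove
    exact ⟨⟨⟨a, mem_orbit_self a⟩, ⟨y • a, ⟨y, hy⟩, rfl⟩, fun e => hya (congrArg Subtype.val e).symm⟩⟩
  · intro x hx y hy p hxp hyp
    rw [← Subgroup.orderOf_coe]
    exact h.oddMul x hx y hy p (congrArg Subtype.val hxp) fun e => hyp (Subtype.ext e)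
  · intro v hv e he hev p hp hnot
    obtain ⟨c, hcv, hcp⟩ := SetLike.not_le_iff_exists.1 hnot
    have hcv' : Commute c v := mem_centralizer_singleton_iff.1 hcv
    have hvG : orderOf (v : G) = 2 := by rw [Subgroup.orderOf_coe, hv]
    have hep : (e : G) • (p : Ω) = p := congrArg Subtype.val hp
    have hSE := h.emb v hvG e he (congrArg Subtype.val hev.eq) p hep fun hle =>
      hcp (Subtype.ext (hle (mem_centralizer_singleton_iff.2 (congrArg Subtype.val hcv'.eq))))
    have hle : (loc (part Y D) v).map Y.subtype ≤ loc D (v : G) := by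
      rw [loc, MonoidHom.map_closure, closure_le]
      rintro _ ⟨x, ⟨hx, hxv⟩, rfl⟩
      exact subset_closure ⟨hx, congrArg Subtype.val hxv.eq⟩
    let f : loc (part Y D) v →* loc D (v : G) :=
      { toFun := fun x => ⟨((x : Y) : G), hle ⟨x, x.2, rfl⟩⟩
        map_one' := rfl
        map_mul' := fun _ _ => rfl }
    have hf : Function.Injective f := fun x y e =>
      Subtype.ext (Subtype.ext (congrArg (fun z : loc D (v : G) => (z : G)) e))
    have heq : ((stabilizer G (p : Ω)).subgroupOf (loc D (v : G))).comap f =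
        (stabilizer Y p).subgroupOf (loc (part Y D) v) := by
      ext x
      simp only [mem_comap, mem_subgroupOf, mem_stabilizer_iff]
      exact ⟨fun e => Subtype.ext e, fun e => congrArg Subtype.val e⟩
    rw [← heq]
    refine stronglyEmbedded_comap f hf hSE ?_ ?_
    · rw [heq]
      intro htop
      have hmem : c * e * c⁻¹ ∈ loc (part Y D) v :=
        subset_closure ⟨h.conj _ _ he, (hcv'.mul_left hev).mul_left hcv'.inv_left⟩
      have h1 : (c * e * c⁻¹) • p = p := by
        have h2 : (⟨_, hmem⟩ : loc (part Y D) v) ∈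
            (stabilizer Y p).subgroupOf (loc (part Y D) v) := htop ▸ mem_top _
        exact h2
      have h2 : (c * e * c⁻¹) • (c • p) = c • p := by
        rw [mul_smul, mul_smul, inv_smul_smul, hp]
      exact hcp (Subtype.ext (h.eq_of_fix (h.conj _ _ he) (congrArg Subtype.val h2)
        (congrArg Subtype.val h1)))
    · rw [heq, even_iff_two_dvd, ← h.invol _ he]
      have h1 : (⟨e, subset_closure ⟨he, hev⟩⟩ : loc (part Y D) v) ∈
          (stabilizer Y p).subgroupOf (loc (part Y D) v) := hp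
      have := Subgroup.orderOf_dvd_natCard _ h1
      rwa [← Subgroup.orderOf_coe, ← Subgroup.orderOf_coe] at this

omit [FaithfulSMul G Ω] in
/-- F1: an element inverted by a member and centralised by a member at another point squares
to one. -/
theorem mul_self_eq_one {d w k : G} {a c : Ω} (hd : d ∈ memAt G D a) (hw : w ∈ memAt G D c)
    (hac : a ≠ c) (hdk : Commute d k) (hwk : w * k * w⁻¹ = k⁻¹) : k * k = 1 := by
  obtain ⟨g, hg, hgw⟩ := exists_conj_of_odd (invol_mul_self (h.invol d hd.1))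
    (invol_mul_self (h.invol w hw.1)) (h.odd_mul hd.1 hd.2 hw.1 hw.2 hac)
  have key : g ∈ normalizer ((zpowers k : Subgroup G) : Set G) := by
    refine (closure_le _).2 ?_ hg
    rintro z (rfl | rfl)
    · refine centralizer_le_normalizer _ (mem_centralizer_iff.2 fun x hx => ?_)
      obtain ⟨i, rfl⟩ := mem_zpowers_iff.1 hx
      exact (hdk.zpow_right i).eq.symm
    · refine mem_normalizer_iff_map_conj_eq.2 ?_
      rw [MonoidHom.map_zpowers]
      show zpowers (z * k * z⁻¹) = zpowers k
      rw [hwk, zpowers_inv]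
  have h1 : g⁻¹ * k * g ∈ zpowers k := by
    have := (mem_normalizer_iff.1 (inv_mem key) k).1 (mem_zpowers k)
    simpa using this
  obtain ⟨i, hi⟩ := mem_zpowers_iff.1 h1
  have h2 : Commute d (g⁻¹ * k * g) := hi ▸ hdk.zpow_right i
  have h3 : Commute w k := by
    rw [← hgw]
    show g * d * g⁻¹ * k = k * (g * d * g⁻¹)
    calc g * d * g⁻¹ * k = g * (d * (g⁻¹ * k * g)) * g⁻¹ := by group
      _ = g * (g⁻¹ * k * g * d) * g⁻¹ := by rw [h2.eq]
      _ = _ := by group
  rw [h3.eq, mul_inv_cancel_right] at hwk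
  exact mul_eq_one_iff_eq_inv.2 hwk

omit h [FaithfulSMul G Ω]

/-- F: the parity statement. -/
theorem parity : PropParity.{u} := by
  intro X _ _ Δ _ E hM a
  haveI := hM.faithful
  refine ⟨fun P hP ⟨d, hd, hdP⟩ => ⟨le_stab hM.act hd hP hdP,
    exists_central_mem hM.act hd P hP hdP⟩, fun M ⟨d, hd, hdM⟩ => ?_⟩
  exact odd_card_memAt hM.act hd hdM

/-- A subgroup generated by members, with a member at `a` and a member moving `a`, has a strongly
embedded stabiliser of `a`. -/
theorem sub_stronglyEmbedded {X Δ : Type u} [Group X] [Finite X] [MulAction X Δ] {E : Set X}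
    (hM : Min X Δ E) {Y : Subgroup X} (hY : Y ≠ ⊤)
    (hgen : closure {x | x ∈ E ∧ x ∈ Y} = Y) {a : Δ} {d : X} (hd : d ∈ memAt X E a) (hdY : d ∈ Y)
    (hmove : ∃ y ∈ Y, y • a ≠ a) : Cfsg.IsStronglyEmbedded ((stabilizer X a).subgroupOf Y) := by
  haveI := hM.faithful
  have hA := subAction hM.act hd hdY hmove
  have htop : closure (part Y E) = ⊤ := by
    apply map_injective Y.subtype_injective
    rw [← MonoidHom.range_eq_map, range_subtype, MonoidHom.map_closure]
    conv_rhs => rw [← hgen]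
    congr 1
    ext x
    exact ⟨by rintro ⟨y, hy, rfl⟩; exact ⟨hy, y.2⟩, fun hx => ⟨⟨x, hx.2⟩, hx.1, rfl⟩⟩
  have hlt : Nat.card Y < Nat.card X := lt_of_le_of_ne (Subgroup.card_le_card_group Y)
    fun he => hY (Subgroup.eq_top_of_card_eq Y he)
  have hnb := hM.below Y (orbit Y a) (part Y E) hlt hA htop
  refine Involutions.StronglyEmbedded.of_forall_conj ?_ ?_ fun t ht ht2 g hg => ?_
  · obtain ⟨y, hy, hya⟩ := hmove
    intro e
    exact hya ((e ▸ mem_top _ : (⟨y, hy⟩ : Y) ∈ (stabilizer X a).subgroupOf Y))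
  · rw [even_iff_two_dvd, ← hM.act.invol d hd.1]
    have h1 : (⟨d, hdY⟩ : Y) ∈ (stabilizer X a).subgroupOf Y := hd.2
    have := Subgroup.orderOf_dvd_natCard _ h1
    rwa [← Subgroup.orderOf_coe] at this
  · by_contra hga
    refine hnb t ⟨ht2, ⟨a, mem_orbit_self a⟩, ⟨(g : X)⁻¹ • a, g⁻¹, rfl⟩, fun e => hga ?_,
      Subtype.ext ht, Subtype.ext ?_⟩
    · show (g : X) • a = a
      have e' : a = (g : X)⁻¹ • a := congrArg Subtype.val e
      conv_lhs => rw [e']
      rw [smul_inv_smul]
    · have h1 : ((g : X) * t * (g : X)⁻¹) • a = a := hg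
      show (t : X) • (g : X)⁻¹ • a = (g : X)⁻¹ • a
      rw [mul_smul, mul_smul, ← eq_inv_smul_iff] at h1
      exact h1

end Cfsg.Agent.Lib.Crit5.Facts
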