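import Cfsg.Agent.Lib.Crit5.CentralSE
import Cfsg.Agent.Lib.Crit5.Facts
import Cfsg.Agent.Lib.BC77.Hall4.FourFormula

/-!
# The single fixed point criterion, section A2: `PropCentral`

If the odd core `O` of the group of the members centralising a bad involution `u` is not centralised
by them then every pair in `Fix (u * g)` is full, so `O` preserves that set; a `2`-subgroup
normalising `O` is regular on it away from the fixed point of `g`, so `O` fixes it pointwise, and
`O = ⊥` by faithfulness.  See `notes/crit_helper5.md`, A2, and `notes/crit_check_helper20.md`.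
-/

set_option autoImplicit false
set_option linter.style.haveILetI false
set_option linter.unusedSectionVars false

namespace Cfsg.Agent.Lib.Crit5.Central

open MulAction Subgroup
open Cfsg.Agent.Lib.Crit8 (Action Bad memAt memSwap loc)
open Cfsg.Agent.Lib.Involutions.Basic Cfsg.Agent.Lib.BenderSuzuki

universe u

variable {G Ω : Type u} [Group G] [MulAction G Ω] [Finite G] {D : Set G}

/-- The odd core of the local group, as a subgroup of `G`. -/
def locCore (D : Set G) (x : G) : Subgroup G := (Cfsg.oddCore ↥(loc D x)).map (loc D x).subtype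

theorem commute_loc {x y : G} (hy : y ∈ loc D x) : Commute y x := by
  induction hy using Subgroup.closure_induction with
  | mem z hz => exact hz.2
  | one => exact Commute.one_left x
  | mul a b _ _ ha hb => exact ha.mul_left hb
  | inv a _ ha => exact ha.inv_left

theorem locCore_le (x : G) : locCore D x ≤ loc D x := map_subtype_le _

theorem locCore_odd (x : G) : Odd (Nat.card (locCore D x)) :=
  ZStar.Elements.oddCore_odd.of_dvd_nat (card_map_dvd _ _)

theorem eq_one_of_odd_sq {K : Subgroup G} (hK : Odd (Nat.card K)) {j : G} (hj : j ∈ K)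
    (h2 : j * j = 1) : j = 1 := by
  by_contra h1
  exact (odd_card_iff_no_invol _).1 hK j hj (invol_iff.2 ⟨h2, h1⟩)

theorem odd_order {K : Subgroup G} (hK : Odd (Nat.card K)) {j : G} (hj : j ∈ K) :
    Odd (orderOf j) :=
  hK.of_dvd_nat (Subgroup.orderOf_dvd_natCard _ hj)

variable (hM : Min G Ω D)
include hM

/-- The centraliser of `x` normalises the core. -/
theorem locCore_conj {x g k : G} (hg : Commute g x) (hk : k ∈ locCore D x) :
    g * k * g⁻¹ ∈ locCore D x := by
  set L := loc D x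
  have hconj : ∀ g : G, Commute g x → ∀ y ∈ L, g * y * g⁻¹ ∈ L := by
    intro g hg y hy
    have : L.map (MulAut.conj g).toMonoidHom ≤ L := by
      rw [show L = closure {y | y ∈ D ∧ Commute y x} from rfl, MonoidHom.map_closure, closure_le]
      rintro _ ⟨y, ⟨hyD, hyx⟩, rfl⟩
      exact subset_closure ⟨hM.act.conj g y hyD, (hg.mul_left hyx).mul_left hg.inv_left⟩
    exact this ⟨y, hy, rfl⟩
  set N : Subgroup L := ((locCore D x).map (MulAut.conj g).toMonoidHom).subgroupOf L with hN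
  have hle : (locCore D x).map (MulAut.conj g).toMonoidHom ≤ L := by
    rintro _ ⟨y, hy, rfl⟩
    exact hconj g hg y (locCore_le x hy)
  haveI : N.Normal := by
    refine ⟨fun n hn y => ?_⟩
    obtain ⟨z, hz, hzn⟩ := (hn : (n : G) ∈ (locCore D x).map (MulAut.conj g).toMonoidHom)
    obtain ⟨z', hz', rfl⟩ := hz
    set y' : L := ⟨g⁻¹ * y * g, by
      have := hconj g⁻¹ hg.inv_left y y.2
      rwa [inv_inv] at this⟩
    refine ⟨((y' * z' * y'⁻¹ : L) : G),
      ⟨_, (Cfsg.oddCore ↥L).normal_of_characteristic.conj_mem z' hz' y', rfl⟩, ?_⟩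
    show g * ((y' * z' * y'⁻¹ : L) : G) * g⁻¹ = ((y * n * y⁻¹ : L) : G)
    have h1 : g * ((z' : L) : G) * g⁻¹ = (n : G) := hzn
    simp only [Subgroup.coe_mul, Subgroup.coe_inv, y', ← h1]
    group
  have hodd : Odd (Nat.card N) := by
    rw [Nat.card_congr (subgroupOfEquivOfLe hle).toEquiv]
    exact (locCore_odd x).of_dvd_nat (card_map_dvd _ _)
  have hmem : g * k * g⁻¹ ∈ L := hconj g hg k (locCore_le x hk)
  exact ⟨⟨_, hmem⟩, ZStar.Elements.le_oddCore hodd
    (show (⟨_, hmem⟩ : L) ∈ N from ⟨k, hk, rfl⟩), rfl⟩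

/-- A four group at one fixed point gives one at every fixed point. -/
theorem fourAt_fix {x : G} (hx : Bad G Ω x) {a b : Ω} (ha : x • a = a) (hb : x • b = b)
    (hF : FourAt D x a) : FourAt D x b := by
  rcases eq_or_ne a b with rfl | hab
  · exact hF
  obtain ⟨f, hf, hfx⟩ := hM.act.exists_swap_commute hx.invol hab (Or.inl ⟨ha, hb⟩)
  obtain ⟨d, ⟨hd, hdx⟩, e, ⟨he, hex⟩, hne, hc⟩ := hF
  have key : ∀ y ∈ memAt G D a, Commute y x → f * y * f⁻¹ ∈ memCent D x b := fun y hy hyx => by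
    refine ⟨?_, (hfx.mul_left hyx).mul_left hfx.inv_left⟩
    have := hM.act.conj_mem_memAt (g := f) hy
    rwa [hf.2] at this
  refine ⟨_, key d hd hdx, _, key e he hex, fun h => hne (by simpa using h), ?_⟩
  show f * d * f⁻¹ * (f * e * f⁻¹) = f * e * f⁻¹ * (f * d * f⁻¹)
  calc f * d * f⁻¹ * (f * e * f⁻¹) = f * (d * e) * f⁻¹ := by group
    _ = f * (e * d) * f⁻¹ := by rw [hc.eq]
    _ = _ := by group

theorem local_setting {x : G} (hx : Bad G Ω x) {a : Ω} (ha : x • a = a) (hF : FourAt D x a) :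
    Cfsg.IsStronglyEmbedded ((stabilizer G a).subgroupOf (loc D x)) ∧ TwoRank ↥(loc D x) := by
  refine ⟨hM.act.emb_bad hx ha, ?_⟩
  obtain ⟨d, ⟨hd, hdx⟩, e, ⟨he, hex⟩, hne, hc⟩ := hF
  refine ⟨⟨d, subset_closure ⟨hd.1, hdx⟩⟩, ⟨e, subset_closure ⟨he.1, hex⟩⟩, ?_, ?_, ?_, ?_, ?_,
    Subtype.ext hc.eq⟩
  · exact fun h => invol_ne_one (hM.act.invol d hd.1) (congrArg Subtype.val h)
  · exact fun h => invol_ne_one (hM.act.invol e he.1) (congrArg Subtype.val h)
  · exact fun h => hne (congrArg Subtype.val h)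
  · exact Subtype.ext (invol_mul_self (hM.act.invol d hd.1))
  · exact Subtype.ext (invol_mul_self (hM.act.invol e he.1))

theorem locCore_fix {x : G} (hx : Bad G Ω x) {a : Ω} (ha : x • a = a) (hF : FourAt D x a) {b : Ω}
    (hb : x • b = b) {k : G} (hk : k ∈ locCore D x) : k • b = b := by
  obtain ⟨k', hk', rfl⟩ := hk
  obtain ⟨hS, h2⟩ := local_setting hM hx hb (fourAt_fix hM hx ha hb hF)
  exact BenderConsumers23.oddCore_le hS h2 hk'

theorem mul_mem_locCore {x : G} (hx : Bad G Ω x) {a : Ω} (ha : x • a = a) (hF : FourAt D x a)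
    {f f' : G} (hf : f ∈ memCent D x a) (hf' : f' ∈ memCent D x a) :
    f * f' * (f * f') ∈ locCore D x ∧ (Odd (orderOf (f * f')) → f * f' ∈ locCore D x) := by
  obtain ⟨hS, h2⟩ := local_setting hM hx ha hF
  let p : loc D x := ⟨f, subset_closure ⟨hf.1.1, hf.2⟩⟩
  let q : loc D x := ⟨f', subset_closure ⟨hf'.1.1, hf'.2⟩⟩
  have hp : p ∈ (stabilizer G a).subgroupOf (loc D x) := hf.1.2
  have hq : q ∈ (stabilizer G a).subgroupOf (loc D x) := hf'.1.2
  have hp2 : orderOf p = 2 := by rw [← Subgroup.orderOf_coe]; exact hM.act.invol f hf.1.1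
  have hq2 : orderOf q = 2 := by rw [← Subgroup.orderOf_coe]; exact hM.act.invol f' hf'.1.1
  refine ⟨⟨_, CentralSE.sq_mem_oddCore hS h2 hp hq hp2 hq2, rfl⟩, fun ho =>
    ⟨_, CentralSE.mem_oddCore_of_odd hS h2 hp hq hp2 hq2 ?_, rfl⟩⟩
  rw [← Subgroup.orderOf_coe]
  exact ho

/-- A member moved by an element centralising `x` gives a violation at every other fixed point. -/
theorem viol_of {x : G} (hx : Bad G Ω x) {a b : Ω} (ha : x • a = a) (hb : x • b = b) (hab : a ≠ b)
    (hF : FourAt D x a) {f k : G} (hf : f ∈ memCent D x a) (hk : Commute k x) (hka : k • a = a)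
    (hne : ¬ Commute k f) (hodd : Odd (orderOf (k * f * k⁻¹ * f))) : Viol D a b := by
  set f' := k * f * k⁻¹ with hf'def
  have hf' : f' ∈ memCent D x a := by
    refine ⟨?_, (hk.mul_left hf.2).mul_left hk.inv_left⟩
    have := hM.act.conj_mem_memAt (g := k) hf.1
    rwa [hka] at this
  set j := f' * f with hjdef
  have hj : j ∈ locCore D x := (mul_mem_locCore hM hx ha hF hf' hf).2 hodd
  set P := pairSub D (loc D x) a b with hP
  have hPL : P ≤ loc D x := (closure_le _).2 fun y hy => hy.2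
  refine ⟨hab, loc D x, fun htop => hM.act.bad_not_mem_loc hx (hPL (by rw [hP, htop]; exact mem_top x)), ?_, ?_, ?_⟩
  · obtain ⟨e, he, hex⟩ := hM.act.smul_conj_memAt hx.invol hb
    exact ⟨e, he, subset_closure ⟨he.1, hex⟩⟩
  · obtain ⟨d, ⟨hd, hdx⟩, e, ⟨he, hex⟩, hde, hc⟩ := hF
    exact ⟨d, hd, e, he, subset_closure ⟨hd.1, hdx⟩, subset_closure ⟨he.1, hex⟩, hde, hc⟩
  have hmemP : ∀ y ∈ memCent D x a, y ∈ P := fun y hy =>
    subset_closure ⟨Or.inl hy.1, subset_closure ⟨hy.1.1, hy.2⟩⟩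
  refine ⟨f, hf.1, subset_closure ⟨hf.1.1, hf.2⟩, j, ?_, ?_⟩
  · set N : Subgroup P := (locCore D x).subgroupOf P
    haveI : N.Normal :=
      ⟨fun n hn y => locCore_conj hM (commute_loc (hPL y.2)) (hn : (n : G) ∈ locCore D x)⟩
    have hodd' : Odd (Nat.card N) := by
      have e : Nat.card N = Nat.card (N.map P.subtype) :=
        Nat.card_congr (N.equivMapOfInjective _ P.subtype_injective).toEquiv
      rw [e]
      exact (locCore_odd x).of_dvd_nat (card_dvd_of_le (map_le_iff_le_comap.2 fun z hz => hz))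
    have hjP : j ∈ P := mul_mem (hmemP _ hf') (hmemP _ hf)
    exact ⟨⟨j, hjP⟩, ZStar.Elements.le_oddCore hodd' (show (⟨j, hjP⟩ : P) ∈ N from hj), rfl⟩
  · intro hc
    apply hne
    have hff : f * f = 1 := invol_mul_self (hM.act.invol f hf.1.1)
    have hff' : f' * f' = 1 := invol_mul_self (hM.act.invol f' hf'.1.1)
    have h1 : f * f' = f' * f := by
      have h2 : f * (f' * f) = f' * f * f := hc.eq
      rw [mul_assoc f' f f, hff, mul_one] at h2
      calc f * f' = f * (f' * f) * f := by rw [mul_assoc f (f' * f) f, mul_assoc f' f f, hff, mul_one]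
        _ = f' * f := by rw [h2]
    have hj1 : j = 1 := by
      refine eq_one_of_odd_sq (locCore_odd x) hj ?_
      calc f' * f * (f' * f) = f' * (f * f') * f := by group
        _ = f' * (f' * f) * f := by rw [h1]
        _ = f' * f' * (f * f) := by group
        _ = 1 := by rw [hff', hff, one_mul]
    have h3 : f' = f := by
      rw [eq_inv_of_mul_eq_one_left hj1]
      exact invol_inv (hM.act.invol f hf.1.1)
    exact mul_inv_eq_iff_eq_mul.1 h3

/-- Either the members centralise the core or the core of `C(x)` moves a member at every member. -/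
theorem centralises_or {x : G} (hx : Bad G Ω x) {a : Ω} (hF : FourAt D x a) :
    (∀ d ∈ D, Commute d x → ∀ k ∈ locCore D x, Commute k d) ∨
      ∀ g ∈ D, Commute g x → ∃ f ∈ D, Commute f x ∧ Commute f g ∧
        ∃ k ∈ locCore D x, Commute k g ∧ ¬ Commute k f := by
  by_cases hC : ∀ g ∈ D, Commute g x → ∃ f ∈ D, Commute f x ∧ Commute f g ∧
      ∃ k ∈ locCore D x, Commute k g ∧ ¬ Commute k f
  · exact Or.inr hC
  refine Or.inl ?_
  push Not at hC
  obtain ⟨g, hg, hgx, hbad⟩ := hC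
  have hall : ∀ e ∈ D, Commute e x → ∀ f ∈ D, Commute f x → Commute f e →
      ∀ k ∈ locCore D x, Commute k e → Commute k f := by
    intro e he hex f hf hfx hfe k hk hke
    obtain ⟨y, hyx, hye⟩ := hM.act.loc_transitive hx he hex hg hgx
    have hφ : ∀ {p q : G}, Commute p q → Commute (y * p * y⁻¹) (y * q * y⁻¹) := fun {p q} hpq =>
      hpq.map (MulAut.conj y).toMonoidHom
    have h1 := hbad (y * f * y⁻¹) (hM.act.conj y f hf) ((hyx.mul_left hfx).mul_left hyx.inv_left)
      (hye ▸ hφ hfe) (y * k * y⁻¹) (locCore_conj hM hyx hk) (hye ▸ hφ hke)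
    have h2 := h1.map (MulAut.conj y⁻¹).toMonoidHom
    simpa [mul_assoc] using h2
  obtain ⟨d, ⟨hd, hdx⟩, e, ⟨he, hex⟩, hne, hc⟩ := hF
  have hdeD : d * e ∈ D := by
    haveI := hM.faithful
    exact hM.act.mul_mem_D hd.1 he.1 hne hc
  have hdex : Commute (d * e) x := hdx.mul_left hex
  have hnorm : ∀ y : G, Commute y x → ∀ k ∈ locCore D x, y * k * y⁻¹ ∈ locCore D x :=
    fun y hy k hk => locCore_conj hM hy hk
  have h4 := BC77.Hall4.card_four (locCore_odd (D := D) x) (invol_mul_self (hM.act.invol d hd.1))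
    (invol_mul_self (hM.act.invol e he.1)) hc.eq (hnorm d hdx) (hnorm e hex)
  have e1 : BC77.Hall4.fx d (locCore D x) ⊓ BC77.Hall4.fx e (locCore D x) =
      BC77.Hall4.fx d (locCore D x) := by
    refine inf_eq_left.2 fun k hk => ?_
    obtain ⟨hkO, hkd⟩ := BC77.Hall4.mem_fx.1 hk
    exact BC77.Hall4.mem_fx.2
      ⟨hkO, (hall d hd.1 hdx e he.1 hex hc.symm k hkO hkd.symm).eq.symm⟩
  have e2 : BC77.Hall4.fx d (locCore D x) ⊓ BC77.Hall4.fx e (locCore D x) =
      BC77.Hall4.fx e (locCore D x) := by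
    refine inf_eq_right.2 fun k hk => ?_
    obtain ⟨hkO, hke⟩ := BC77.Hall4.mem_fx.1 hk
    exact BC77.Hall4.mem_fx.2
      ⟨hkO, (hall e he.1 hex d hd.1 hdx hc k hkO hke.symm).eq.symm⟩
  have e3 : BC77.Hall4.fx d (locCore D x) ⊓ BC77.Hall4.fx e (locCore D x) =
      BC77.Hall4.fx (d * e) (locCore D x) := by
    refine le_antisymm (fun k hk => ?_) (fun k hk => ?_)
    · obtain ⟨hkO, hkd⟩ := BC77.Hall4.mem_fx.1 hk.1
      exact BC77.Hall4.mem_fx.2 ⟨hkO,
        (Commute.mul_left (a := d) hkd (BC77.Hall4.mem_fx.1 hk.2).2).eq⟩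
    · obtain ⟨hkO, hkde⟩ := BC77.Hall4.mem_fx.1 hk
      have hk' : Commute k (d * e) := hkde.symm
      refine ⟨BC77.Hall4.mem_fx.2 ⟨hkO, (hall _ hdeD hdex d hd.1 hdx
        ((Commute.refl d).mul_right hc) k hkO hk').eq.symm⟩,
        BC77.Hall4.mem_fx.2 ⟨hkO, (hall _ hdeD hdex e he.1 hex
        (hc.symm.mul_right (Commute.refl e)) k hkO hk').eq.symm⟩⟩
  rw [← e3, e2] at h4
  rw [← e2, e1] at h4
  have hfull : BC77.Hall4.fx d (locCore D x) = locCore D x := by
    refine eq_of_le_of_card_ge inf_le_left (le_of_eq ?_)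
    have hpos : 0 < Nat.card (BC77.Hall4.fx d (locCore D x)) := Nat.card_pos
    nlinarith [h4]
  intro f hf hfx k hk
  obtain ⟨y, hyx, hyf⟩ := hM.act.loc_transitive hx hd.1 hdx hf hfx
  have hk' : y⁻¹ * k * y ∈ locCore D x := by
    have := locCore_conj hM hyx.inv_left hk
    rwa [inv_inv] at this
  rw [← hfull] at hk'
  have h1 : Commute (y⁻¹ * k * y) d := (BC77.Hall4.mem_fx.1 hk').2.symm
  have h2 := h1.map (MulAut.conj y).toMonoidHom
  rw [← hyf]
  simpa [mul_assoc] using h2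

/-- A `2`-group inside the local group, centralising a member at `a` and transitive on the other
fixed points. -/
theorem exists_locT {x : G} (hx : Bad G Ω x) {a : Ω} (ha : x • a = a) (hF : FourAt D x a) {g : G}
    (hg : g ∈ memCent D x a) :
    ∃ T : Subgroup G, IsPGroup 2 T ∧ T ≤ loc D x ∧ (∀ t ∈ T, Commute t g) ∧
      (∀ t ∈ T, t • a = a) ∧ (∀ t ∈ T, orderOf t = 2 → t ∈ D) ∧
      ∀ b c : Ω, x • b = b → b ≠ a → x • c = c → c ≠ a → ∃ t ∈ T, t • b = c := by
  obtain ⟨hS, h2⟩ := local_setting hM hx ha hF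
  let g' : loc D x := ⟨g, subset_closure ⟨hg.1.1, hg.2⟩⟩
  have hg2 : orderOf g' = 2 := by rw [← Subgroup.orderOf_coe]; exact hM.act.invol g hg.1.1
  obtain ⟨T, hTp, hTH, hTg, htr⟩ := CentralSE.exists_transitive hS h2 (g := g') hg.1.2 hg2
  refine ⟨T.map (loc D x).subtype, hTp.map _, map_subtype_le _, ?_, ?_, ?_, ?_⟩
  · rintro _ ⟨t, ht, rfl⟩
    exact congrArg Subtype.val (mem_centralizer_singleton_iff.1 (hTg ht))
  · rintro _ ⟨t, ht, rfl⟩; exact hTH ht
  · rintro _ ⟨t, ht, rfl⟩ h2'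
    obtain ⟨y, hy⟩ := isConj_iff.1 (Involutions.StronglyEmbedded.isConj_involutions hS hg2
      (show orderOf t = 2 by rw [← Subgroup.orderOf_coe]; exact h2'))
    have := hM.act.conj (y : G) g hg.1.1
    rw [← hy]
    exact this
  · intro b c hb hba hc hca
    obtain ⟨f₁, hf₁, hf₁x⟩ := hM.act.exists_swap_commute hx.invol (Ne.symm hba) (Or.inl ⟨ha, hb⟩)
    obtain ⟨f₂, hf₂, hf₂x⟩ := hM.act.exists_swap_commute hx.invol (Ne.symm hca) (Or.inl ⟨ha, hc⟩)
    let p : loc D x := ⟨f₁, subset_closure ⟨hf₁.1, hf₁x⟩⟩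
    let q : loc D x := ⟨f₂, subset_closure ⟨hf₂.1, hf₂x⟩⟩
    obtain ⟨t, ht, hmem⟩ := htr p q (fun h => hba (hf₁.2.symm.trans h))
      (fun h => hca (hf₂.2.symm.trans h))
    refine ⟨t, ⟨t, ht, rfl⟩, ?_⟩
    have h1 : ((((t * p)⁻¹ * q : loc D x)) : G) • a = a := hmem
    simp only [Subgroup.coe_mul, Subgroup.coe_inv, p, q] at h1
    rw [mul_smul, inv_smul_eq_iff, hf₂.2, mul_smul, hf₁.2] at h1
    exact h1.symm

/-- The `2`-group of `exists_locT` is semiregular on `Fix (x * g)` away from `a`. -/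
theorem card_fix_le {x : G} (hx : Bad G Ω x) {a : Ω} (ha : x • a = a) (hF : FourAt D x a) {g : G}
    (hg : g ∈ memCent D x a) {y : Ω} (hy : (x * g) • y = y) (hya : y ≠ a) [Finite Ω] :
    ∃ T : Subgroup G, IsPGroup 2 T ∧ T ≤ loc D x ∧ (∀ t ∈ T, Commute t (x * g)) ∧
      (∀ t ∈ T, t • a = a) ∧ (∀ t ∈ T, t • y = y → t = 1) ∧
      Nat.card {b : Ω // x • b = b ∧ b ≠ a} ≤ Nat.card T ∧
      Nat.card T ≤ Nat.card {b : Ω // (x * g) • b = b ∧ b ≠ a} := by
  haveI : Fact (Nat.Prime 2) := ⟨Nat.prime_two⟩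
  obtain ⟨T, hTp, hTL, hTg, hTa, hTD, htr⟩ := exists_locT hM hx ha hF hg
  have hTxg : ∀ t ∈ T, Commute t (x * g) := fun t ht =>
    (commute_loc (hTL ht)).mul_right (hTg t ht)
  have hfree : ∀ t ∈ T, t • y = y → t = 1 := by
    intro t ht hty
    by_contra h1
    obtain ⟨n, hn⟩ := IsPGroup.iff_orderOf.1 hTp ⟨t, ht⟩
    rw [Subgroup.orderOf_mk] at hn
    obtain ⟨m, rfl⟩ : ∃ m, n = m + 1 :=
      Nat.exists_eq_succ_of_ne_zero fun e => h1 (orderOf_eq_one_iff.1 (by rw [hn, e, pow_zero]))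
    set z := t ^ 2 ^ m
    have hz2 : orderOf z = 2 := by
      rw [orderOf_pow' _ (pow_ne_zero _ two_ne_zero), hn,
        Nat.gcd_eq_right (pow_dvd_pow 2 (Nat.le_succ m)), pow_succ,
        Nat.mul_div_cancel_left _ (pow_pos two_pos m)]
    exact hya (hM.act.eq_of_fix (hTD z (pow_mem ht _) hz2) (smul_pow_fix hty (2 ^ m))
      (smul_pow_fix (hTa t ht) (2 ^ m)))
  refine ⟨T, hTp, hTL, hTxg, hTa, hfree, ?_, ?_⟩
  · obtain ⟨p, q, hne, hp, hq⟩ := hx.two
    obtain ⟨b₀, hb₀, hb₀a⟩ : ∃ b, x • b = b ∧ b ≠ a := by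
      by_cases h' : p = a
      · exact ⟨q, hq, fun h => hne (h'.trans h.symm)⟩
      · exact ⟨p, hp, h'⟩
    have hmem : ∀ t ∈ T, x • t • b₀ = t • b₀ ∧ t • b₀ ≠ a := fun t ht =>
      ⟨by rw [smul_smul, ← (commute_loc (hTL ht)).eq, mul_smul, hb₀],
       fun h => hb₀a (smul_left_cancel t (h.trans (hTa t ht).symm))⟩
    refine Nat.card_le_card_of_surjective
      (fun t : T => (⟨(t : G) • b₀, hmem t t.2⟩ : {b : Ω // x • b = b ∧ b ≠ a})) ?_
    rintro ⟨c, hc, hca⟩
    obtain ⟨t, ht, htc⟩ := htr b₀ c hb₀ hb₀a hc hca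
    exact ⟨⟨t, ht⟩, Subtype.ext htc⟩
  · have hmem : ∀ t ∈ T, (x * g) • t • y = t • y ∧ t • y ≠ a := fun t ht =>
      ⟨by rw [smul_smul, ← (hTxg t ht).eq, mul_smul, hy],
       fun h => hya (smul_left_cancel t (h.trans (hTa t ht).symm))⟩
    refine Nat.card_le_card_of_injective
      (fun t : T => (⟨(t : G) • y, hmem t t.2⟩ : {b : Ω // (x * g) • b = b ∧ b ≠ a})) ?_
    intro s t hst
    have h1 : (s : G) • y = (t : G) • y := congrArg Subtype.val hst
    have h2 := hfree _ (mul_mem (inv_mem t.2) s.2) (by rw [mul_smul, h1, inv_smul_smul])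
    exact Subtype.ext (inv_mul_eq_one.1 h2).symm
where
  smul_pow_fix {t : G} {p : Ω} (h : t • p = p) : ∀ n : ℕ, t ^ n • p = p
    | 0 => by rw [pow_zero, one_smul]
    | n + 1 => by rw [pow_succ, mul_smul, h, smul_pow_fix h n]

/-- If the members do not centralise the core, the core is trivial. -/
theorem core_eq_one (hFull : PropFull.{u}) {x : G} (hx : Bad G Ω x) {a : Ω} (ha : x • a = a)
    (hF : FourAt D x a)
    (hmv : ∀ g ∈ D, Commute g x → ∃ f ∈ D, Commute f x ∧ Commute f g ∧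
        ∃ k ∈ locCore D x, Commute k g ∧ ¬ Commute k f)
    {k : G} (hk : k ∈ locCore D x) : k = 1 := by
  classical
  haveI := hM.faithful
  haveI := hM.act.trans
  haveI : Finite Ω := Finite.of_surjective (fun g : G => g • a) fun p => exists_smul_eq G a p
  refine hM.faithful.eq_of_smul_eq_smul fun c => ?_
  rw [one_smul]
  by_cases hc : x • c = c
  · exact locCore_fix hM hx ha hF hc hk
  obtain ⟨g, hgsw, hgx⟩ := hM.act.exists_swap_commute hx.invol (Ne.symm hc) (Or.inr rfl)
  obtain ⟨a', ha', -⟩ := hM.act.one g hgsw.1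
  have hxa' : x • a' = a' := hM.act.smul_eq_of_commute hgsw.1 ha' hgx
  have hg : g ∈ memCent D x a' := ⟨⟨hgsw.1, ha'⟩, hgx⟩
  have hFx : FourAt D x a' := fourAt_fix hM hx ha hxa' hF
  set w := x * g with hw
  have hwb : Bad G Ω w := hM.act.bad_mul hx hgsw.1 hgx
  have hwa : w • a' = a' := by rw [hw, mul_smul, ha', hxa']
  have hwc : w • c = c := by
    rw [hw, mul_smul, hgsw.2, smul_smul, invol_mul_self hx.invol, one_smul]
  have hca : c ≠ a' := fun h => hc (h ▸ hxa')
  have hgw : Commute g w := hgx.mul_right (Commute.refl g)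
  obtain ⟨f, hfD, hfx, hfg, k₀, hk₀, hk₀g, hk₀f⟩ := hmv g hgsw.1 hgx
  have hfa : f • a' = a' := hM.act.smul_eq_of_commute hgsw.1 ha' hfg.symm
  have hfw : Commute f w := hfx.mul_right hfg
  have hfne : g ≠ f := fun h => hk₀f (h ▸ hk₀g)
  have hFw : FourAt D w a' :=
    ⟨g, ⟨⟨hgsw.1, ha'⟩, hgw⟩, f, ⟨⟨hfD, hfa⟩, hfw⟩, hfne, hfg.symm⟩
  -- the pairs at `a'` in `Fix w` are full
  have hfull : ∀ y : Ω, w • y = y → y ≠ a' → closure (memAt G D a' ∪ memAt G D y) ≠ ⊤ := by
    intro y hy hya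
    refine hFull G Ω D hM a' y (viol_of hM hwb hwa hy (Ne.symm hya) hFw ⟨⟨hfD, hfa⟩, hfw⟩
      ((commute_loc (locCore_le x hk₀)).mul_right hk₀g) (locCore_fix hM hx ha hF hxa' hk₀) hk₀f ?_)
    refine odd_order (locCore_odd (D := D) x) ?_
    have h1 : f * k₀⁻¹ * f⁻¹ ∈ locCore D x := locCore_conj hM hfx (inv_mem hk₀)
    rw [invol_inv (hM.act.invol f hfD)] at h1
    have := mul_mem hk₀ h1
    rwa [← mul_assoc, ← mul_assoc] at this
  -- so the core preserves `Fix w`
  have hpres : ∀ l ∈ locCore D x, ∀ y : Ω, w • y = y → w • l • y = l • y := by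
    intro l hl y hy
    rcases eq_or_ne y a' with rfl | hya
    · rw [locCore_fix hM hx ha hF hxa' hl, hwa]
    set m := l⁻¹ with hmdef
    have hma : m • a' = a' := locCore_fix hM hx ha hF hxa' (inv_mem hl)
    have hg' : m * g * m⁻¹ ∈ memAt G D a' := by
      have := hM.act.conj_mem_memAt (g := m) hg.1
      rwa [hma] at this
    set j := m * g * m⁻¹ * g with hjdef
    have hjO : j ∈ locCore D x := by
      have h1 : g * m⁻¹ * g⁻¹ ∈ locCore D x := locCore_conj hM hgx (inv_mem (inv_mem hl))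
      rw [invol_inv (hM.act.invol g hgsw.1)] at h1
      have := mul_mem (inv_mem hl) h1
      rwa [← mul_assoc, ← mul_assoc] at this
    set Y := closure (memAt G D a' ∪ memAt G D y) with hY
    have hgen : closure {z | z ∈ D ∧ z ∈ Y} = Y := by
      refine le_antisymm ((closure_le _).2 fun z hz => hz.2) ((closure_le _).2 fun z hz => ?_)
      exact subset_closure ⟨hz.elim And.left And.left, subset_closure hz⟩
    obtain ⟨e, he⟩ := hM.act.exists_memAt y
    have hgY : g ∈ Y := subset_closure (Or.inl hg.1)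
    have hg'Y : m * g * m⁻¹ ∈ Y := subset_closure (Or.inl hg')
    have hfY : f ∈ Y := subset_closure (Or.inl ⟨hfD, hfa⟩)
    have heY : e ∈ Y := subset_closure (Or.inr he)
    have hSa := Facts.sub_stronglyEmbedded hM (hfull y hy hya) hgen hg.1 hgY
      ⟨e, heY, fun h => hya (hM.act.eq_of_fix he.1 he.2 h)⟩
    have hSy := Facts.sub_stronglyEmbedded hM (hfull y hy hya) hgen he heY
      ⟨g, hgY, fun h => hya (hM.act.eq_of_fix hgsw.1 h ha')⟩
    have h2 : TwoRank Y := ⟨⟨g, hgY⟩, ⟨f, hfY⟩,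
      fun h => invol_ne_one (hM.act.invol g hgsw.1) (congrArg Subtype.val h),
      fun h => invol_ne_one (hM.act.invol f hfD) (congrArg Subtype.val h),
      fun h => hfne (congrArg Subtype.val h),
      Subtype.ext (invol_mul_self (hM.act.invol g hgsw.1)),
      Subtype.ext (invol_mul_self (hM.act.invol f hfD)), Subtype.ext hfg.symm.eq⟩
    have hjY : (⟨m * g * m⁻¹, hg'Y⟩ : Y) * ⟨g, hgY⟩ ∈ Cfsg.oddCore ↥Y := by
      refine CentralSE.mem_oddCore_of_odd hSa h2 hg'.2 ha' ?_ ?_ ?_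
      · rw [← Subgroup.orderOf_coe]; exact hM.act.invol _ hg'.1
      · rw [← Subgroup.orderOf_coe]; exact hM.act.invol g hgsw.1
      · rw [← Subgroup.orderOf_coe]; exact odd_order (locCore_odd x) hjO
    have hjy : j • y = y := BenderConsumers23.oddCore_le hSy h2 hjY
    have hgy : g • y = x • y := by
      have h1 : x • g • y = y := by rw [← mul_smul]; exact hy
      calc g • y = x • x • g • y := by rw [smul_smul x x, invol_mul_self hx.invol, one_smul]
        _ = x • y := by rw [h1]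
    have hmx : Commute m x := commute_loc (locCore_le x (inv_mem hl))
    rw [hjdef, mul_smul, hgy, mul_smul, mul_smul] at hjy
    have h3 : g • x • l • y = l • y := by
      have h4 : m⁻¹ • x • y = x • l • y := by
        rw [hmdef, inv_inv, smul_smul, smul_smul, (commute_loc (locCore_le x hl)).eq]
      rw [h4] at hjy
      have h5 := congrArg (fun p => m⁻¹ • p) hjy
      simp only [inv_smul_smul] at h5
      rw [h5, hmdef, inv_inv]
    rw [hw, hgx.symm.eq, mul_smul]
    exact h3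
  -- a `2`-group normalising the core is regular on `Fix w` off `a'`
  obtain ⟨T, hTp, hTL, hTw, hTa, hfree, hle1, hle2⟩ := card_fix_le hM hx hxa' hFx hg hwc hca
  have hgmem : g ∈ memCent D w a' := ⟨⟨hgsw.1, ha'⟩, hgw⟩
  have hwg : w * g = x := by
    rw [hw, mul_assoc, invol_mul_self (hM.act.invol g hgsw.1), mul_one]
  obtain ⟨b₀, hb₀, hb₀a⟩ : ∃ b, x • b = b ∧ b ≠ a' := by
    obtain ⟨p, q, hne, hp, hq⟩ := hx.two
    by_cases h' : p = a'
    · exact ⟨q, hq, fun h => hne (h'.trans h.symm)⟩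
    · exact ⟨p, hp, h'⟩
  obtain ⟨T', -, -, -, -, -, hle3, hle4⟩ :=
    card_fix_le hM hwb hwa hFw hgmem (y := b₀) (by rw [hwg]; exact hb₀) hb₀a
  rw [hwg] at hle4
  have hmem : ∀ t ∈ T, w • t • c = t • c ∧ t • c ≠ a' := fun t ht =>
    ⟨by rw [smul_smul, ← (hTw t ht).eq, mul_smul, hwc],
     fun h => hca (smul_left_cancel t (h.trans (hTa t ht).symm))⟩
  set φ : T → {b : Ω // w • b = b ∧ b ≠ a'} := fun t => ⟨(t : G) • c, hmem t t.2⟩
  have hφ : Function.Bijective φ := by
    haveI := Fintype.ofFinite Ω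
    haveI := Fintype.ofFinite G
    rw [Fintype.bijective_iff_injective_and_card]
    refine ⟨fun s t hst => ?_, ?_⟩
    · have h1 : (s : G) • c = (t : G) • c := congrArg Subtype.val hst
      exact Subtype.ext (inv_mul_eq_one.1
        (hfree _ (mul_mem (inv_mem t.2) s.2) (by rw [mul_smul, h1, inv_smul_smul]))).symm
    · rw [← Nat.card_eq_fintype_card, ← Nat.card_eq_fintype_card]
      exact le_antisymm hle2 (hle3.trans (hle4.trans hle1))
  have hnormT : ∀ t ∈ T, ∀ l ∈ locCore D x, t * l * t⁻¹ ∈ locCore D x := fun t ht l hl =>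
    locCore_conj hM (commute_loc (hTL ht)) hl
  let A : Subgroup G :=
    { carrier := {t | t ∈ T ∧ ∃ l ∈ locCore D x, t • c = l • c}
      one_mem' := ⟨one_mem _, 1, one_mem _, rfl⟩
      mul_mem' := by
        rintro s t ⟨hs, l, hl, hsl⟩ ⟨ht, l', hl', htl⟩
        refine ⟨mul_mem hs ht, s * l' * s⁻¹ * l, mul_mem (hnormT s hs l' hl') hl, ?_⟩
        rw [mul_smul, htl, mul_smul (s * l' * s⁻¹) l c, ← hsl]
        simp only [mul_smul, inv_smul_smul]
      inv_mem' := by
        rintro t ⟨ht, l, hl, htl⟩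
        refine ⟨inv_mem ht, t⁻¹ * l⁻¹ * t,
          by simpa using hnormT t⁻¹ (inv_mem ht) l⁻¹ (inv_mem hl), ?_⟩
        rw [mul_smul, htl, mul_smul, inv_smul_smul] }
  have horb : ∀ l : locCore D x, w • (l : G) • c = (l : G) • c ∧ (l : G) • c ≠ a' := fun l =>
    ⟨hpres l l.2 c hwc, fun h => hca (smul_left_cancel (l : G)
      (h.trans (locCore_fix hM hx ha hF hxa' l.2).symm))⟩
  have hcard : Nat.card A = Nat.card (orbit (locCore D x) c) := by
    refine Nat.card_eq_of_bijective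
      (fun t : A => (⟨(t : G) • c, by
        obtain ⟨-, l, hl, htl⟩ := t.2
        exact ⟨⟨l, hl⟩, htl.symm⟩⟩ : orbit (locCore D x) c)) ⟨fun s t hst => ?_, ?_⟩
    · have h1 : (s : G) • c = (t : G) • c := congrArg Subtype.val hst
      exact Subtype.ext (inv_mul_eq_one.1
        (hfree _ (mul_mem (inv_mem t.2.1) s.2.1) (by rw [mul_smul, h1, inv_smul_smul]))).symm
    · rintro ⟨_, l, rfl⟩
      obtain ⟨t, ht⟩ := hφ.2 ⟨_, horb l⟩
      have ht' : (t : G) • c = (l : G) • c := congrArg Subtype.val ht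
      exact ⟨⟨t, t.2, l, l.2, ht'⟩, Subtype.ext ht'⟩
  have hodd : Odd (Nat.card (orbit (locCore D x) c)) := by
    refine (locCore_odd (D := D) x).of_dvd_nat ?_
    rw [← Nat.card_congr (orbitEquivQuotientStabilizer (locCore D x) c).symm]
    exact Subgroup.card_quotient_dvd_card _
  haveI : Fact (Nat.Prime 2) := ⟨Nat.prime_two⟩
  have hA1 : A = ⊥ := by
    obtain ⟨n, hn⟩ := IsPGroup.iff_card.1 (hTp.to_le (H := A) fun t ht => ht.1)
    rw [← hcard, hn] at hodd
    rcases n with _ | n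
    · exact Subgroup.card_eq_one.1 (by rw [hn, pow_zero])
    · exact absurd hodd (Nat.not_odd_iff_even.2 (Nat.even_pow.2 ⟨even_two, n.succ_ne_zero⟩))
  obtain ⟨t, ht⟩ := hφ.2 ⟨_, horb ⟨k, hk⟩⟩
  have ht' : (t : G) • c = k • c := congrArg Subtype.val ht
  have htA : (t : G) ∈ A := ⟨t.2, k, hk, ht'⟩
  rw [hA1, mem_bot] at htA
  rw [← ht', htA, one_smul]

omit hM

/-- A2: the members at a fixed point centralising a bad involution commute. -/
theorem propCentral (hFull : PropFull.{u}) : PropCentral.{u} := by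
  intro X _ _ Δ _ E hM x a hx ha hF d hd e he
  have hcent : ∀ l ∈ locCore E x, Commute l d := by
    rcases centralises_or hM hx hF with h | h
    · exact fun l hl => h d hd.1.1 hd.2 l hl
    · intro l hl
      rw [core_eq_one hM hFull hx ha hF h hl]
      exact Commute.one_left d
  have hj := (mul_mem_locCore hM hx ha hF hd he).1
  set j := d * e * (d * e) with hjdef
  have hdd : d * d = 1 := invol_mul_self (hM.act.invol d hd.1.1)
  have hee : e * e = 1 := invol_mul_self (hM.act.invol e he.1.1)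
  have hj1 : j = 1 := by
    refine eq_one_of_odd_sq (locCore_odd x) hj ?_
    have hinv : d * j * d = e * d * (e * d) := by
      rw [hjdef]
      calc d * (d * e * (d * e)) * d = (d * d) * e * d * (e * d) := by group
        _ = e * d * (e * d) := by rw [hdd, one_mul]
    rw [← (hcent j hj).eq, mul_assoc, hdd, mul_one] at hinv
    calc j * j = e * d * (e * d) * (d * e * (d * e)) := by rw [← hjdef, ← hinv]
      _ = e * d * e * (d * d) * (e * d * e) := by group
      _ = e * d * (e * e) * (d * e) := by rw [hdd]; group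
      _ = e * (d * d) * e := by rw [hee]; group
      _ = 1 := by rw [hdd, mul_one, hee]
  show d * e = e * d
  calc d * e = d * e * (d * e) * (e * d) := by
        calc d * e = d * e * (d * (e * e) * d) := by rw [hee, mul_one, hdd, mul_one]
          _ = _ := by group
    _ = e * d := by rw [← hjdef, hj1, one_mul]

end Cfsg.Agent.Lib.Crit5.Central
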