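import Cfsg.Agent.Lib.Crit5.Counts
import Cfsg.Agent.Lib.BenderOne.Final

/-!
# The single fixed point criterion: the centraliser of a bad involution on its fixed points

`fixShape`: by Bender's theorem the group generated by the members centralising a bad involution `x`
with a four group at `a` induces on the fixed points of `x` a group with a normal `2`-subgroup of the
stabiliser of `a`, regular on the other points, of order `q ^ e`, `e ≤ 3`.
-/

set_option autoImplicit false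
set_option linter.style.haveILetI false

namespace Cfsg.Agent.Lib.Crit5

open MulAction Cfsg.Agent.Lib.Involutions.Basic Cfsg.Agent.Lib.Involutions.StronglyEmbedded
open Cfsg.Agent.Lib.Crit8 (Action Pre Bad memAt memSwap loc)

universe u

/-- **The shape of `Fix x`.** -/
theorem fixShape : PropFixShape.{u} := by
  intro G _ _ Ω _ D hM x a hx ha hfour hcomm
  classical
  haveI := hM.faithful
  haveI := CountsB.finite_points hM
  have P := hM.act.toPre
  set M := loc D x with hMdef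
  have hMx : ∀ g ∈ M, Commute g x := fun g hg =>
    Subgroup.mem_centralizer_singleton_iff.1
      ((Subgroup.closure_le (Subgroup.centralizer {x})).2
        (fun _ hd => Subgroup.mem_centralizer_singleton_iff.2 hd.2.eq) hg)
  let F := {p : Ω // x • p = p}
  letI : MulAction M F :=
    { smul := fun g p => ⟨(g : G) • p.1, by
        rw [← mul_smul, ← (hMx g g.2).eq, mul_smul, p.2]⟩
      one_smul := fun p => Subtype.ext (one_smul G p.1)
      mul_smul := fun g g' p => Subtype.ext (mul_smul (g : G) (g' : G) p.1) }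
  haveI htrM : IsPretransitive M F := ⟨fun p p' => by
    rcases eq_or_ne p.1 p'.1 with h | h
    · exact ⟨1, Subtype.ext ((one_smul G p.1).trans h)⟩
    · obtain ⟨f, hf, hfx⟩ := P.exists_swap_commute hx.invol h (Or.inl ⟨p.2, p'.2⟩)
      exact ⟨⟨f, Subgroup.subset_closure ⟨hf.1, hfx⟩⟩, Subtype.ext hf.2⟩⟩
  set φ := MulAction.toPermHom M F
  let a₀ : F := ⟨a, ha⟩
  set K := φ.range
  set π : M →* K := φ.rangeRestrict
  have hπ : Function.Surjective π := φ.rangeRestrict_surjective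
  haveI : IsPretransitive K F :=
    ⟨fun p p' => (exists_smul_eq M p p').imp' π fun _ h => h⟩
  set H := stabilizer K a₀
  have hmem : ∀ g : M, π g ∈ H ↔ (g : G) • a = a := fun g =>
    ⟨fun h => congrArg Subtype.val (show φ g a₀ = a₀ from h), fun h => Subtype.ext h⟩
  have hSE₀ := hM.act.emb_bad hx ha
  set H₀ := (stabilizer G a).subgroupOf M
  have hker : ∀ g : M, π g = 1 → g ∈ H₀.normalCore := by
    intro g hg b
    show ((b * g * b⁻¹ : M) : G) ∈ stabilizer G a
    refine (hmem _).1 ?_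
    rw [map_mul, map_mul, hg, mul_one, ← map_mul, mul_inv_cancel, map_one]
    exact one_mem H
  have hoddK : ∀ g : M, π g = 1 → Odd (orderOf g) := fun g hg =>
    (BenderConsumers23.odd_normalCore hSE₀).of_dvd_nat
      (Subgroup.orderOf_dvd_natCard _ (hker g hg))
  have hinv : ∀ {g : M}, orderOf g = 2 → orderOf (π g) = 2 := fun {g} hg => by
    refine orderOf_eq_prime (by rw [← map_pow, ← hg, pow_orderOf_eq_one, map_one]) fun h => ?_
    have := hoddK g h
    rw [hg] at this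
    exact absurd this (by decide)
  have hlift : ∀ {v : K}, orderOf v = 2 → ∃ g : M, orderOf g = 2 ∧ π g = v := by
    intro v hv
    obtain ⟨g, rfl⟩ := hπ v
    have h2 : π (g ^ 2) = 1 := by rw [map_pow, ← hv, pow_orderOf_eq_one]
    obtain ⟨k, hk⟩ := hoddK _ h2
    have himg : π (g ^ orderOf (g ^ 2)) = π g := by
      rw [hk, pow_succ, pow_mul, map_mul, map_pow, h2, one_pow, one_mul]
    refine ⟨g ^ orderOf (g ^ 2), orderOf_eq_prime ?_ fun h => ?_, himg⟩
    · rw [← pow_mul, mul_comm, pow_mul, pow_orderOf_eq_one]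
    · rw [h, map_one] at himg
      rw [← himg, orderOf_one] at hv
      exact absurd hv (by decide)
  -- the members at `a`
  have hB : ∀ d ∈ memCent D x a, d ∈ M := fun d hd => Subgroup.subset_closure ⟨hd.1.1, hd.2⟩
  have hBord : ∀ (d : G) (hd : d ∈ memCent D x a), orderOf (⟨d, hB d hd⟩ : M) = 2 :=
    fun d hd => (Subgroup.orderOf_mk d (hB d hd)).trans (P.invol d hd.1.1)
  have hinj : ∀ (d e : G) (hd : d ∈ memCent D x a) (he : e ∈ memCent D x a),
      π ⟨d, hB d hd⟩ = π ⟨e, hB e he⟩ → d = e := by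
    intro d e hd he h
    have h1 : π (⟨d, hB d hd⟩ * ⟨e, hB e he⟩) = 1 := by
      rw [map_mul, h, ← map_mul, show (⟨e, hB e he⟩ : M) * ⟨e, hB e he⟩ = 1 from
        Subtype.ext (invol_mul_self (P.invol e he.1.1)), map_one]
    have h2 : ((⟨d, hB d hd⟩ : M) * ⟨e, hB e he⟩) ^ 2 = 1 := Subtype.ext (by
      show (d * e) ^ 2 = 1
      rw [(hcomm d hd e he).mul_pow, pow_two, pow_two, invol_mul_self (P.invol d hd.1.1),
        invol_mul_self (P.invol e he.1.1), one_mul])
    have h3 : orderOf ((⟨d, hB d hd⟩ : M) * ⟨e, hB e he⟩) = 1 := Nat.Coprime.eq_one_of_dvd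
      (Nat.coprime_two_right.2 (hoddK _ h1)) (orderOf_dvd_of_pow_eq_one h2)
    have h4 : d * e = 1 := congrArg Subtype.val (orderOf_eq_one_iff.1 h3)
    rw [eq_inv_of_mul_eq_one_left h4, invol_inv (P.invol e he.1.1)]
  obtain ⟨d, hd, e, he, hde, hdec⟩ := hfour
  have hfour' : BenderOne20.HasFour H := by
    refine ⟨π ⟨d, hB d hd⟩, (hmem _).2 hd.1.2, π ⟨e, hB e he⟩, (hmem _).2 he.1.2,
      hinv (hBord d hd), hinv (hBord e he), fun h => hde (hinj d e hd he h), ?_⟩
    rw [← map_mul, ← map_mul]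
    exact congrArg π (Subtype.ext hdec.eq)
  obtain ⟨b, hxb, hba⟩ : ∃ b : Ω, x • b = b ∧ b ≠ a := by
    obtain ⟨p, p', hne, hp, hp'⟩ := hx.two
    by_cases h : p = a
    · exact ⟨p', hp', h ▸ hne.symm⟩
    · exact ⟨p, hp, h⟩
  have hSE : Cfsg.IsStronglyEmbedded H := by
    refine of_forall_conj (fun h => ?_) ?_ fun v hv hv2 g hg => ?_
    · obtain ⟨g, hg⟩ := exists_smul_eq M a₀ (⟨b, hxb⟩ : F)
      have h1 := (hmem g).1 (h ▸ Subgroup.mem_top _)
      exact hba ((congrArg Subtype.val hg).symm.trans h1)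
    · rw [even_iff_two_dvd, ← hinv (hBord d hd)]
      exact Subgroup.orderOf_dvd_natCard _ ((hmem _).2 hd.1.2)
    · obtain ⟨s, hs, rfl⟩ := hlift hv2
      obtain ⟨g', rfl⟩ := hπ g
      rw [← map_inv, ← map_mul, ← map_mul, hmem] at hg
      rw [hmem]
      exact Subgroup.mem_subgroupOf.1 (mem_of_conj_mem hSE₀ hs
        (Subgroup.mem_subgroupOf.2 ((hmem s).1 hv)) (Subgroup.mem_subgroupOf.2 hg))
  have hcore : H.normalCore = ⊥ := by
    refine eq_bot_iff.2 fun v hv => Subgroup.mem_bot.2 (Subtype.ext (Equiv.ext fun p => ?_))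
    obtain ⟨g, rfl⟩ := exists_smul_eq K a₀ p
    show v • g • a₀ = g • a₀
    have h : (g⁻¹ * v * g⁻¹⁻¹) • a₀ = a₀ := hv g⁻¹
    rw [inv_inv, mul_smul, mul_smul, inv_smul_eq_iff] at h
    exact h
  obtain ⟨Q, -, hR⟩ := BenderOne.propSplitFinal K H hSE hfour' hcore
  obtain ⟨t, ht, htH⟩ := BenderOne.exists_invol_not_mem hSE
  have hgood := BenderSuzuki.propMain K (K ⧸ H) _ t Q
    (BenderOne.hyp hSE hfour' hcore hR ht htH)
  refine ⟨fun b c hb hc hb' hc' => ?_, ?_⟩
  · obtain ⟨g₁, hg₁⟩ := exists_smul_eq K a₀ (⟨b, hb⟩ : F)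
    obtain ⟨g₂, hg₂⟩ := exists_smul_eq K a₀ (⟨c, hc⟩ : F)
    obtain ⟨q, hq, hq'⟩ := hR.trans g₁ g₂
      (fun h => hb' (congrArg Subtype.val (hg₁.symm.trans h)))
      (fun h => hc' (congrArg Subtype.val (hg₂.symm.trans h)))
    obtain ⟨g, rfl⟩ := hπ q
    refine ⟨g, hMx g g.2, (hmem g).1 (hR.le hq), ?_⟩
    have h : (g₂⁻¹ * (π g * g₁)) • a₀ = a₀ := hq'
    rw [mul_smul, inv_smul_eq_iff, mul_smul, hg₁, hg₂] at h
    exact congrArg Subtype.val h
  -- the numbers
  have hst : stabilizer K (((1 : K) : K ⧸ H)) = H := stabilizer_quotient H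
  have hq : BenderSuzuki.qNum K (((1 : K) : K ⧸ H)) = Nat.card (memCent D x a) + 1 := by
    rw [BenderSuzuki.qNum]
    congr 1
    refine (Nat.card_eq_of_bijective (fun d : memCent D x a =>
      (⟨π ⟨d.1, hB d.1 d.2⟩, by rw [hst]; exact (hmem _).2 d.2.1.2,
        invol_ne_one (hinv (hBord _ d.2)), invol_mul_self (hinv (hBord _ d.2))⟩ :
        BenderSuzuki.invs K (((1 : K) : K ⧸ H)))) ⟨fun d d' h => ?_, ?_⟩).symm
    · exact Subtype.ext (hinj d.1 d'.1 d.2 d'.2 (congrArg Subtype.val h))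
    · rintro ⟨v, hv, hv1, hvv⟩
      have hvH : v ∈ H := hst ▸ hv
      obtain ⟨g, hg⟩ := isConj_iff.1
        (isConj_involutions hSE (hinv (hBord d hd)) (invol_iff.2 ⟨hvv, hv1⟩))
      obtain ⟨g', rfl⟩ := hπ g
      set s := g' * ⟨d, hB d hd⟩ * g'⁻¹
      have hs : π s = v := by rw [← hg, map_mul, map_mul, map_inv]
      have hsD : (s : G) ∈ D := P.conj _ d hd.1.1
      exact ⟨⟨(s : G), ⟨hsD, (hmem s).1 (hs ▸ hvH)⟩, hMx s s.2⟩, Subtype.ext hs⟩
  have hcard : Nat.card F = Nat.card Q + 1 := by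
    obtain ⟨g₁, hg₁⟩ := exists_smul_eq K a₀ (⟨b, hxb⟩ : F)
    have hg₁H : g₁ ∉ H := fun h => hba (congrArg Subtype.val (hg₁.symm.trans h))
    let f : Q → {p : F // p ≠ a₀} := fun q => ⟨((q : K) * g₁) • a₀, fun h => hg₁H
      ((Subgroup.mul_mem_cancel_left H (hR.le q.2)).1 h)⟩
    have hf : Function.Bijective f := by
      constructor
      · intro q q' h
        have h' : ((q : K) * g₁) • a₀ = ((q' : K) * g₁) • a₀ :=
          congrArg Subtype.val h
        have h1 := hR.free g₁ hg₁H _ (mul_mem (inv_mem q'.2) q.2) (by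
          show (g₁⁻¹ * ((q' : K)⁻¹ * q * g₁)) • a₀ = a₀
          rw [mul_assoc (q' : K)⁻¹, mul_smul, mul_smul, h', mul_smul, inv_smul_smul,
            inv_smul_smul])
        exact Subtype.ext (inv_mul_eq_one.1 h1).symm
      · rintro ⟨p, hp⟩
        obtain ⟨g₂, hg₂⟩ := exists_smul_eq K a₀ p
        obtain ⟨q, hq, hq'⟩ := hR.trans g₁ g₂ hg₁H (fun h => hp (hg₂.symm.trans h))
        refine ⟨⟨q, hq⟩, Subtype.ext ?_⟩
        have h : (g₂⁻¹ * (q * g₁)) • a₀ = a₀ := hq'
        rw [mul_smul, inv_smul_eq_iff, hg₂] at h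
        exact h
    rw [Nat.card_eq_of_bijective f hf]
    haveI : Fintype F := Fintype.ofFinite F
    rw [Nat.card_eq_fintype_card, Nat.card_eq_fintype_card, Fintype.card_subtype_compl,
      Fintype.card_subtype_eq]
    exact (Nat.sub_add_cancel (Fintype.card_pos_iff.2 ⟨a₀⟩)).symm
  rw [← hq]
  obtain ⟨-, L, -, -, -, -, hcase⟩ := hgood
  rcases hcase with ⟨hc, -⟩ | ⟨hc, -⟩ | ⟨hc, -⟩
  · exact ⟨1, Or.inl rfl, by rw [hcard, hc, pow_one]⟩
  · exact ⟨2, Or.inr (Or.inl rfl), by rw [hcard, hc]⟩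
  · exact ⟨3, Or.inr (Or.inr rfl), by rw [hcard, hc]⟩

/-- **Section B**, with the shape of `Fix x` discharged. -/
theorem countsFinal (hC : PropCentral.{u}) : PropCounts.{u} :=
  counts hC fixShape

end Cfsg.Agent.Lib.Crit5
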