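import Cfsg.Agent.Lib.Crit5.FullShape
import Cfsg.Agent.Lib.BenderOne20.RankOne

/-!
# The single fixed point criterion, section A1: elementary facts on the candidates

In a proper `Y` generated by members at two points every involution is a member and the kernel on
the orbit is `O(Y)`.

Owner: helper76.
-/

set_option autoImplicit false
set_option linter.style.haveILetI false

namespace Cfsg.Agent.Lib.Crit5.Full

open Subgroup MulAction Cfsg.Agent.Lib.Involutions.Basic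
open Cfsg.Agent.Lib.Crit8 (Pre Action memAt memSwap part)
open Cfsg.Agent.Lib.Crit5.Facts (oddC)

universe u

variable {G Ω : Type u} [Group G] [MulAction G Ω] [Finite G] {D : Set G} {a b : Ω} {Y : Subgroup G}

/-- What strong embedding of the point stabiliser gives directly. -/
theorem Big.elementary (hM : Min G Ω D) (hab : a ≠ b) (hY : Big D a b Y) :
    Cfsg.IsStronglyEmbedded ((stabilizer G a).subgroupOf Y) ∧
      (∀ s ∈ Y, orderOf s = 2 → s ∈ D) ∧
      (∀ y ∈ Y, (∀ x ∈ orbit Y a, y • x = x) → y ∈ oddC Y) ∧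
      ∀ y ∈ oddC Y, ∀ x ∈ orbit Y a, y • x = x := by
  haveI := hM.faithful
  have h := hM.act
  obtain ⟨d, hd, e, he, hdY, heY, hne, hc⟩ := hY.four
  obtain ⟨f, hf, hfY⟩ := hY.atB
  have hmove : ∃ y ∈ Y, y • a ≠ a := ⟨f, hfY, fun h' => hab (h.eq_of_fix hf.1 h' hf.2)⟩
  have hgen : closure {x | x ∈ D ∧ x ∈ Y} = Y := by
    refine le_antisymm ((closure_le _).2 fun x hx => hx.2) ?_
    conv_lhs => rw [← hY.gen]
    exact closure_mono fun x hx => ⟨hx.1.elim (fun h' => h'.1) (fun h' => h'.1), hx.2⟩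
  have hSE := Facts.sub_stronglyEmbedded hM hY.ne_top hgen hd hdY hmove
  have hinv : ∀ s ∈ Y, orderOf s = 2 → s ∈ D := by
    intro s hs hs2
    obtain ⟨g, hg⟩ := isConj_iff.1 (Involutions.StronglyEmbedded.isConj_involutions hSE
      (s := (⟨d, hdY⟩ : Y)) (t := (⟨s, hs⟩ : Y)) ((Subgroup.orderOf_mk d hdY).trans (h.invol d hd.1))
      ((Subgroup.orderOf_mk s hs).trans hs2))
    have hgs : (g : G) * d * (g : G)⁻¹ = s := congrArg Subtype.val hg
    rw [← hgs]
    exact h.conj _ d hd.1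
  have hfour : BenderOne20.HasFour ((stabilizer G a).subgroupOf Y) :=
    ⟨⟨d, hdY⟩, hd.2, ⟨e, heY⟩, he.2, (Subgroup.orderOf_mk d hdY).trans (h.invol d hd.1),
      (Subgroup.orderOf_mk e heY).trans (h.invol e he.1), fun h' => hne (congrArg Subtype.val h'),
      Subtype.ext hc.eq⟩
  refine ⟨hSE, hinv, fun y hy hfix => ?_, fun y hy x hx => ?_⟩
  · refine Facts.le_oddC (K := Y) (N := Y ⊓ fixingSubgroup G (orbit Y a)) inf_le_left ?_ ?_
      (mem_inf.2 ⟨hy, (mem_fixingSubgroup_iff G).2 hfix⟩)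
    · intro k hk n hn
      refine mem_inf.2 ⟨mul_mem (mul_mem hk hn.1) (inv_mem hk),
        (mem_fixingSubgroup_iff G).2 fun x hx => ?_⟩
      have hk' : k⁻¹ • x ∈ orbit Y a := by
        obtain ⟨z, rfl⟩ := hx
        exact ⟨(⟨k, hk⟩ : Y)⁻¹ * z, mul_smul ((⟨k, hk⟩ : Y)⁻¹ : Y) z a⟩
      rw [mul_smul, mul_smul, (mem_fixingSubgroup_iff G).1 hn.2 _ hk', smul_inv_smul]
    · refine (odd_card_iff_no_invol _).2 fun s hs hs2 => ?_
      have hsD := hinv s hs.1 hs2
      have hsa : s • a = a := (mem_fixingSubgroup_iff G).1 hs.2 a (mem_orbit_self a)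
      have hsfa : s • f • a = f • a :=
        (mem_fixingSubgroup_iff G).1 hs.2 _ ⟨(⟨f, hfY⟩ : Y), rfl⟩
      exact hab (h.eq_of_fix hf.1 (h.eq_of_fix hsD hsfa hsa) hf.2)
  · obtain ⟨y, hy', rfl⟩ := hy
    obtain ⟨⟨z, hz⟩, rfl⟩ := hx
    haveI : (Cfsg.oddCore ↥Y).Normal := by unfold Cfsg.oddCore; infer_instance
    have h1 := BenderOne20.oddCore_le hSE hfour
      ((inferInstance : (Cfsg.oddCore ↥Y).Normal).conj_mem y hy' (⟨z, hz⟩ : Y)⁻¹)
    have h2 : (z⁻¹ * (y : G) * z⁻¹⁻¹) • a = a := h1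
    rw [inv_inv, mul_smul, mul_smul, inv_smul_eq_iff] at h2
    exact h2

end Cfsg.Agent.Lib.Crit5.Full
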