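import Cfsg.Agent.Lib.Crit5.FullBase

/-!
# The single fixed point criterion, section A1: a violation gives a proper subgroup of a full pair

Among the candidates the Sylow part `R` of `O_ab ⊓ N(Y)` is largest.  Then `R` is Sylow in `O_ab`,
`W₀ = O_{p'}(O_ab)` fixes the point `c` of a swapper, and `[W₀, Z(J(R))]` (or `Z(J(R))` when this is
trivial) has a proper normaliser with a member at `a`, `O_ab` and a swapper, so with all members at
`a` and `b`.

Owner: helper76.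
-/

set_option autoImplicit false
set_option linter.style.haveILetI false

namespace Cfsg.Agent.Lib.Crit5.Full

open Subgroup MulAction Cfsg.Agent.Lib.Involutions.Basic
open Cfsg.Agent.Lib.Crit8 (Pre Action memAt memSwap part)
open Cfsg.Agent.Lib.Crit5.Facts (oddC)
open Cfsg.Agent.Lib.BenderOne20 (SylowIn)
open scoped commutatorElement

universe u

variable {G Ω : Type u} [Group G] [MulAction G Ω] [Finite G] [FaithfulSMul G Ω] {D : Set G}
  (h : Action G Ω D) {a b : Ω} (hab : a ≠ b)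
include h hab

omit hab in
/-- A nontrivial subgroup fixing a point has a proper normaliser. -/
theorem normalizer_ne_top {X : Subgroup G} (hX : X ≠ ⊥) {x : Ω} (hXx : X ≤ stabilizer G x) :
    normalizer (X : Set G) ≠ ⊤ := by
  intro htop
  refine hX (eq_bot_iff.2 fun k hk => mem_bot.2 (FaithfulSMul.eq_of_smul_eq_smul (α := Ω)
    fun z => ?_))
  haveI := h.trans
  obtain ⟨g, rfl⟩ := exists_smul_eq G x z
  have hg : g⁻¹ ∈ normalizer (X : Set G) := htop ▸ mem_top _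
  have h1 : (g⁻¹ * k * g) • x = x := hXx (by simpa using (mem_normalizer_iff.1 hg k).1 hk)
  rw [one_smul]
  rw [mul_smul, mul_smul, inv_smul_eq_iff] at h1
  exact h1

/-- A violation gives a candidate. -/
theorem exists_cand (hV : Viol D a b) : ∃ p Y, p.Prime ∧ Cand D a b p Y := by
  obtain ⟨-, M, hne, ⟨x, hx, hxM⟩, ⟨d, hd, e, he, hdM, heM, hde, hc⟩, f, hf, hfM, k, hk, hfk⟩ := hV
  set Y := pairSub D M a b
  have hfY : f ∈ Y := mem_pairSub (Or.inl hf) hfM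
  have hff := invol_mul_self (h.invol f hf.1)
  set i := f * k * f⁻¹ * k⁻¹ with hi
  have hiY : i ∈ oddC Y := mul_mem (Facts.conj_mem_oddC hfY hk) (inv_mem hk)
  have hi1 : i ≠ 1 := fun e => hfk (mul_inv_eq_iff_eq_mul.1 (mul_inv_eq_one.1 e))
  have hfi : f * i * f⁻¹ = i⁻¹ := by
    rw [hi, invol_inv (h.invol f hf.1)]
    calc f * (f * k * f * k⁻¹) * f = (f * f) * (k * f * k⁻¹ * f) := by group
      _ = k * f * k⁻¹ * f := by rw [hff, one_mul]
      _ = (f * k * f * k⁻¹)⁻¹ := by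
        rw [mul_inv_rev, mul_inv_rev, mul_inv_rev, inv_inv, invol_inv (h.invol f hf.1)]
        group
  obtain ⟨p, hp, hpi⟩ := Nat.exists_prime_and_dvd (orderOf_eq_one_iff.not.2 hi1)
  refine ⟨p, Y, hp, ⟨pairSub_idem D M a b, hne, ⟨x, hx, mem_pairSub (Or.inr hx) hxM⟩,
    ⟨d, hd, e, he, mem_pairSub (Or.inl hd) hdM, mem_pairSub (Or.inl he) heM, hde, hc⟩⟩,
    f, hf, hfY, i ^ (orderOf i / p), pow_mem hiY _,
    orderOf_pow_orderOf_div (orderOf_pos i).ne' hpi, ?_⟩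
  rw [← conj_pow, hfi, inv_pow]

/-- A1, from what section S gives for the candidates. -/
theorem full_of_shape (hSh : ∀ Y, Big D a b Y → Sh D Y a b) (hV : Viol D a b) :
    closure (memAt G D a ∪ memAt G D b) ≠ ⊤ := by
  -- the largest choice
  obtain ⟨Y, p, R, hp, hC, hR, hmax⟩ : ∃ (Y : Subgroup G) (p : ℕ) (R : Subgroup G), p.Prime ∧
      Cand D a b p Y ∧ SylowIn p R (coreNorm Y a b) ∧
      ∀ (Y' R' : Subgroup G), Cand D a b p Y' → SylowIn p R' (coreNorm Y' a b) →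
        Nat.card R' ≤ Nat.card R := by
    obtain ⟨p, Y, hp, hC⟩ := exists_cand h hab hV
    haveI := Fact.mk hp
    obtain ⟨R, hR, -⟩ := SylowIn.exists_ge (p := p) (D := coreNorm Y a b)
      (IsPGroup.of_bot : IsPGroup p (⊥ : Subgroup G)) bot_le
    obtain ⟨⟨Y', R'⟩, hm, hmax⟩ := Set.exists_max_image
      {z : Subgroup G × Subgroup G | Cand D a b p z.1 ∧ SylowIn p z.2 (coreNorm z.1 a b)}
      (fun z => Nat.card z.2) (Set.toFinite _) ⟨(Y, R), hC, hR⟩
    exact ⟨Y', p, R', hp, hm.1, hm.2, fun Y'' R'' h1 h2 => hmax (Y'', R'') ⟨h1, h2⟩⟩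
  haveI := Fact.mk hp
  have hS := hSh Y hC.toBig
  set O := oddC (stabilizer G a ⊓ stabilizer G b) with hO
  have hOodd : Odd (Nat.card O) := Facts.oddC_odd _
  have hOab : ∀ {g : G}, g ∈ O → g • a = a ∧ g • b = b := fun hg => map_subtype_le _ hg
  have hp2 : p ≠ 2 := by
    rintro rfl
    obtain ⟨d, -, -, j, hj, hjp, -⟩ := hC.moved
    exact (odd_card_iff_no_invol _).1 (Facts.oddC_odd Y) j hj hjp
  have hAN := hC.normalizer_le_inf h hab hS
  have hP : SylowIn p (R ⊓ kerIn Y a b) (kerIn Y a b) :=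
    BenderOne.NodeA.ZJAux.sylowIn_inf hR kerIn_le (inf_le_right.trans hAN)
  set P := R ⊓ kerIn Y a b with hPdef
  set X := Cfsg.centerThompsonAOf R with hX
  obtain ⟨hXP, hXd⟩ := zj_step h hab hC hS hp2 hR
  have hXR : X ≤ R := hXP.trans inf_le_left
  have hRX : R ≤ normalizer (X : Set G) :=
    le_normalizer.trans (ZJ.normalizer_le_normalizer_centerThompsonA R)
  have hPfix : ∀ {x : G}, x ∈ P → ∀ {z : Ω}, z ∈ orbit Y a → x • z = z :=
    fun hx _ hz => kerIn_fix (mem_inf.1 hx).2 hz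
  -- a four group and a swapper in `N(P)`
  set S := Y ⊓ normalizer (P : Set G) with hSdef
  obtain ⟨d₀, hd₀, e₀, he₀, hd₀S, he₀S, hne₀, hc₀⟩ := exists_four_norm h hab hC hS hP
  obtain ⟨-, eb, heb, hebS⟩ := two_points_norm h hab hC hS hP
  have hS₂ : (∃ d ∈ memAt G D a, d ∈ S) ∧ ∃ e ∈ memAt G D b, e ∈ S :=
    ⟨⟨d₀, hd₀, hd₀S⟩, eb, heb, hebS⟩
  obtain ⟨w₁, hw₁S, hw₁⟩ : ∃ w ∈ S, w ∈ memSwap G D a b := by
    have hmove : ∃ y ∈ S, y • a ≠ a := ⟨eb, hebS, fun e => hab (h.eq_of_fix heb.1 e heb.2)⟩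
    have hA := Facts.subAction h hd₀ hd₀S hmove
    obtain ⟨f, hf, hfa, -⟩ := hA.exists_swap (d := ⟨d₀, hd₀S⟩) (e := ⟨eb, hebS⟩)
      (a := ⟨a, mem_orbit_self a⟩)
      (b := ⟨b, mem_orbit_fix h hd₀ hd₀S hmove heb.1 hebS heb.2⟩)
      ⟨hd₀.1, Subtype.ext hd₀.2⟩ ⟨heb.1, Subtype.ext heb.2⟩ fun e => hab (congrArg Subtype.val e)
    exact ⟨f, f.2, hf, congrArg Subtype.val hfa⟩
  have hswapK : ∀ {w}, w ∈ memSwap G D a b → w ∈ normalizer (O : Set G) := by
    intro w hw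
    have key : ∀ {k}, k ∈ O → w * k * w⁻¹ ∈ O := fun hk => by
      have := conj_oddC_pair (g := w) hk
      rwa [hw.2, h.memSwap_smul hw, inf_comm] at this
    refine mem_normalizer_iff.2 fun k => ⟨key, fun hk => ?_⟩
    have h1 := key hk
    rwa [show w * (w * k * w⁻¹) * w⁻¹ = (w * w) * k * (w * w)⁻¹ by group,
      invol_mul_self (h.invol w hw.1), one_mul, inv_one, mul_one] at h1
  set H := coreNorm Y a b ⊓ normalizer (P : Set G) with hH
  have hRH : R ≤ H := le_inf hR.1 ((le_inf le_normalizer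
    ((hR.1.trans inf_le_right).trans hAN)).trans inf_normalizer_le_normalizer_inf)
  obtain ⟨w, hwS, hw, hwR⟩ : ∃ w ∈ S, w ∈ memSwap G D a b ∧ w ∈ normalizer (R : Set G) := by
    have hwH : w₁ ∈ normalizer (H : Set G) := by
      refine inf_normalizer_le_normalizer_inf (mem_inf.2 ⟨?_, le_normalizer (mem_inf.1 hw₁S).2⟩)
      exact inf_normalizer_le_normalizer_inf (mem_inf.2
        ⟨hswapK hw₁, le_normalizer (le_normalizer (mem_inf.1 hw₁S).1)⟩)
    obtain ⟨T, hT, -, hwT⟩ := BenderOne.LocalTools.exists_invariant (p := p)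
      (h.invol w₁ hw₁.1) hwH (hOodd.of_dvd_nat (card_dvd_of_le (inf_le_left.trans inf_le_left)))
      (bot_le : ⊥ ≤ H) IsPGroup.of_bot (mem_normalizer_iff.2 fun x => by simp)
    have hR' : SylowIn p R H := by
      obtain ⟨R', hR', hRR'⟩ := SylowIn.exists_ge (p := p) hR.isPGroup hRH
      rwa [hR.eq_of_le hRR' (hR'.1.trans inf_le_left) hR'.isPGroup] at hR'
    obtain ⟨k, hk, hkT⟩ := hT.conj_eq hR'
    refine ⟨k * w₁ * k⁻¹, mem_inf.2 ⟨(mem_normalizer_iff.1 (mem_inf.1 hk.1).2 w₁).1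
      (mem_inf.1 hw₁S).1, mul_mem (mul_mem hk.2 (mem_inf.1 hw₁S).2) (inv_mem hk.2)⟩,
      ⟨h.conj k w₁ hw₁.1, ?_⟩, ?_⟩
    · obtain ⟨ha, hb⟩ := hOab (mem_inf.1 hk.1).1
      rw [mul_smul, mul_smul, inv_smul_eq_iff.2 ha.symm, hw₁.2, hb]
    · rw [← hkT]
      exact le_normalizer_map _ ⟨w₁, hwT, rfl⟩
  have hwX : w ∈ normalizer (X : Set G) := ZJ.normalizer_le_normalizer_centerThompsonA R hwR
  have hSXa : ∀ {d}, d ∈ memAt G D a → d ∈ S → d ∈ normalizer (X : Set G) :=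
    fun hd hdS => hXd _ hd hdS
  have hSXb : ∀ {d}, d ∈ memAt G D b → d ∈ S → d ∈ normalizer (X : Set G) := by
    intro d hd hdS
    have h1 := h.conj_mem_memAt (g := w) hd
    rw [h.memSwap_smul hw] at h1
    have h2 := hSXa h1 (mul_mem (mul_mem hwS hdS) (inv_mem hwS))
    simpa [mul_assoc] using mul_mem (mul_mem (inv_mem hwX) h2) hwX
  -- `X ≠ ⊥`
  obtain ⟨x₀, hx₀, hx₀1, hx₀d⟩ := all_inverting h hab hC hS hP hd₀.1 hd₀S
  have hRne : R ≠ ⊥ := fun e => hx₀1 (mem_bot.1 (e ▸ (mem_inf.1 hx₀).1))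
  have hXne : X ≠ ⊥ := BenderOne.LocalTools.zj_ne_bot hR.isPGroup hRne
  have hNXne : normalizer (X : Set G) ≠ ⊤ :=
    normalizer_ne_top h hXne (x := a) fun x hx => hPfix (hXP hx) (mem_orbit_self a)
  -- the new candidate
  set Y' := pairSub D (normalizer (X : Set G)) a b with hY'
  have hY'ne : Y' ≠ ⊤ :=
    fun e => hNXne (top_le_iff.1 (e.symm.le.trans (pairSub_le D _ a b)))
  have hBig : Big D a b Y' := ⟨pairSub_idem D _ a b, hY'ne,
    ⟨eb, heb, mem_pairSub (Or.inr heb) (hSXb heb hebS)⟩,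
    ⟨d₀, hd₀, e₀, he₀, mem_pairSub (Or.inl hd₀) (hSXa hd₀ hd₀S),
      mem_pairSub (Or.inl he₀) (hSXa he₀ he₀S), hne₀, hc₀⟩⟩
  have hS' := hSh Y' hBig
  obtain ⟨j, hj, hjp, hdj⟩ : ∃ j, j ∈ oddC Y' ∧ orderOf j = p ∧ d₀ * j * d₀⁻¹ = j⁻¹ := by
    have hxa : x₀ • a = a := hPfix hx₀ (mem_orbit_self a)
    have hxN : x₀ ∈ normalizer (X : Set G) := hRX (mem_inf.1 hx₀).1
    obtain ⟨n, hn⟩ : Odd (orderOf x₀) := kerIn_odd.of_dvd_nat
      (Subgroup.orderOf_dvd_natCard _ (mem_inf.1 hx₀).2)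
    have hdd := invol_mul_self (h.invol d₀ hd₀.1)
    have he' := h.conj_mem_memAt (g := x₀) hd₀
    rw [hxa] at he'
    set e' := x₀ * d₀ * x₀⁻¹ with he'def
    have hd₀Y' : d₀ ∈ Y' := mem_pairSub (Or.inl hd₀) (hSXa hd₀ hd₀S)
    have he'Y' : e' ∈ Y' :=
      mem_pairSub (Or.inl he') (mul_mem (mul_mem hxN (hSXa hd₀ hd₀S)) (inv_mem hxN))
    have hsq : e' * d₀ = x₀ * x₀ := by
      have h1 : d₀ * x₀⁻¹ * d₀⁻¹ = x₀ := by rw [← conj_inv, hx₀d, inv_inv]
      rw [invol_inv (h.invol d₀ hd₀.1)] at h1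
      calc e' * d₀ = x₀ * (d₀ * x₀⁻¹ * d₀) := by rw [he'def]; group
        _ = x₀ * x₀ := by rw [h1]
    have hxY' : x₀ ∈ Y' := by
      have h1 := pow_mem (mul_mem he'Y' hd₀Y') (n + 1)
      rwa [hsq, ← pow_two, ← pow_mul, show 2 * (n + 1) = orderOf x₀ + 1 by omega, pow_succ,
        pow_orderOf_eq_one, one_mul] at h1
    -- a provisional candidate needs only the kernel of the orbit
    obtain ⟨k, hk, hkpow⟩ : ∃ k : ℕ, orderOf (x₀ ^ k) = p ∧ d₀ * x₀ ^ k * d₀⁻¹ = (x₀ ^ k)⁻¹ := by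
      obtain ⟨i, hi⟩ := IsPGroup.iff_orderOf.1 hP.isPGroup ⟨x₀, hx₀⟩
      rw [Subgroup.orderOf_mk] at hi
      rcases i with - | i
      · exact absurd (orderOf_eq_one_iff.1 hi) hx₀1
      · refine ⟨p ^ i, ?_, by rw [← conj_pow, hx₀d, inv_pow]⟩
        rw [orderOf_pow' _ (pow_ne_zero _ hp.ne_zero), hi,
          Nat.gcd_eq_right (pow_dvd_pow p i.le_succ), pow_succ,
          Nat.mul_div_cancel_left _ (pow_pos hp.pos i)]
    refine ⟨x₀ ^ k, pow_mem ?_ k, hk, hkpow⟩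
    have hinv : d₀ * e' = (x₀ * x₀)⁻¹ := by
      rw [← hsq, mul_inv_rev, invol_inv (h.invol d₀ hd₀.1), invol_inv (h.invol e' he'.1)]
    have h4 : (x₀ * x₀) * (x₀ * x₀) ∈ oddC Y' := hS'.ker_le _
      (mul_mem (mul_mem hxY' hxY') (mul_mem hxY' hxY')) fun z hz => by
        have h1 := hS'.comm e' he' he'Y' d₀ hd₀ hd₀Y' z hz
        rw [hsq, hinv] at h1
        rw [mul_smul, h1, smul_inv_smul]
    have h5 := pow_mem h4 ((n + 1) * (n + 1))
    have h6 : orderOf x₀ ∣ 4 * ((n + 1) * (n + 1)) - 1 := ⟨2 * n + 3, by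
      rw [hn, Nat.sub_eq_iff_eq_add (by nlinarith)]; ring⟩
    rwa [show x₀ * x₀ * (x₀ * x₀) = x₀ ^ 4 by simp only [pow_succ, pow_zero, one_mul, mul_assoc], ← pow_mul,
      show 4 * ((n + 1) * (n + 1)) = (4 * ((n + 1) * (n + 1)) - 1) + 1 by
        rw [Nat.sub_add_cancel (by nlinarith)],
      pow_succ, orderOf_dvd_iff_pow_eq_one.1 h6, one_mul] at h5
  have hC' : Cand D a b p Y' :=
    ⟨hBig, d₀, hd₀, mem_pairSub (Or.inl hd₀) (hSXa hd₀ hd₀S), j, hj, hjp, hdj⟩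
  -- `R` is a Sylow subgroup of `O`
  have hnorm : ∀ g ∈ normalizer (X : Set G), g • a = a → g • b = b →
      g ∈ normalizer (Y' : Set G) := by
    intro g hg ha hb
    have key : ∀ g : G, g ∈ normalizer (X : Set G) → g • a = a → g • b = b →
        ∀ y ∈ Y', g * y * g⁻¹ ∈ Y' := by
      intro g hg ha hb y hy
      induction hy using Subgroup.closure_induction with
      | mem y hy =>
        refine mem_pairSub ?_ (mul_mem (mul_mem hg hy.2) (inv_mem hg))
        rcases hy.1 with h1 | h1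
        · have h2 := h.conj_mem_memAt (g := g) h1
          rw [ha] at h2
          exact Or.inl h2
        · have h2 := h.conj_mem_memAt (g := g) h1
          rw [hb] at h2
          exact Or.inr h2
      | one => simp
      | mul y z _ _ hy hz =>
        have := mul_mem hy hz
        rwa [show g * y * g⁻¹ * (g * z * g⁻¹) = g * (y * z) * g⁻¹ by group] at this
      | inv y _ hy =>
        have := inv_mem hy
        rwa [show (g * y * g⁻¹)⁻¹ = g * y⁻¹ * g⁻¹ by group] at this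
    refine mem_normalizer_iff.2 fun y => ⟨key g hg ha hb y, fun hy => ?_⟩
    simpa [mul_assoc] using key g⁻¹ (inv_mem hg) (inv_smul_eq_iff.2 ha.symm)
      (inv_smul_eq_iff.2 hb.symm) _ hy
  have hRO : R ≤ O := hR.1.trans inf_le_left
  have hle' : R ≤ coreNorm Y' a b := fun x hx =>
    mem_inf.2 ⟨hRO hx, hnorm x (hRX hx) (hOab (hRO hx)).1 (hOab (hRO hx)).2⟩
  have hRO' : SylowIn p R O := by
    obtain ⟨R', hR', hRR'⟩ := SylowIn.exists_ge (p := p) hR.isPGroup hle'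
    rw [← eq_of_le_of_card_ge hRR' (hmax Y' R' hC' hR')] at hR'
    refine SylowIn.of_normalizer hRO hR' fun g hg => mem_inf.2 ⟨hg.1, hnorm g
      (ZJ.normalizer_le_normalizer_centerThompsonA R hg.2) (hOab hg.1).1 (hOab hg.1).2⟩
  haveI : Group.IsSolvable O := BenderOne.LocalTools.isSolvable_odd hOodd
  have hZJ := zj_cover (p := p) hp2 hRO' fun T hT hT2 x hx y hy => by
    have hx1 : x = 1 := by
      obtain ⟨i, hi⟩ := IsPGroup.iff_orderOf.1 hT2 ⟨x, hx⟩
      rw [Subgroup.orderOf_mk] at hi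
      refine orderOf_eq_one_iff.1 (Nat.Coprime.eq_one_of_dvd (k := orderOf x) ?_ dvd_rfl)
      conv_rhs => rw [hi]
      exact Nat.Coprime.pow_right i (Nat.coprime_two_right.2
        (hOodd.of_dvd_nat (Subgroup.orderOf_dvd_natCard _ (hT hx))))
    rw [hx1]
    exact Commute.one_left y
  set W₀ := Balance.coreIn p O with hW₀
  have hW₀O : W₀ ≤ O := Balance.coreIn_le _
  have hW₀p : ¬ p ∣ Nat.card W₀ := Balance.not_dvd_card_coreIn _
  have hOW₀ : O ≤ normalizer (W₀ : Set G) := Balance.le_normalizer_coreIn _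
  have hNO : ∀ {g}, g ∈ normalizer (O : Set G) → g ∈ normalizer (W₀ : Set G) :=
    fun hg => Balance.normalizer_le_normalizer_coreIn _ hg
  have hfixO : ∀ {g : G}, g • a = a → g • b = b → g ∈ normalizer (O : Set G) := by
    intro g ha hb
    have key : ∀ {g : G}, g • a = a → g • b = b → ∀ {k}, k ∈ O → g * k * g⁻¹ ∈ O :=
      fun {g} ha hb {k} hk => by
        have := conj_oddC_pair (g := g) hk
        rwa [ha, hb] at this
    refine mem_normalizer_iff.2 fun k => ⟨key ha hb, fun hk => ?_⟩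
    simpa [mul_assoc] using
      key (inv_smul_eq_iff.2 ha.symm) (inv_smul_eq_iff.2 hb.symm) hk
  -- the point of the swapper
  obtain ⟨c, hwc⟩ := (h.one w hw.1).exists
  have hcY : c ∈ orbit Y a := mem_orbit_fix h hd₀ (mem_inf.1 hd₀S).1 (hC.move h hab) hw.1
    (mem_inf.1 hwS).1 hwc
  have hca : c ≠ a := fun e => hab ((e ▸ hwc).symm.trans hw.2)
  have hcb : c ≠ b := fun e => hab ((h.memSwap_smul hw).symm.trans (e ▸ hwc))
  have hW₀c : W₀ ≤ stabilizer G c := by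
    obtain ⟨g, hg, hgw⟩ := conj_in h hab hS₂ hd₀.1 hd₀S hw.1 hwS
    have hfD := h.conj g e₀ he₀.1
    have hfc : Commute w (g * e₀ * g⁻¹) := hgw ▸ (Commute.conj_iff g).2 hc₀
    obtain ⟨x, hx, hx1, hwx⟩ := all_inverting h hab hC hS hP hw.1 hwS
    exact invariant_le_stabilizer h (u := w) (e := g * e₀ * g⁻¹) ⟨hw.1, hwc⟩
      ⟨hfD, h.smul_eq_of_commute hw.1 hwc hfc⟩
      (fun e => hne₀ (mul_left_cancel (mul_right_cancel (hgw.trans e)))) hfc.eq hP.isPGroup hp2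
      (fun x hx => hPfix hx hcY) (mem_inf.1 hwS).2
      (mul_mem (mul_mem (mem_inf.1 hg).2 (mem_inf.1 he₀S).2) (inv_mem (mem_inf.1 hg).2))
      ⟨x, hx, hx1, hwx⟩ (hOodd.of_dvd_nat (card_dvd_of_le hW₀O)) hW₀p (hNO (hswapK hw))
      ((inf_le_left.trans hRO).trans hOW₀)
  -- the elements of `N(P) ∩ N(X)` have all actions of `Y`
  set Y₁ := S ⊓ normalizer (X : Set G) with hY₁
  set F := Y ⊓ fixingSubgroup G (orbit Y a) with hF
  have hYF : Y ≤ normalizer (F : Set G) :=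
    (le_inf le_normalizer (le_normalizer.trans (hC.normalizer_le_fix h hab))).trans
      inf_normalizer_le_normalizer_inf
  have hYcov : Y ≤ Y₁ ⊔ F := by
    conv_lhs => rw [← hC.gen]
    refine (closure_le _).2 ?_
    have key : ∀ c, c ∈ orbit Y a → ∀ d ∈ memAt G D c, d ∈ Y →
        (∀ d', d' ∈ memAt G D c → d' ∈ S → d' ∈ normalizer (X : Set G)) → d ∈ Y₁ ⊔ F := by
      intro c hc d hd hdY hX'
      obtain ⟨d', hd', hd'S, hsame⟩ := exists_replace_at h hab hC hS hP hd hc hdY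
      rw [show d = d' * (d'⁻¹ * d) by group]
      refine mul_mem (mem_sup_left (mem_inf.2 ⟨hd'S, hX' d' hd' hd'S⟩)) (mem_sup_right
        (mem_inf.2 ⟨mul_mem (inv_mem (mem_inf.1 hd'S).1) hdY,
          (mem_fixingSubgroup_iff G).2 fun z hz => ?_⟩))
      rw [mul_smul, ← hsame z hz, inv_smul_smul]
    rintro d ⟨hd | hd, hdY⟩
    · exact key a (mem_orbit_self a) d hd hdY fun d' => hSXa
    · exact key b (hC.b_mem h hab) d hd hdY fun d' => hSXb
  have hrep : ∀ y ∈ Y, ∃ y₁ ∈ Y₁, ∃ k ∈ F, y = y₁ * k := fun y hy =>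
    Coprime.exists_mul_of_mem_sup ((inf_le_left.trans inf_le_left).trans hYF) (hYcov hy)
  have hFfix : ∀ {k}, k ∈ F → ∀ {z}, z ∈ orbit Y a → k • z = z :=
    fun hk _ hz => (mem_fixingSubgroup_iff G).1 (mem_inf.1 hk).2 _ hz
  obtain ⟨g, hgY₁, hga, hgb⟩ : ∃ g ∈ Y₁, g • a = c ∧ g • b = a := by
    obtain ⟨g, hgY, hga, hgb⟩ := hS.two_trans c hcY a (mem_orbit_self a) hca
    obtain ⟨y₁, hy₁, k, hk, rfl⟩ := hrep g hgY
    rw [mul_smul, hFfix hk (mem_orbit_self a)] at hga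
    rw [mul_smul, hFfix hk (hC.b_mem h hab)] at hgb
    exact ⟨y₁, hy₁, hga, hgb⟩
  have hgX : X.map (MulAut.conj g).toMonoidHom = X :=
    mem_normalizer_iff_map_conj_eq.1 (mem_inf.1 hgY₁).2
  set Z := ⁅W₀, X⁆ with hZ
  have hXO : X ≤ O := hXR.trans hRO
  have hXW₀ : X ≤ normalizer (W₀ : Set G) := hXO.trans hOW₀
  have hgZ : g ∈ normalizer (Z : Set G) := by
    set O' := oddC (stabilizer G c ⊓ stabilizer G a) with hO'
    have hmap : O.map (MulAut.conj g).toMonoidHom = O' := by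
      refine le_antisymm ?_ fun k hk => ⟨g⁻¹ * k * g, ?_, ?_⟩
      · rintro _ ⟨k, hk, rfl⟩
        have := conj_oddC_pair (g := g) hk
        rwa [hga, hgb] at this
      · have := conj_oddC_pair (g := g⁻¹) hk
        rwa [inv_inv, inv_smul_eq_iff.2 hga.symm, inv_smul_eq_iff.2 hgb.symm] at this
      · show g * (g⁻¹ * k * g) * g⁻¹ = k
        group
    have hXO' : X ≤ O' := by
      rw [← hmap, ← hgX]
      exact map_mono hXO
    have hW₀O' : W₀ ≤ normalizer (O' : Set G) := by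
      have key : ∀ v ∈ W₀, ∀ k ∈ O', v * k * v⁻¹ ∈ O' := fun v hv k hk =>
        Facts.conj_mem_oddC (mem_inf.2 ⟨hW₀c hv, (hOab (hW₀O hv)).1⟩) hk
      intro v hv
      exact mem_normalizer_iff.2 fun k => ⟨key v hv k, fun hk => by
        simpa [mul_assoc] using key v⁻¹ (inv_mem hv) _ hk⟩
    have hZO' : Z ≤ O' := by
      refine commutator_le.2 fun v hv x hx => ?_
      rw [commutatorElement_def]
      exact mul_mem ((mem_normalizer_iff.1 (hW₀O' hv) x).1 (hXO' hx)) (inv_mem (hXO' hx))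
    set W' := W₀.map (MulAut.conj g).toMonoidHom with hW'
    have hW'p : ¬ p ∣ Nat.card W' := by
      rw [card_map_of_injective (MulAut.conj g).injective]
      exact hW₀p
    have hXW' : X ≤ normalizer (W' : Set G) := by
      rw [← hgX]
      exact (map_mono hXW₀).trans (le_normalizer_map _)
    set L := X ⊔ W' with hL
    have hcomm : ∀ o ∈ O', ∀ x ∈ X, ⁅o, x⁆ ∈ L := by
      intro o ho x hx
      rw [← hmap] at ho
      obtain ⟨o₁, ho₁, rfl⟩ := ho
      obtain ⟨n, hn, v, hv, rfl⟩ := Coprime.exists_mul_of_mem_sup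
        (inf_le_left.trans hOW₀) (sup_comm W₀ _ ▸ hZJ ho₁)
      obtain ⟨x₁, hx₁, rfl⟩ := hgX.ge hx
      have hn' : g * n * g⁻¹ ∈ normalizer (L : Set G) := by
        have h1 : g * n * g⁻¹ ∈ normalizer (W' : Set G) :=
          le_normalizer_map _ ⟨n, hOW₀ (mem_inf.1 hn).1, rfl⟩
        have h2 : g * n * g⁻¹ ∈ normalizer (X : Set G) :=
          mul_mem (mul_mem (mem_inf.1 hgY₁).2 (mem_inf.1 hn).2) (inv_mem (mem_inf.1 hgY₁).2)
        rw [mem_normalizer_iff_map_conj_eq] at h1 h2 ⊢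
        rw [hL, Subgroup.map_sup, h1, h2]
      have hxL : g * x₁ * g⁻¹ ∈ L := mem_sup_left (hgX.le ⟨x₁, hx₁, rfl⟩)
      have hvL : g * v * g⁻¹ ∈ L := mem_sup_right ⟨v, hv, rfl⟩
      have h1 := (mem_normalizer_iff.1 hn' _).1
        (mul_mem (mul_mem hvL hxL) (inv_mem hvL))
      rw [commutatorElement_def]
      refine mul_mem ?_ (inv_mem hxL)
      convert h1 using 1
      show g * (n * v) * g⁻¹ * (g * x₁ * g⁻¹) * (g * (n * v) * g⁻¹)⁻¹ = _
      group
    have hZZ : ⁅Z, X⁆ = Z := by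
      refine Coprime.commutator_commutator_eq hXW₀ ?_ (Or.inr
        (BenderOne.LocalTools.isSolvable_odd (hOodd.of_dvd_nat (card_dvd_of_le hW₀O))))
      obtain ⟨i, hi⟩ := IsPGroup.iff_card.1 (hR.isPGroup.to_le hXR)
      rw [hi]
      exact (hp.coprime_iff_not_dvd.2 hW₀p).pow_left i
    have hZL : Z ≤ L := hZZ.ge.trans (commutator_le.2 fun z hz x hx => hcomm z (hZO' hz) x hx)
    have hZW' : Z ≤ W' := by
      intro z hz
      obtain ⟨x, hx, v, hv, rfl⟩ := Coprime.exists_mul_of_mem_sup hXW' (hZL hz)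
      haveI : (W'.subgroupOf L).Normal := (normal_subgroupOf_iff_le_normalizer le_sup_right).2
        (sup_le hXW' le_normalizer)
      have hzW₀ : x * v ∈ W₀ := Coprime.commutator_le_of_le_normalizer hXW₀ hz
      set π := QuotientGroup.mk' (W'.subgroupOf L)
      have h1 : π ⟨x * v, hZL hz⟩ = π ⟨x, mem_sup_left hx⟩ := by
        rw [show (⟨x * v, hZL hz⟩ : L) = ⟨x, mem_sup_left hx⟩ * ⟨v, mem_sup_right hv⟩ from rfl,
          map_mul, show π ⟨v, mem_sup_right hv⟩ = 1 from (QuotientGroup.eq_one_iff _).2 hv, mul_one]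
      have h2 : orderOf (π ⟨x * v, hZL hz⟩) ∣ Nat.card W₀ :=
        (orderOf_map_dvd π _).trans
          (Subgroup.orderOf_mk (x * v) (hZL hz) ▸ W₀.orderOf_dvd_natCard hzW₀)
      obtain ⟨i, hi⟩ := IsPGroup.iff_orderOf.1 (hR.isPGroup.to_le hXR) ⟨x, hx⟩
      rw [Subgroup.orderOf_mk] at hi
      have h3 : orderOf (π ⟨x * v, hZL hz⟩) ∣ p ^ i := by
        rw [h1]
        exact (orderOf_map_dvd π _).trans (dvd_of_eq ((Subgroup.orderOf_mk _ _).trans hi))
      have h4 : π ⟨x * v, hZL hz⟩ = 1 := orderOf_eq_one_iff.1 (Nat.Coprime.eq_one_of_dvd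
        (Nat.Coprime.pow_right i (Nat.Coprime.coprime_dvd_left h2
          (hp.coprime_iff_not_dvd.2 hW₀p).symm)) h3)
      exact mem_subgroupOf.1 ((QuotientGroup.eq_one_iff _).1 h4)
    rw [mem_normalizer_iff_map_conj_eq]
    refine (eq_of_le_of_card_ge ?_ (le_of_eq (card_map_of_injective
      (MulAut.conj g).injective))).symm
    rw [hZ, map_commutator]
    exact hZZ.ge.trans (commutator_mono hZW' hgX.ge)
  -- normalising `Z`
  have hNZ : ∀ {k}, k ∈ normalizer (W₀ : Set G) → k ∈ normalizer (X : Set G) →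
      k ∈ normalizer (Z : Set G) := by
    intro k h1 h2
    rw [mem_normalizer_iff_map_conj_eq] at h1 h2 ⊢
    rw [hZ, map_commutator, h1, h2]
  have hfixZ : ∀ {k : G}, k • a = a → k • b = b → k ∈ normalizer (X : Set G) →
      k ∈ normalizer (Z : Set G) := fun ha hb => hNZ (hNO (hfixO ha hb))
  have hOZ : O ≤ normalizer (Z : Set G) := fun o ho => by
    obtain ⟨n, hn, v, hv, rfl⟩ := Coprime.exists_mul_of_mem_sup
      (inf_le_left.trans hOW₀) (sup_comm W₀ _ ▸ hZJ ho)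
    exact mul_mem (hNZ (hOW₀ (mem_inf.1 hn).1) (mem_inf.1 hn).2)
      (Coprime.left_le_normalizer_commutator W₀ X hv)
  have hwZ : w ∈ normalizer (Z : Set G) := hNZ (hNO (hswapK hw)) hwX
  have hdZ : d₀ ∈ normalizer (Z : Set G) := by
    have hW : d₀ ∈ (Y₁ ⊓ normalizer (Z : Set G)) ⊔ F := by
      refine hS.cover _ (fun y hy hya hyb => ?_) g (mem_inf.1 (mem_inf.1 hgY₁).1).1
        (mem_sup_left (mem_inf.2 ⟨hgY₁, hgZ⟩)) hgb (by rw [hga]; exact hca)
        (by rw [hga]; exact hcb) d₀ hd₀ (mem_inf.1 hd₀S).1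
      obtain ⟨y₁, hy₁, k, hk, rfl⟩ := hrep y hy
      rw [mul_smul, hFfix hk (mem_orbit_self a)] at hya
      rw [mul_smul, hFfix hk (hC.b_mem h hab)] at hyb
      exact mul_mem (mem_sup_left (mem_inf.2 ⟨hy₁, hfixZ hya hyb (mem_inf.1 hy₁).2⟩))
        (mem_sup_right hk)
    obtain ⟨y₁, hy₁, k, hk, hd⟩ := Coprime.exists_mul_of_mem_sup
      ((inf_le_left.trans (inf_le_left.trans inf_le_left)).trans hYF) hW
    have hkX : k ∈ normalizer (X : Set G) := by
      rw [show k = y₁⁻¹ * d₀ by rw [hd]; group]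
      exact mul_mem (inv_mem (mem_inf.1 (mem_inf.1 hy₁).1).2) (hSXa hd₀ hd₀S)
    rw [hd]
    exact mul_mem (mem_inf.1 hy₁).2
      (hfixZ (hFfix hk (mem_orbit_self a)) (hFfix hk (hC.b_mem h hab)) hkX)
  -- a proper subgroup with `O`, a swapper and a member at `a`
  obtain ⟨N₀, hN₀, hN₀O, hN₀w, hN₀d⟩ : ∃ N₀ : Subgroup G,
      N₀ ≠ ⊤ ∧ O ≤ N₀ ∧ w ∈ N₀ ∧ d₀ ∈ N₀ := by
    by_cases hZ0 : Z = ⊥
    · refine ⟨_, hNXne, fun o ho => ?_, hwX, hSXa hd₀ hd₀S⟩
      obtain ⟨n, hn, v, hv, rfl⟩ := Coprime.exists_mul_of_mem_sup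
        (inf_le_left.trans hOW₀) (sup_comm W₀ _ ▸ hZJ ho)
      exact mul_mem (mem_inf.1 hn).2
        (centralizer_le_normalizer _ (commutator_eq_bot_iff_le_centralizer.1 hZ0 hv))
    · refine ⟨_, normalizer_ne_top h hZ0 (x := a) ?_, hOZ, hwZ, hdZ⟩
      exact (Coprime.commutator_le_of_le_normalizer hXW₀).trans
        fun x hx => (hOab (hW₀O hx)).1
  have hswap : ∀ v ∈ memSwap G D a b, v ∈ N₀ := by
    intro v hv
    obtain ⟨k, hk, rfl⟩ := Facts.swap_conj h hab hv hw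
    exact mul_mem (mul_mem (hN₀O hk) hN₀w) (inv_mem (hN₀O hk))
  have hb : ∀ t ∈ memAt G D b, t ∈ N₀ := by
    intro t ht
    obtain ⟨v, hv, hva, rfl⟩ := h.exists_swap hd₀ ht hab
    exact mul_mem (mul_mem (hswap v ⟨hv, hva⟩) hN₀d) (inv_mem (hswap v ⟨hv, hva⟩))
  intro htop
  refine hN₀ (top_le_iff.1 (htop.ge.trans ((closure_le _).2 ?_)))
  rintro t (ht | ht)
  · have h1 := h.conj_mem_memAt (g := w) ht
    rw [hw.2] at h1
    simpa [mul_assoc] using mul_mem (mul_mem (inv_mem hN₀w) (hb _ h1)) hN₀w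
  · exact hb t ht

end Cfsg.Agent.Lib.Crit5.Full
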