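import Cfsg.Agent.Lib.Crit5.Shape
import Cfsg.Agent.Lib.Crit5.FullMain
import Cfsg.Agent.Lib.Crit5.FullElem

/-!
# The single fixed point criterion, section A1: `PropFull`

Section S (`Shape`) supplies the facts `Full.Sh` used by `Full.full_of_shape`.

Owner: helper76.
-/

set_option autoImplicit false
set_option linter.style.haveILetI false

namespace Cfsg.Agent.Lib.Crit5.Full

open Subgroup MulAction Cfsg.Agent.Lib.Involutions.Basic
open Cfsg.Agent.Lib.Crit8 (Pre Action memAt memSwap part)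
open Cfsg.Agent.Lib.Crit5.Facts (oddC)

universe u

variable {G Ω : Type u} [Group G] [MulAction G Ω] [Finite G] {D : Set G} {a b : Ω} {Y : Subgroup G}

/-- Section S for the subgroups generated at a pair. -/
theorem Big.shape (hM : Min G Ω D) (hab : a ≠ b) (hY : Big D a b Y) : Sh D Y a b := by
  have h := hM.act
  obtain ⟨hSE, hinv, hker, hfix⟩ := hY.elementary hM hab
  obtain ⟨d, hd, e, he, hdY, heY, hne, hc⟩ := hY.four
  obtain ⟨f, hf, hfY⟩ := hY.atB
  have hgen : closure {x | x ∈ D ∧ x ∈ Y} = Y := by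
    refine le_antisymm ((closure_le _).2 fun x hx => hx.2) ?_
    conv_lhs => rw [← hY.gen]
    exact closure_mono fun x hx => ⟨hx.1.elim (fun h' => h'.1) (fun h' => h'.1), hx.2⟩
  have hL : Shape.Loc D Y a := ⟨hSE, hgen⟩
  have h2 : Shape.Four Y := by
    refine ⟨⟨d, hdY⟩, ⟨e, heY⟩, ?_, ?_, fun h' => hne (congrArg Subtype.val h'),
      Subtype.ext (invol_mul_self (h.invol d hd.1)), Subtype.ext (invol_mul_self (h.invol e he.1)),
      Subtype.ext hc.eq⟩
    · exact fun h' => invol_ne_one (h.invol d hd.1) (congrArg Subtype.val h')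
    · exact fun h' => invol_ne_one (h.invol e he.1) (congrArg Subtype.val h')
  have ha : a ∈ orbit Y a := mem_orbit_self a
  have hb : b ∈ orbit Y a := hL.fix_mem h.toPre hf.1 hfY hf.2
  refine ⟨hker, hfix, fun d hd hdY e he heY => hL.commute_on h.toPre h2 ⟨hd, hdY⟩ ⟨he, heY⟩,
    hinv, fun x hx y hy hxy => hL.exists_pair h.toPre h2 ha hb hx hy hab hxy, ?_, ?_⟩
  · intro W hW g hg hgW hgb hca hcb t ht htY
    refine hL.memIn_le_of_two_tori h.toPre h2 (b := b) (c := g • a) hb
      ⟨⟨g, hg⟩, rfl⟩ hab.symm hca hcb (fun y hy => ?_) (fun y hy => ?_) ⟨ht, htY⟩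
    · obtain ⟨hyY, hya, hyb⟩ := hy
      exact hW y hyY hya hyb
    · obtain ⟨hyY, hya, hyc⟩ := hy
      have h1 : g⁻¹ * y * g ∈ W := by
        refine hW _ (mul_mem (mul_mem (inv_mem hg) hyY) hg) ?_ ?_
        · rw [mul_smul, mul_smul, show y • g • a = g • a from hyc, inv_smul_smul]
        · rw [mul_smul, mul_smul, hgb, show y • a = a from hya, inv_smul_eq_iff, hgb]
      simpa [mul_assoc] using mul_mem (mul_mem hgW h1) (inv_mem hgW)
  · intro x hx hxa hxb hcomm z hz
    refine (hL.fixing_trivial h.toPre h2 (hL.card_ne_of_pair h.toPre h2 hb hab.symm ?_) hb hab.symm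
      ⟨hx, hxa, hxb, fun t ht p hp => hcomm t ht.1 ht.2 p hp⟩ z hz).trans (one_smul G z)
    conv_lhs => rw [← hY.gen]
    exact closure_mono fun t ht => ht.1.elim (fun h' => Or.inl ⟨h', ht.2⟩) fun h' => Or.inr ⟨h', ht.2⟩

end Cfsg.Agent.Lib.Crit5.Full

namespace Cfsg.Agent.Lib.Crit5

open Subgroup MulAction

universe u

/-- **A1**: a violation gives a proper subgroup with all members of the pair. -/
theorem propFullFinal : PropFull.{u} := by
  intro X _ _ Δ _ E hM a b hV
  haveI := hM.faithful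
  exact Full.full_of_shape hM.act hV.1 (fun Y hY => hY.shape hM hV.1) hV

end Cfsg.Agent.Lib.Crit5
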