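import Cfsg.Agent.Lib.Crit5.KillOne.BigKill
import Cfsg.Agent.Lib.Crit5.KillOne.Eight
import Cfsg.Agent.Lib.Crit5.KillOne.TorusProof

/-!
# The single fixed point criterion, section C1

`killOne`: there is no bad involution of type one, from the sections R, A2, P (the semilinear
labelling of section S is `KillOne.propTorus`).
Owner: helper67.
-/

set_option autoImplicit false
set_option linter.style.haveILetI false

namespace Cfsg.Agent.Lib.Crit5.KillOne

open MulAction Cfsg.Agent.Lib.Involutions.Basic
open Cfsg.Agent.Lib.Crit8 (Action Pre Bad memAt memSwap)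

universe u

/-- The double count determines the number of fixed points. -/
theorem fix_inj {k l r c : ℕ} (hk : 1 ≤ k) (hl : 1 ≤ l) (hr : 1 ≤ r)
    (h : (k - 1) * (r + k * c) = (l - 1) * (r + l * c)) : k = l := by
  obtain ⟨k, rfl⟩ : ∃ j, k = j + 1 := ⟨k - 1, by omega⟩
  obtain ⟨l, rfl⟩ : ∃ j, l = j + 1 := ⟨l - 1, by omega⟩
  simp only [Nat.add_sub_cancel] at h
  rcases lt_trichotomy k l with hlt | heq | hlt
  · exfalso
    have h1 : k * (r + (k + 1) * c) < l * (r + (l + 1) * c) :=
      lt_of_lt_of_le (Nat.mul_lt_mul_of_pos_right hlt (by omega)) (by gcongr)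
    omega
  · rw [heq]
  · exfalso
    have h1 : l * (r + (l + 1) * c) < k * (r + (k + 1) * c) :=
      lt_of_lt_of_le (Nat.mul_lt_mul_of_pos_right hlt (by omega)) (by gcongr)
    omega

/-- The possible values of `r`. -/
theorem r_cases {N q r i : ℕ} (hq : 4 ≤ q) (hqi : q = 2 ^ i) (hmod : r % q = 1)
    (h : N * r = q * (r + (q + 1) * (q - 1))) : r = 1 ∨ r = q + 1 := by
  have hdvd : r ∣ q * ((q + 1) * (q - 1)) := by
    have h1 : r ∣ q * r + q * ((q + 1) * (q - 1)) := ⟨N, by rw [← mul_add, ← h, mul_comm]⟩
    exact (Nat.dvd_add_right (dvd_mul_left r q)).1 h1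
  have hcop : Nat.Coprime r q := by
    rw [hqi]
    refine Nat.Coprime.pow_right _ ?_
    rw [Nat.coprime_two_right, Nat.odd_iff]
    have h1 := Nat.mod_mod_of_dvd r (show 2 ∣ q from hqi ▸ dvd_pow_self 2 (by
      rintro rfl; rw [pow_zero] at hqi; omega))
    omega
  obtain ⟨s, hs⟩ := hcop.dvd_of_dvd_mul_left hdvd
  have ht : r = 1 + q * (r / q) := by
    have := Nat.div_add_mod r q
    omega
  set t := r / q
  have hs' : (s : ℤ) + 1 = q * ((q : ℤ) - t * s) := by
    have h1 := congrArg (fun n : ℕ => (n : ℤ)) hs
    simp only [Nat.cast_mul, Nat.cast_add, Nat.cast_one] at h1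
    rw [Nat.cast_sub (by omega), ht] at h1
    push_cast at h1
    linear_combination -h1
  have hsq : q ≤ s + 1 := by
    have h1 : (q : ℤ) ∣ (s : ℤ) + 1 := ⟨_, hs'⟩
    exact Nat.le_of_dvd (Nat.succ_pos _) (by exact_mod_cast h1)
  have ht1 : t ≤ 1 := by
    by_contra hlt
    have h1 : 2 * q + 1 ≤ r := by
      rw [ht]
      have : q * 2 ≤ q * t := Nat.mul_le_mul_left q (by omega)
      omega
    obtain ⟨j, rfl⟩ : ∃ j, q = j + 1 := ⟨q - 1, by omega⟩
    simp only [Nat.add_sub_cancel] at hs
    have h2 : (2 * (j + 1) + 1) * j ≤ r * s := Nat.mul_le_mul h1 (by omega)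
    nlinarith
  interval_cases t
  · exact Or.inl (by rw [ht, mul_zero, add_zero])
  · exact Or.inr (by rw [ht, mul_one, add_comm])

/-- **Section C1.** -/
theorem killOne (hR : PropRankOne.{u}) (hC : PropCentral.{u}) (hP : PropPure.{u}) :
    PropKill.{u} 1 := by
  have hT : PropTorus.{u} := propTorus
  intro G _ _ Ω _ D hM x a q r hx hc
  haveI := hM.faithful
  haveI := CountsB.finite_points hM
  have hfour : ∀ (v : G) (b : Ω), Bad G Ω v → v • b = b → FourAt D v b :=
    fun v b hv hb => hR G Ω D hM v b hv hb
  have hCC : CountsB.CommCent G Ω D := fun v b hv hb => hC G Ω D hM v b hv hb (hfour v b hv hb)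
  have hcount : (Nat.card Ω - 1) * r = q * (r + (q + 1) * (q - 1)) := by
    have h := hc.count
    rwa [pow_one] at h
  obtain ⟨i, hi⟩ := hc.two_pow
  have hr := r_cases hc.four_le hi hc.mod_one hcount
  have hmem : ∀ b : Ω, Nat.card (memAt G D b) = (q - 1) * r := fun b => by
    rw [hM.act.toPre.card_memAt b a, hc.card_mem]
  have hq := hc.four_le
  -- every bad involution has the parameters of `x`
  have hpar : ∀ (v : G) (b : Ω), Bad G Ω v → v • b = b → Nat.card (memCent D v b) + 1 = q ∧
      Nat.card {p : Ω // v • p = p} = q + 1 := by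
    intro v b hv hb
    obtain ⟨E, -, hEc, j, hj⟩ := CountsB.exists_sub hM hCC hv hb
    obtain ⟨r', hm', hodd, hcv⟩ := CountsB.double_count hM hCC hfour hv hb
    rw [hmem] at hm'
    set B := Nat.card (memCent D v b)
    set k := Nat.card {p : Ω // v • p = p}
    have hk2 : 2 ≤ k := by
      obtain ⟨p, s, hne, hp, hs⟩ := hv.two
      haveI : Nontrivial {p : Ω // v • p = p} :=
        ⟨⟨⟨p, hp⟩, ⟨s, hs⟩, fun h => hne (congrArg Subtype.val h)⟩⟩
      exact Finite.one_lt_card
    have hBq : q ≤ B + 1 := by
      have h1 := hc.minimal v b hv hb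
      have h2 := hc.card_cent
      omega
    have hr'1 : 1 ≤ r' := hodd.pos
    have hfin : B + 1 = q → r' = r → B + 1 = q ∧ k = q + 1 := by
      intro hB hr'
      refine ⟨hB, fix_inj (r := r) (c := q - 1) (by omega) (by omega) (by omega) ?_⟩
      have hB' : B = q - 1 := by omega
      rw [hr', hB'] at hcv
      rw [← hcv, hcount, Nat.add_sub_cancel]
    rcases hr with rfl | rfl
    · have hB : B + 1 = q ∧ r' = 1 := by
        rw [mul_one] at hm'
        rcases Nat.lt_or_ge r' 2 with h | h
        · obtain rfl : r' = 1 := by omega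
          rw [mul_one] at hm'
          omega
        · exfalso
          have h1 : B * 2 ≤ B * r' := Nat.mul_le_mul_left B h
          omega
      exact hfin hB.1 hB.2
    · have hqB : j = i ∨ j = 2 * i := by
        have hij : i ≤ j := by
          have h1 : 2 ^ i ≤ 2 ^ j := by rw [← hi, ← hj, hEc]; exact hBq
          exact (Nat.pow_le_pow_iff_right (by norm_num)).1 h1
        have hd : 2 ^ j - 1 ∣ 2 ^ (2 * i) - 1 := by
          refine ⟨r', ?_⟩
          rw [← hj, hEc, Nat.add_sub_cancel, ← hm', pow_mul', ← hi]
          obtain ⟨q', rfl⟩ : ∃ j, q = j + 1 := ⟨q - 1, by omega⟩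
          simp only [Nat.add_sub_cancel]
          rw [Nat.sub_eq_iff_eq_add (by nlinarith)]
          ring
        have hd' : j ∣ 2 * i := by
          have h1 := Nat.pow_sub_one_gcd_pow_sub_one 2 j (2 * i)
          rw [Nat.gcd_eq_left hd] at h1
          have h2 : 2 ^ j = 2 ^ Nat.gcd j (2 * i) := by
            have := Nat.two_pow_pos j
            have := Nat.two_pow_pos (Nat.gcd j (2 * i))
            omega
          rw [Nat.pow_right_injective le_rfl h2]
          exact Nat.gcd_dvd_right _ _
        have hi1 : 1 ≤ i := by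
          rcases Nat.eq_zero_or_pos i with h | h
          · rw [h, pow_zero] at hi; omega
          · exact h
        obtain ⟨c, hc'⟩ := hd'
        rcases c with _ | _ | _ | c
        · omega
        · right; omega
        · left; omega
        · exfalso
          have : j * 3 ≤ j * (c + 3) := Nat.mul_le_mul_left j (by omega)
          rw [show c + 1 + 1 + 1 = c + 3 by ring] at hc'
          omega
      rcases hqB with rfl | rfl
      · have hB : B + 1 = q := by rw [← hEc, hj, hi]
        refine hfin hB ?_
        have hB' : B = q - 1 := by omega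
        rw [hB'] at hm'
        exact (Nat.eq_of_mul_eq_mul_left (by omega) hm').symm
      · exfalso
        have hB : B + 1 = q * q := by rw [← hEc, hj, hi, ← pow_add]; ring_nf
        have hr'' : r' = 1 := by
          rcases Nat.lt_or_ge r' 2 with h | h
          · omega
          · exfalso
            obtain ⟨q', rfl⟩ : ∃ j, q = j + 1 := ⟨q - 1, by omega⟩
            simp only [Nat.add_sub_cancel] at hm'
            have h1 : B * 2 ≤ B * r' := Nat.mul_le_mul_left B h
            nlinarith
        have hn : Nat.card Ω - 1 = q * q := by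
          obtain ⟨q', rfl⟩ : ∃ j, q = j + 1 := ⟨q - 1, by omega⟩
          simp only [Nat.add_sub_cancel] at hcount
          refine Nat.eq_of_mul_eq_mul_right (show 0 < q' + 1 + 1 by omega) (hcount.trans ?_)
          ring
        rw [hr'', hn, mul_one] at hcv
        have h1 : 1 * (1 + 2 * B) ≤ (k - 1) * (1 + k * B) :=
          Nat.mul_le_mul (by omega) (by gcongr)
        have : 16 ≤ q * q := Nat.mul_le_mul hq hq
        omega
  -- the setting
  have hU : Uni D Ω q r :=
    { min := hM, comm := hCC, four := hfour, four_le := hq, two_pow := hc.two_pow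
      card_mem := hmem, count := hcount
      card_cent := fun v b hv hb => (hpar v b hv hb).1
      card_fix := fun v hv => by
        obtain ⟨p, -, -, hp, -⟩ := hv.two
        exact (hpar v p hv hp).2
      pure := fun v b hv hb => hP G Ω D hM v b q 1 r hv
        { four_le := hq, two_pow := hc.two_pow, type := Or.inl rfl, fixes := hb
          commute := hCC v b hv hb, card_cent := (hpar v b hv hb).1
          card_fix := by rw [pow_one]; exact (hpar v b hv hb).2
          card_mem := hmem b, count := hc.count, mod_one := hc.mod_one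
          translate := fun d hd => CountsB.translate hM hCC hv hb (hfour v b hv hb) hd
          minimal := fun y p hy hp => by
            have h1 := (hpar v b hv hb).1
            have h2 := (hpar y p hy hp).1
            omega } }
  obtain ⟨K, _, _, _, ι, hι⟩ := hT G Ω D hM x a q r hx hc
  rcases hr with rfl | rfl
  · by_cases hmove : ∃ n, n ∈ NM hU hx hc.fixes ∧ n ∈ CE D x a ∧ n ∉ Mx hU hx hc.fixes
    · exact regular_false hU hx hc.fixes hι hmove
    · push Not at hmove
      exact eight_false hU hx hc.fixes hι hmove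
  · exact big_false hU hx hc.fixes hι

end Cfsg.Agent.Lib.Crit5.KillOne
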