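import Cfsg.Agent.Lib.Crit5.KillThree.Bad
import Cfsg.Agent.Lib.Crit5.KillThree.CaseOne
import Cfsg.Agent.Lib.Crit5.KillThree.LocalData

/-!
# The single fixed point criterion: no bad involution of unitary type
-/

set_option autoImplicit false
set_option linter.style.haveILetI false

namespace Cfsg.Agent.Lib.Crit5.KillThree

open MulAction Cfsg.Agent.Lib.Involutions.Basic
open Cfsg.Agent.Lib.Crit8 (Bad memAt)

universe u

/-- **A bad involution of type `q³` is absent from a minimal counterexample.** -/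
theorem killThree (hC : PropCentral.{u}) (hR : PropRankOne.{u}) : PropKill.{u} 3 := by
  intro G _ _ Ω _ D hM x a q r hx hc
  have C := exists_ctx hC hR hM hc
  have ha := hc.fixes
  obtain ⟨b, hba, hb⟩ : ∃ b, b ≠ a ∧ x • b = b := by
    obtain ⟨-, p, p', hne, hp, hp'⟩ := hx
    by_cases h : p = a
    · exact ⟨p', fun e => hne (h.trans e.symm), hp'⟩
    · exact ⟨p, h, hp⟩
  obtain ⟨F, _, _, ⟨M⟩⟩ := exists_model C hx ha hb hba.symm
  obtain ⟨Y⟩ := exists_yData C hx ha hb hba.symm M
  by_cases hall : ∀ z ∈ Y.S, z * z = 1 → InE D x a z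
  · exact absurd_caseTwo C hb hba.symm hx ha Y hall
  · push Not at hall
    exact absurd_caseOne C hb hba.symm hx ha Y hall

end Cfsg.Agent.Lib.Crit5.KillThree
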