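import Cfsg.Agent.Lib.Crit5.KillTwoOne
import Cfsg.Agent.Lib.ZStar.UniqueCase
import Cfsg.Agent.Lib.RankOne.Involution

/-!
# The single fixed point criterion, section C2: `r = 1`, `|A| ≥ 4`

With scalar fusion on `A` and no rotation, `C / E` has a weakly closed involution, so the `Z*`
theorem and a four group give `C = mGrp`; then too few bad involutions fix a point.
See `notes/crit_c2_r1_helper31.md`, section E.

Owner: helper76 (for helper31).
-/

set_option autoImplicit false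
set_option linter.style.haveILetI false
set_option linter.unusedSectionVars false

namespace Cfsg.Agent.Lib.Crit5.KillTwo

open MulAction Cfsg.Agent.Lib.Involutions.Basic
open Cfsg.Agent.Lib.Crit8 (Action Pre Bad memAt memSwap loc)

universe u

variable {G Ω : Type u} [Group G] [MulAction G Ω] {D : Set G}
variable [Finite G] {q : ℕ} (h : Ctx G Ω D q 1) {x : G} {a b : Ω}
variable (hx : Bad G Ω x) (hxa : x • a = a) (hxb : x • b = b) (hba : b ≠ a) (S : Sz D x a b q)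
include h hx hxa hxb hba S

/-- An element of `C` carrying some `u ∈ A ∖ 1` into `mGrp` is in `mGrp`. -/
theorem Ctx.mem_mGrp_of_fus (htop : IsTop D x a)
    (hscal : ∀ u ∈ aGrp Ω x, u ≠ 1 → ∀ k ∈ cGrp D x a, k * u * k⁻¹ ∈ aGrp Ω x → k * u * k⁻¹ = u)
    (hrot : IsElem D x a →
      cGrp D x a ⊓ Subgroup.normalizer (mGrp D x a : Set G) ≤ mGrp D x a)
    {u : G} (hu : u ∈ aGrp Ω x) (hu1 : u ≠ 1) {g : G} (hg : g ∈ cGrp D x a)
    (hgu : g * u * g⁻¹ ∈ mGrp D x a) : g ∈ mGrp D x a := by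
  obtain ⟨hub, hua, hF, -, hE, -, hM⟩ := h.aGrp_bad hx hxa hxb hba S hu hu1
  by_cases hel : IsElem D x a
  · have hub' : u • b = b := (hF b).2 hxb
    obtain ⟨Su⟩ := h.sz u a b hub hua hub' hba
    have htu : IsTop D u a := fun P hP hPa => by
      rw [hM]
      exact htop P hP hPa
    have hn := h.norm_of_fus hub hua hub' hba Su htu (mem_cGrp.1 hg).1 (hM.symm ▸ hgu)
    rw [hM] at hn
    exact hrot hel (Subgroup.mem_inf.2 ⟨hg, hn⟩)
  · have huu : u * u = 1 := (h.aGrp_elem hx hxa hxb hba S hu hu).1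
    have hsq : g * u * g⁻¹ * (g * u * g⁻¹) = 1 := by
      calc g * u * g⁻¹ * (g * u * g⁻¹) = g * (u * u) * g⁻¹ := by group
        _ = 1 := by rw [huu, mul_one, mul_inv_cancel]
    obtain ⟨v, hv, e, he, hve⟩ := h.exotic_invol hx hxa hxb hba S hel hgu hsq
    have hge : Commute g e := (h.mem_cGrp' hx hxa hg).2 e he
    have hv1 : v ≠ 1 := by
      rintro rfl
      rw [one_mul] at hve
      have hue : u = e := by
        calc u = g⁻¹ * (g * u * g⁻¹) * g := by group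
          _ = g⁻¹ * (e * g) := by rw [hve, mul_assoc]
          _ = e := by rw [← hge.eq, inv_mul_cancel_left]
      exact hu1 (h.Q_inf_aGrp hx hxa hxb hba S
        (hue.symm ▸ h.eGrp_le_Q hx hxa hxb hba S he) hu)
    obtain ⟨y, hy, hyv, -⟩ := h.exists_conj_tie hx hxa hxb hba S hv hv1 he
    have hk : y⁻¹ * g ∈ cGrp D x a := mul_mem (inv_mem ((h.mem_mGrp hx hxa).1 hy).1) hg
    have hkv : y⁻¹ * g * u * (y⁻¹ * g)⁻¹ = v := by
      calc y⁻¹ * g * u * (y⁻¹ * g)⁻¹ = y⁻¹ * (g * u * g⁻¹) * y := by group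
        _ = y⁻¹ * (y * v * y⁻¹) * y := by rw [hve, hyv]
        _ = v := by group
    have hvu : v = u := hkv.symm.trans (hscal u hu hu1 _ hk (hkv.symm ▸ hv))
    have hgu' : gOf u g = e := by rw [gOf, hve, hvu, ← mul_assoc, huu, one_mul]
    rw [← hM, h.mem_mGrp hub hua, h.cGrp_eq hx hxa hub hua, hgu', hE]
    exact ⟨hg, he⟩

/-- `C` is the `2`-group `mGrp`. -/
theorem Ctx.cGrp_le_mGrp (htop : IsTop D x a) (h4 : 4 ≤ Nat.card (aGrp Ω x))
    (hscal : ∀ u ∈ aGrp Ω x, u ≠ 1 → ∀ k ∈ cGrp D x a, k * u * k⁻¹ ∈ aGrp Ω x → k * u * k⁻¹ = u)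
    (hrot : IsElem D x a →
      cGrp D x a ⊓ Subgroup.normalizer (mGrp D x a : Set G) ≤ mGrp D x a) :
    cGrp D x a ≤ mGrp D x a := by
  classical
  haveI : Fact (Nat.Prime 2) := ⟨Nat.prime_two⟩
  have hxx := invol_mul_self hx.invol
  have hfus := fun {u : G} (hu : u ∈ aGrp Ω x) (hu1 : u ≠ 1) {g : G} (hg : g ∈ cGrp D x a)
    (hgu : g * u * g⁻¹ ∈ mGrp D x a) => h.mem_mGrp_of_fus hx hxa hxb hba S htop hscal hrot hu hu1
      hg hgu
  have hMC : mGrp D x a ≤ cGrp D x a := fun y hy => ((h.mem_mGrp hx hxa).1 hy).1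
  obtain ⟨P, hP⟩ := h.exists_sylow hx hxa hxb hba S htop
  haveI hEn : ((eGrp D x a).subgroupOf (cGrp D x a)).Normal := by
    refine ⟨fun n hn k => ?_⟩
    rw [Subgroup.mem_subgroupOf] at hn ⊢
    rw [Subgroup.coe_mul, Subgroup.coe_mul, Subgroup.coe_inv,
      ((h.mem_cGrp' hx hxa k.2).2 _ hn).eq, mul_inv_cancel_right]
    exact hn
  let π := QuotientGroup.mk' ((eGrp D x a).subgroupOf (cGrp D x a))
  have hπsurj : Function.Surjective π := QuotientGroup.mk'_surjective _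
  let Pb := (P.subtype (hP.trans_le hMC)).mapSurjective hπsurj
  -- what the image of `mGrp` is
  have hPbar : ∀ k : cGrp D x a, π k ∈ Pb ↔ (k : G) ∈ mGrp D x a := by
    intro k
    show π k ∈ (((P.subtype (hP.trans_le hMC)).mapSurjective hπsurj : Sylow 2 _) : Subgroup _) ↔ _
    rw [Sylow.coe_mapSurjective, Sylow.coe_subtype, hP]
    refine ⟨?_, fun hk => ⟨k, hk, rfl⟩⟩
    rintro ⟨m, hm, hmk⟩
    have h1 : ((m : G))⁻¹ * (k : G) ∈ eGrp D x a :=
      Subgroup.mem_subgroupOf.1 (QuotientGroup.eq.1 hmk)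
    have h2 := mul_mem (show (m : G) ∈ mGrp D x a from hm) (h.eGrp_le_mGrp hx hxa h1)
    rwa [mul_inv_cancel_left] at h2
  have hxA : x ∈ aGrp Ω x := mem_aGrp.2 ⟨fun p hp => hp, Commute.refl x⟩
  have hAC := h.aGrp_le_cGrp hx hxa
  -- the images of `A`
  let bar : aGrp Ω x →* (cGrp D x a) ⧸ ((eGrp D x a).subgroupOf (cGrp D x a)) :=
    π.comp (Subgroup.inclusion hAC)
  have hbar1 : ∀ u : aGrp Ω x, bar u = 1 → u = 1 := by
    intro u hu
    have h1 : (u : G) ∈ eGrp D x a :=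
      Subgroup.mem_subgroupOf.1 ((QuotientGroup.eq_one_iff (Subgroup.inclusion hAC u)).1 hu)
    exact Subtype.ext (h.Q_inf_aGrp hx hxa hxb hba S (h.eGrp_le_Q hx hxa hxb hba S h1) u.2)
  have hbarP : ∀ u : aGrp Ω x, bar u ∈ Pb := fun u =>
    (hPbar (Subgroup.inclusion hAC u)).2 (h.aGrp_le_mGrp hx hxa u.2)
  -- an element centralising some `u ∈ A ∖ 1` modulo `E` is in `mGrp`
  have hcen : ∀ u : aGrp Ω x, u ≠ 1 → ∀ k : cGrp D x a, π k * bar u * (π k)⁻¹ ∈ Pb →
      (k : G) ∈ mGrp D x a := by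
    intro u hu k hk
    rw [show bar u = π (Subgroup.inclusion hAC u) from rfl, ← map_inv, ← map_mul, ← map_mul,
      hPbar] at hk
    exact hfus u.2 (fun e => hu (Subtype.ext e)) k.2 hk
  -- the weakly closed involution
  let x0 : aGrp Ω x := ⟨x, hxA⟩
  have hx01 : x0 ≠ 1 := fun e => invol_ne_one hx.invol (congrArg Subtype.val e)
  have hx02 : x0 * x0 = 1 := Subtype.ext hxx
  have hbx : orderOf (bar x0) = 2 :=
    invol_iff.2 ⟨by rw [← map_mul, hx02, map_one], fun e => hx01 (hbar1 x0 e)⟩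
  obtain ⟨N, hN, hNodd, hNc⟩ := ZStar.UniqueCase.zstar Pb (bar x0) hbx (hbarP x0) (by
    intro g hg
    obtain ⟨k, rfl⟩ := hπsurj g
    have hkM := hcen x0 hx01 k hg
    have hgE : gOf x (k : G) ∈ eGrp D x a := ((h.mem_mGrp hx hxa).1 hkM).2
    show π k * π (Subgroup.inclusion hAC x0) * (π k)⁻¹ = π (Subgroup.inclusion hAC x0)
    rw [← map_inv, ← map_mul, ← map_mul]
    refine (QuotientGroup.eq.2 (Subgroup.mem_subgroupOf.2 ?_)).symm
    show x⁻¹ * ((k : G) * x * (k : G)⁻¹) ∈ eGrp D x a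
    rw [invol_inv hx.invol]
    exact hgE)
  -- a second involution
  obtain ⟨u, hu1, hux⟩ : ∃ u : aGrp Ω x, u ≠ 1 ∧ u ≠ x0 := by
    by_contra hcon
    push Not at hcon
    have hle : Nat.card (aGrp Ω x) ≤ ({1, x0} : Set (aGrp Ω x)).ncard := by
      rw [← Set.ncard_univ]
      refine Set.ncard_le_ncard (fun u _ => ?_) (Set.toFinite _)
      rcases eq_or_ne u 1 with e | e
      · exact Or.inl e
      · exact Or.inr (hcon u e)
    rw [Set.ncard_pair hx01.symm] at hle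
    omega
  have helem := fun (v w : aGrp Ω x) => h.aGrp_elem hx hxa hxb hba S v.2 w.2
  have hxu1 : x0 * u ≠ 1 := fun e => hux (mul_left_cancel (e.trans hx02.symm))
  -- the three centralisers in `N` are trivial
  have hcN : ∀ v : aGrp Ω x, v ≠ 1 → ∀ n ∈ N, bar v * n * (bar v)⁻¹ = n →
      n ∈ (⊥ : Subgroup _) := by
    intro v hv n hn hc
    obtain ⟨k, rfl⟩ := hπsurj n
    have hc' : bar v * π k = π k * bar v := mul_inv_eq_iff_eq_mul.1 hc
    have hkM : (k : G) ∈ mGrp D x a := hcen v hv k (by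
      rw [← hc', mul_inv_cancel_right]
      exact hbarP v)
    obtain ⟨j, hj⟩ := Pb.2 ⟨π k, (hPbar k).2 hkM⟩
    have hj' : π k ^ 2 ^ j = 1 := congrArg Subtype.val hj
    have hd : orderOf (π k) ∣ Nat.card N := by
      rw [← Subgroup.orderOf_mk _ hn]
      exact orderOf_dvd_natCard _
    have h1 : orderOf (π k) ∣ 1 := by
      rw [← (Nat.Coprime.pow_left j ((Nat.coprime_two_left).2 hNodd)).gcd_eq_one]
      exact Nat.dvd_gcd (orderOf_dvd_of_pow_eq_one hj') hd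
    exact Subgroup.mem_bot.2 (orderOf_eq_one_iff.1 (Nat.dvd_one.1 h1))
  have hNbot : N ≤ ⊥ := RankOne.Involution.le_of_four_group (M := ⊥) hNodd (x := bar x0)
    (y := bar u) (by rw [← map_mul, hx02, map_one])
    (by rw [← map_mul, show u * u = 1 from Subtype.ext (helem u u).1, map_one])
    (by rw [← map_mul, ← map_mul, show x0 * u = u * x0 from Subtype.ext (helem x0 u).2.eq])
    (fun n hn => hN.conj_mem n hn _) (fun n hn => hN.conj_mem n hn _) (hcN x0 hx01) (hcN u hu1)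
    (fun n hn hc => hcN (x0 * u) hxu1 n hn (by rw [map_mul]; exact hc))
  intro k hk
  have h1 := Subgroup.mem_bot.1 (hNbot (hNc (π ⟨k, hk⟩)))
  have h2 : π ⟨k, hk⟩ * bar x0 * (π ⟨k, hk⟩)⁻¹ = bar x0 := by
    rw [mul_inv_eq_iff_eq_mul]
    exact (mul_inv_eq_iff_eq_mul.1 (mul_inv_eq_one.1 h1)).symm
  exact hcen x0 hx01 ⟨k, hk⟩ (h2.symm ▸ hbarP x0)

/-- At most `q (|A| - 1 + q² - q)` bad involutions fix `a`, if they are all in `mGrp`. -/
theorem Ctx.card_bad_at_le (hCM : cGrp D x a ≤ mGrp D x a) :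
    Nat.card {y : G | Bad G Ω y ∧ y • a = a} ≤
      q * (Nat.card (aGrp Ω x) - 1 + (q ^ 2 - q)) := by
  classical
  have hxx := invol_mul_self hx.invol
  let B := {y : G // Bad G Ω y ∧ y • a = a}
  let p : B → Prop := fun y => gOf x y.1 = 1
  have hsplit : Nat.card B = Nat.card {y : B // p y} + Nat.card {y : B // ¬ p y} := by
    rw [← Nat.card_sum, Nat.card_congr (Equiv.sumCompl p)]
  have hyM : ∀ y : B, y.1 ∈ mGrp D x a := fun y => hCM (h.bad_mem_cGrp hx hxa y.2.1 y.2.2)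
  -- those in `A E`
  have hd : ∀ y : {y : B // p y}, ∃ v : {v : aGrp Ω x // v ≠ 1}, ∃ e : eGrp D x a,
      y.1.1 = v.1.1 * e.1 := by
    rintro ⟨⟨y, hy, hya⟩, hyg⟩
    obtain ⟨v, hv, e, he, hye⟩ := h.invol_decomp hx hxa hxb hba S (h.bad_mem_cGrp hx hxa hy hya)
      ((gOf_eq_one_iff hxx).1 hyg) (invol_mul_self hy.invol)
    refine ⟨⟨⟨v, hv⟩, fun ev => ?_⟩, ⟨e, he⟩, hye⟩
    have hye' : y = e := by rw [hye, show v = 1 from congrArg Subtype.val ev, one_mul]
    exact invol_ne_one hy.invol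
      (h.eq_one_of_fixesAll hx hxa (hye'.symm ▸ he) hy hya fun p hp => hp)
  choose fv fe hf using hd
  have h1 : Nat.card {y : B // p y} ≤ (Nat.card (aGrp Ω x) - 1) * q := by
    refine (Nat.card_le_card_of_injective (fun y => (fv y, fe y)) fun y z e => ?_).trans
      (le_of_eq ?_)
    · have e1 : fv y = fv z := congrArg Prod.fst e
      have e2 : fe y = fe z := congrArg Prod.snd e
      exact Subtype.ext (Subtype.ext (by rw [hf, hf, e1, e2]))
    · haveI : Fintype (aGrp Ω x) := Fintype.ofFinite _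
      rw [Nat.card_prod, h.card_eGrp hx hxa, Nat.card_eq_fintype_card (α := {v : aGrp Ω x // v ≠ 1}),
        Fintype.card_subtype_compl, Fintype.card_subtype_eq, Nat.card_eq_fintype_card]
  -- the others
  let f : {y : B // ¬ p y} × aGrp Ω x ⊕ S.Q × aGrp Ω x → mGrp D x a := Sum.elim
    (fun t => ⟨t.1.1.1 * t.2.1, mul_mem (hyM _) (h.aGrp_le_mGrp hx hxa t.2.2)⟩)
    (fun t => ⟨t.1.1 * t.2.1, mul_mem (h.Q_le_mGrp hx hxa hxb hba S t.1.2)
      (h.aGrp_le_mGrp hx hxa t.2.2)⟩)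
  have hgA : ∀ v ∈ aGrp Ω x, gOf x v = 1 := fun v hv => (gOf_eq_one_iff hxx).2 (mem_aGrp.1 hv).2
  have hgl : ∀ t : {y : B // ¬ p y} × aGrp Ω x, gOf x (t.1.1.1 * t.2.1) ≠ 1 := fun t => by
    rw [h.gOf_mul hx hxa (hyM _) (h.aGrp_le_mGrp hx hxa t.2.2), hgA _ t.2.2, mul_one]
    exact t.1.2
  have hgr : ∀ t : S.Q × aGrp Ω x, gOf x (t.1.1 * t.2.1) = 1 := fun t => by
    rw [gOf_eq_one_iff hxx]
    exact (h.Q_props hx hxa hxb hba S t.1.2).2.1.mul_left (mem_aGrp.1 t.2.2).2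
  have hinj : Function.Injective f := by
    rintro (t | t) (t' | t') e <;> have e' := congrArg Subtype.val e
    · change t.1.1.1 * t.2.1 = t'.1.1.1 * t'.2.1 at e'
      set v0 := t.2.1 * t'.2.1⁻¹ with hv0
      have hv0A : v0 ∈ aGrp Ω x := mul_mem t.2.2 (inv_mem t'.2.2)
      have hy' : t'.1.1.1 = t.1.1.1 * v0 := by rw [hv0, ← mul_assoc, e', mul_inv_cancel_right]
      obtain ⟨w, hw, hyw, ht⟩ := h.conj_aGrp hx hxa hxb hba S (hyM t.1.1) hv0A
      have hyy := invol_mul_self t.1.1.2.1.invol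
      have h2 : t.1.1.1 * v0 * t.1.1.1⁻¹ = v0⁻¹ := by
        have h3 := invol_mul_self t'.1.1.2.1.invol
        rw [hy'] at h3
        rw [invol_inv t.1.1.2.1.invol]
        refine eq_inv_of_mul_eq_one_left ?_
        rw [mul_assoc, mul_assoc, ← mul_assoc (t.1.1.1 : G) v0 _]
        exact h3
      have hw1 : w = 1 := by
        rw [hyw, inv_eq_of_mul_eq_one_right (h.aGrp_elem hx hxa hxb hba S hv0A hv0A).1] at h2
        exact mul_eq_left.1 h2
      rw [hw1] at ht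
      have hv01 : v0 = 1 := h.tie_one hx hxa hxb hba S ((h.mem_mGrp hx hxa).1 (hyM t.1.1)).2
        t.1.2 hv0A ht
      have hvv : t.2.1 = t'.2.1 := mul_inv_eq_one.1 hv01
      rw [hv01, mul_one] at hy'
      exact congrArg Sum.inl
        (Prod.ext (Subtype.ext (Subtype.ext hy'.symm)) (Subtype.ext hvv))
    · exact absurd (hgr t') (by
        change t.1.1.1 * t.2.1 = t'.1.1 * t'.2.1 at e'
        rw [← e']
        exact hgl t)
    · exact absurd (hgr t) (by
        change t.1.1 * t.2.1 = t'.1.1.1 * t'.2.1 at e'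
        rw [e']
        exact hgl t')
    · change t.1.1 * t.2.1 = t'.1.1 * t'.2.1 at e'
      have h3 : t'.1.1⁻¹ * t.1.1 = t'.2.1 * t.2.1⁻¹ := by
        calc t'.1.1⁻¹ * t.1.1 = t'.1.1⁻¹ * (t.1.1 * t.2.1) * t.2.1⁻¹ := by group
          _ = _ := by rw [e', inv_mul_cancel_left]
      have h4 := h.Q_inf_aGrp hx hxa hxb hba S (mul_mem (inv_mem t'.1.2) t.1.2)
        (h3 ▸ mul_mem t'.2.2 (inv_mem t.2.2))
      have h5 : t'.1.1 = t.1.1 := inv_mul_eq_one.1 h4
      rw [h5] at e'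
      exact congrArg Sum.inr (Prod.ext (Subtype.ext h5.symm) (Subtype.ext (mul_left_cancel e')))
  have h2 := Nat.card_le_card_of_injective f hinj
  rw [Nat.card_sum, Nat.card_prod, Nat.card_prod, S.card_Q, h.card_mGrp hx hxa hxb hba S,
    ← add_mul] at h2
  have h3 := Nat.le_of_mul_le_mul_right h2 Nat.card_pos
  have h4 : q * (q ^ 2 - q) + q ^ 2 = q ^ 3 := by
    have hqq : q * q ≤ q * q ^ 2 := Nat.mul_le_mul_left _ (Nat.le_self_pow two_ne_zero q)
    rw [Nat.mul_sub, ← pow_succ', ← pow_two, Nat.sub_add_cancel]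
    rwa [← pow_succ', ← pow_two] at hqq
  show Nat.card B ≤ _
  rw [hsplit, mul_add, mul_comm q (_ - 1)]
  omega

/-- **`|A| ≥ 4`.** -/
theorem Ctx.false_of_four (htop : IsTop D x a) (h4 : 4 ≤ Nat.card (aGrp Ω x))
    (hscal : ∀ u ∈ aGrp Ω x, u ≠ 1 → ∀ k ∈ cGrp D x a, k * u * k⁻¹ ∈ aGrp Ω x → k * u * k⁻¹ = u)
    (hrot : IsElem D x a →
      cGrp D x a ⊓ Subgroup.normalizer (mGrp D x a : Set G) ≤ mGrp D x a) : False := by
  haveI := h.finite
  haveI := h.pre.trans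
  have hCM := h.cGrp_le_mGrp hx hxa hxb hba S htop h4 hscal hrot
  refine h.family_false (i := Nat.card (aGrp Ω x) - 1) (by omega) (fun z hz => ?_) fun c => ?_
  · obtain ⟨c, -, -, hc, -⟩ := hz.two
    obtain ⟨g, hg⟩ := exists_smul_eq G c a
    have hza : (g * z * g⁻¹) • a = a := by
      rw [← hg, mul_smul, mul_smul, inv_smul_smul, hc]
    have hb := h.bad_conj hz hc g
    rw [← h.card_aGrp_conj hz g,
      (h.top_eq hx hxa hxb hba S htop hb (hCM (h.bad_mem_cGrp hx hxa hb hza))).2.1]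
    omega
  · obtain ⟨g, hg⟩ := exists_smul_eq G c a
    refine le_trans ?_ (h.card_bad_at_le hx hxa hxb hba S hCM)
    refine Nat.card_le_card_of_injective (fun y : {y : G | Bad G Ω y ∧ y • c = c} =>
      (⟨g * y.1 * g⁻¹, h.bad_conj y.2.1 y.2.2 g, by
        rw [← hg, mul_smul, mul_smul, inv_smul_smul, y.2.2]⟩ : {y : G | Bad G Ω y ∧ y • a = a}))
      fun y z e => Subtype.ext (mul_left_cancel (mul_right_cancel (congrArg Subtype.val e)))

end Cfsg.Agent.Lib.Crit5.KillTwo
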