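import Mathlib

/-!
# CRIT C2: a vector on which a power of a normalising automorphism agrees

`M` is an abelian group of odd order of automorphisms of an elementary abelian `2`-group `W`,
`tau` normalises `M`.  Some power `tau^o` with `2 ^ o ≤ |W|` acts trivially, by conjugation, on
the image of `M` in some simple factor of the algebra generated by `M`.
-/

namespace Cfsg.Agent.Lib.Crit5.KillTwo

/-- An automorphism of an elementary abelian `2`-group as a linear map. -/
private def endOfAut {W : Type*} [CommGroup W] [Module (ZMod 2) (Additive W)] :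
    MulAut W →* Module.End (ZMod 2) (Additive W) where
  toFun g := (MonoidHom.toAdditive g.toMonoidHom).toZModLinearMap 2
  map_one' := by ext x; rfl
  map_mul' g h := by ext x; rfl

/-- A finite faithful module over a commutative algebra all whose elements are fixed by a power
of the Frobenius has a vector with trivial annihilator. -/
private theorem exists_free_vector {V : Type*} [AddCommGroup V] [Module (ZMod 2) V] [Finite V]
    (A : Subalgebra (ZMod 2) (Module.End (ZMod 2) V))
    (hcomm : ∀ a b : A, a * b = b * a) {N : ℕ} (hN : 1 ≤ N) (hpow : ∀ a : A, a ^ 2 ^ N = a) :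
    ∃ v : V, ∀ a : A, (a : Module.End (ZMod 2) V) v = 0 → a = 0 := by
  classical
  haveI : Finite (Module.End (ZMod 2) V) := Finite.of_injective _ DFunLike.coe_injective
  obtain ⟨v, hv⟩ := Finite.exists_min
    fun v : V => Set.ncard {a : A | (a : Module.End (ZMod 2) V) v = 0}
  refine ⟨v, fun a hav => ?_⟩
  by_contra ha
  have h2 : 2 ≤ 2 ^ N := by simpa using Nat.pow_le_pow_right (by norm_num : 0 < 2) hN
  set q := 2 ^ N - 1 with hq
  set e := a ^ q with he
  have hea : e * a = a := by
    rw [he, ← pow_succ, show q + 1 = 2 ^ N by omega, hpow]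
  have hee : e * e = e := by
    have hq' : q + q = (q - 1) + (q + 1) := by omega
    rw [he, ← pow_add, hq', pow_add, show q + 1 = 2 ^ N by omega, hpow, ← pow_succ,
      show q - 1 + 1 = q by omega]
  have hev : (e : Module.End (ZMod 2) V) v = 0 := by
    rw [he, show q = (q - 1) + 1 by omega, pow_succ]
    simp [Module.End.mul_apply, hav]
  have he0 : (e : Module.End (ZMod 2) V) ≠ 0 := by
    intro h
    apply ha
    rw [← hea, show e = 0 from Subtype.ext h, zero_mul]
  obtain ⟨w, hw⟩ : ∃ w, (e : Module.End (ZMod 2) V) w ≠ 0 := by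
    by_contra hcon
    push Not at hcon
    exact he0 (LinearMap.ext hcon)
  have hsub : {b : A | (b : Module.End (ZMod 2) V) (v + (e : Module.End (ZMod 2) V) w) = 0} ⊆
      {b : A | (b : Module.End (ZMod 2) V) v = 0} := by
    intro b hb
    simp only [Set.mem_ofPred_eq, map_add] at hb ⊢
    have heb : ∀ x, (e : Module.End (ZMod 2) V) ((b : Module.End (ZMod 2) V) x) =
        (b : Module.End (ZMod 2) V) ((e : Module.End (ZMod 2) V) x) := fun x => by
      have := congrArg (fun c : A => (c : Module.End (ZMod 2) V) x) (hcomm e b)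
      simpa [Module.End.mul_apply] using this
    have h' := congrArg (e : Module.End (ZMod 2) V) hb
    rw [map_add, map_zero, heb, heb, hev, map_zero, zero_add] at h'
    have hee' : (e : Module.End (ZMod 2) V) ((e : Module.End (ZMod 2) V) w) =
        (e : Module.End (ZMod 2) V) w := by
      have := congrArg (fun c : A => (c : Module.End (ZMod 2) V) w) hee
      simpa [Module.End.mul_apply] using this
    rw [hee'] at h'
    rwa [h', add_zero] at hb
  have hlt := Set.ncard_lt_ncard (hsub.ssubset_of_mem_notMem (a := e) hev (fun h => hw ?_))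
    (Set.toFinite _)
  · exact absurd (hv (v + (e : Module.End (ZMod 2) V) w)) (not_le.mpr hlt)
  · simp only [Set.mem_ofPred_eq, map_add, hev, zero_add] at h
    have := congrArg (fun c : A => (c : Module.End (ZMod 2) V) w) hee
    simp only [Subalgebra.coe_mul, Module.End.mul_apply] at this
    rw [← this]; exact h

theorem exists_pow_agree {W : Type*} [CommGroup W] [Finite W] (hW : ∀ w : W, w * w = 1)
    (M : Subgroup (MulAut W)) (hM : ∀ m ∈ M, ∀ n ∈ M, Commute m n) (hodd : Odd (Nat.card M))
    (hne : M ≠ ⊥) (tau : MulAut W) (htau : ∀ m ∈ M, tau * m * tau⁻¹ ∈ M) :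
    ∃ o : ℕ, 1 ≤ o ∧ 2 ^ o ≤ Nat.card W ∧ ∃ w : W, (∃ m ∈ M, m w ≠ w) ∧
      ∀ m ∈ M, (tau ^ o * m * (tau ^ o)⁻¹) w = m w := by
  classical
  letI : Module (ZMod 2) (Additive W) :=
    AddCommGroup.zmodModule (n := 2) (fun x => by rw [two_nsmul]; exact hW x.toMul)
  haveI : Finite (Additive W) := Finite.of_equiv W Additive.ofMul
  let ι : MulAut W →* Module.End (ZMod 2) (Additive W) := endOfAut
  haveI : Finite (Module.End (ZMod 2) (Additive W)) := Finite.of_injective _ DFunLike.coe_injective
  let A := Algebra.adjoin (ZMod 2) (ι '' (M : Set (MulAut W)))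
  have hιA : ∀ m ∈ M, ι m ∈ A := fun m hm => Algebra.subset_adjoin ⟨m, hm, rfl⟩
  haveI hA : IsMulCommutative A := Algebra.isMulCommutative_adjoin (ZMod 2) (by
    rintro _ ⟨m, hm, rfl⟩ _ ⟨n, hn, rfl⟩
    rw [← map_mul, ← map_mul, (hM m hm n hn).eq])
  have hcomm : ∀ a b : A, a * b = b * a := fun a b => hA.is_comm.comm a b
  letI : CommRing A := { (inferInstance : Ring A) with mul_comm := hcomm }
  -- every element is fixed by a power of the Frobenius
  have htwo : (2 : A) = 0 := by
    have h : algebraMap (ZMod 2) A 2 = algebraMap (ZMod 2) A 0 := congrArg _ (by decide)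
    rwa [map_ofNat, map_zero] at h
  have hfrob : ∀ (n : ℕ) (x y : A), (x + y) ^ 2 ^ n = x ^ 2 ^ n + y ^ 2 ^ n := by
    intro n
    induction n with
    | zero => simp
    | succ n ih =>
      intro x y
      rw [pow_succ, pow_mul, pow_mul, pow_mul, ih, add_sq, htwo]
      simp
  set N := Nat.totient (Nat.card M) with hN
  have hN1 : 1 ≤ N := Nat.totient_pos.mpr Nat.card_pos
  have hmod : 2 ^ N % Nat.card M = 1 % Nat.card M :=
    Nat.ModEq.pow_totient ((Nat.coprime_two_left).mpr hodd)
  have hgen : ∀ m ∈ M, m ^ 2 ^ N = m := by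
    intro m hm
    have h : (⟨m, hm⟩ : M) ^ 2 ^ N = ⟨m, hm⟩ := by
      rw [← pow_mod_natCard, hmod, pow_mod_natCard, pow_one]
    exact congrArg Subtype.val h
  have hpow : ∀ a : A, a ^ 2 ^ N = a := by
    rintro ⟨x, hx⟩
    induction hx using Algebra.adjoin_induction with
    | mem x hx =>
      obtain ⟨m, hm, rfl⟩ := hx
      exact Subtype.ext (by simp [← map_pow, hgen m hm])
    | algebraMap r =>
      have hr : r ^ 2 ^ N = r := by
        have := ZMod.pow_card_pow (p := 2) (n := N) r
        simpa using this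
      exact Subtype.ext (by simp [← map_pow, hr])
    | add x y hx hy h1 h2 =>
      change ((⟨x, hx⟩ : A) + ⟨y, hy⟩) ^ 2 ^ N = ⟨x, hx⟩ + ⟨y, hy⟩
      rw [hfrob, h1, h2]
    | mul x y hx hy h1 h2 =>
      change ((⟨x, hx⟩ : A) * ⟨y, hy⟩) ^ 2 ^ N = ⟨x, hx⟩ * ⟨y, hy⟩
      rw [mul_pow, h1, h2]
  obtain ⟨v, hv⟩ := exists_free_vector A hcomm hN1 hpow
  have hcardA : Nat.card A ≤ Nat.card W := by
    rw [← Nat.card_congr (Additive.ofMul (α := W)).symm]
    refine Nat.card_le_card_of_injective
      (fun a : A => (a : Module.End (ZMod 2) (Additive W)) v) ?_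
    intro a b hab
    have : ((a - b : A) : Module.End (ZMod 2) (Additive W)) v = 0 := by
      simp only [Subalgebra.coe_sub, LinearMap.sub_apply]
      exact sub_eq_zero.mpr hab
    exact sub_eq_zero.mp (hv _ this)
  -- a maximal ideal on whose quotient `M` is not trivial
  obtain ⟨m₀, hm₀, hm₀1⟩ := (Subgroup.ne_bot_iff_exists_ne_one.mp hne).elim
    (fun m hm => ⟨(m : MulAut W), m.2, fun h => hm (Subtype.ext h)⟩ :
      ∀ m : M, m ≠ 1 → ∃ m₀ : MulAut W, m₀ ∈ M ∧ m₀ ≠ 1)
  let a₀ : A := ⟨ι m₀, hιA m₀ hm₀⟩ - 1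
  have ha₀ : a₀ ≠ 0 := by
    intro h
    apply hm₀1
    have h' : ι m₀ = 1 := congrArg Subtype.val (sub_eq_zero.mp h)
    refine MulEquiv.ext fun x => ?_
    exact congrArg Additive.toMul (LinearMap.congr_fun h' (Additive.ofMul x))
  have hnil : ¬ IsNilpotent a₀ := by
    rintro ⟨k, hk⟩
    apply ha₀
    have hit : ∀ j, a₀ ^ (2 ^ N) ^ j = a₀ := by
      intro j
      induction j with
      | zero => simp
      | succ j ih => rw [pow_succ, pow_mul, ih, hpow]
    have hkle : k ≤ (2 ^ N) ^ k :=
      (Nat.lt_pow_self (by calc 1 < 2 ^ 1 := by norm_num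
                              _ ≤ 2 ^ N := Nat.pow_le_pow_right (by norm_num) hN1)).le
    rw [← hit k, ← Nat.add_sub_cancel' hkle, pow_add, hk, zero_mul]
  rw [nilpotent_iff_mem_prime] at hnil
  push Not at hnil
  obtain ⟨P, hP, haP⟩ := hnil
  haveI := hP
  haveI : IsDomain (A ⧸ P) := Ideal.Quotient.isDomain P
  let φ : A →ₐ[ZMod 2] A ⧸ P := Ideal.Quotient.mkₐ (ZMod 2) P
  -- conjugation by the powers of `tau`
  have htn : ∀ n : ℕ, ∀ m ∈ M, tau ^ n * m * (tau ^ n)⁻¹ ∈ M := by
    intro n
    induction n with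
    | zero => simp
    | succ n ih =>
      intro m hm
      have := htau _ (ih m hm)
      rw [pow_succ', mul_inv_rev]
      simpa [mul_assoc] using this
  let C : MulAut W → (Module.End (ZMod 2) (Additive W) →ₐ[ZMod 2]
      Module.End (ZMod 2) (Additive W)) := fun g =>
    { toFun := fun x => ι g * x * ι g⁻¹
      map_one' := by rw [mul_one, ← map_mul, mul_inv_cancel, map_one]
      map_mul' := fun x y => by
        have h : ι g⁻¹ * ι g = 1 := by rw [← map_mul, inv_mul_cancel, map_one]
        calc ι g * (x * y) * ι g⁻¹ = ι g * x * 1 * y * ι g⁻¹ := by simp [mul_assoc]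
          _ = (ι g * x * ι g⁻¹) * (ι g * y * ι g⁻¹) := by rw [← h]; simp [mul_assoc]
      map_zero' := by simp
      map_add' := fun x y => by simp [mul_add, add_mul]
      commutes' := fun r => by
        rw [← Algebra.commutes r (ι g), mul_assoc, ← map_mul, mul_inv_cancel, map_one, mul_one] }
  have hC : ∀ g x, C g x = ι g * x * ι g⁻¹ := fun _ _ => rfl
  have hCA : ∀ n : ℕ, ∀ x ∈ A, C (tau ^ n) x ∈ A := by
    intro n
    have : A ≤ A.comap (C (tau ^ n)) := by
      refine Algebra.adjoin_le ?_
      rintro _ ⟨m, hm, rfl⟩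
      change C (tau ^ n) (ι m) ∈ A
      rw [hC, ← map_mul, ← map_mul]
      exact hιA _ (htn n m hm)
    exact fun x hx => this hx
  let c : ℕ → (A →ₐ[ZMod 2] A) := fun n =>
    ((C (tau ^ n)).comp A.val).codRestrict A (fun a => hCA n a.1 a.2)
  have hc : ∀ (n : ℕ) (a : A), ((c n a : A) : Module.End (ZMod 2) (Additive W)) =
      ι (tau ^ n) * a.1 * ι (tau ^ n)⁻¹ := fun _ _ => rfl
  have hc_add : ∀ (i k : ℕ) (a : A), c (k + i) a = c k (c i a) := by
    intro i k a
    apply Subtype.ext
    rw [hc, hc, hc, pow_add, mul_inv_rev, map_mul, map_mul]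
    simp [mul_assoc]
  have hc_surj : ∀ i, Function.Surjective (c i) := by
    intro i
    refine Finite.injective_iff_surjective.mp fun a b hab => Subtype.ext ?_
    have h' := congrArg (fun z : A => ι (tau ^ i)⁻¹ * z.1 * ι (tau ^ i)) hab
    have hl : ι (tau ^ i)⁻¹ * ι (tau ^ i) = 1 := by rw [← map_mul, inv_mul_cancel, map_one]
    simp only [hc, mul_assoc, hl, mul_one] at h'
    simp only [← mul_assoc, hl, one_mul] at h'
    exact h'
  -- two of the composites agree
  set d := Module.finrank (ZMod 2) A with hd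
  have hcardd : Nat.card A = 2 ^ d := by
    rw [Module.natCard_eq_pow_finrank (K := ZMod 2), Nat.card_zmod]
  obtain ⟨i, j, hij, hjd, hφ⟩ : ∃ i j : ℕ, i < j ∧ j ≤ d ∧ φ.comp (c i) = φ.comp (c j) := by
    by_contra hcon
    push Not at hcon
    have hinj : Function.Injective fun k : Fin (d + 1) => φ.comp (c k) := by
      intro x y hxy
      rcases lt_trichotomy (x : ℕ) y with h | h | h
      · exact absurd hxy (hcon x y h (Nat.lt_succ_iff.mp y.2))
      · exact Fin.ext h
      · exact absurd hxy.symm (hcon y x h (Nat.lt_succ_iff.mp x.2))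
    have h1 := Nat.card_le_card_of_injective _ hinj
    have h2 := card_algHom_le_finrank (ZMod 2) A (A ⧸ P)
    rw [Nat.card_fin] at h1
    omega
  have hagree : ∀ b : A, φ (c (j - i) b) = φ b := by
    intro b
    obtain ⟨a, rfl⟩ := hc_surj i b
    rw [← hc_add, Nat.sub_add_cancel hij.le]
    exact (AlgHom.congr_fun hφ a).symm
  -- an element outside `P` killing `P`
  haveI : Fintype A := Fintype.ofFinite A
  have hq : 2 ^ N - 1 ≠ 0 := by
    have : 2 ≤ 2 ^ N := by simpa using Nat.pow_le_pow_right (by norm_num : 0 < 2) hN1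
    omega
  let e : A := ∏ p ∈ Finset.univ.filter (fun p : A => p ∈ P), (1 - p ^ (2 ^ N - 1))
  have heP : ∀ p ∈ P, e * p = 0 := by
    intro p hp
    have hpm : p ∈ Finset.univ.filter (fun p : A => p ∈ P) := by simp [hp]
    simp only [e]
    rw [← Finset.prod_erase_mul _ _ hpm, mul_assoc, sub_mul, one_mul, ← pow_succ,
      show 2 ^ N - 1 + 1 = 2 ^ N by omega, hpow, sub_self, mul_zero]
  have hφe : φ e = 1 := by
    simp only [e, map_prod]
    refine Finset.prod_eq_one fun p hp => ?_
    have hp' : φ p = 0 := Ideal.Quotient.eq_zero_iff_mem.mpr (Finset.mem_filter.mp hp).2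
    rw [map_sub, map_one, map_pow, hp', zero_pow hq, sub_zero]
  let w : Additive W := (e : Module.End (ZMod 2) (Additive W)) v
  refine ⟨j - i, by omega, ?_, w.toMul, ⟨m₀, hm₀, ?_⟩, ?_⟩
  · calc 2 ^ (j - i) ≤ 2 ^ d := Nat.pow_le_pow_right (by norm_num) (by omega)
      _ = Nat.card A := hcardd.symm
      _ ≤ Nat.card W := hcardA
  · intro h
    have h0 : ((a₀ * e : A) : Module.End (ZMod 2) (Additive W)) v = 0 := by
      simp only [a₀, Subalgebra.coe_mul, Subalgebra.coe_sub, Subalgebra.coe_one,
        Module.End.mul_apply, LinearMap.sub_apply, Module.End.one_apply]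
      exact sub_eq_zero.mpr (congrArg Additive.ofMul h)
    have h1 := congrArg φ (hv _ h0)
    rw [map_mul, hφe, mul_one, map_zero] at h1
    exact haP (Ideal.Quotient.eq_zero_iff_mem.mp h1)
  · intro m hm
    let a : A := ⟨ι m, hιA m hm⟩
    have hP' : c (j - i) a - a ∈ P :=
      Ideal.Quotient.eq_zero_iff_mem.mp (show φ (c (j - i) a - a) = 0 by
        rw [map_sub, hagree, sub_self])
    have h0 : ((c (j - i) a - a) * e : A) = 0 := by rw [mul_comm]; exact heP _ hP'
    have h1 := LinearMap.congr_fun (congrArg Subtype.val h0) v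
    simp only [Subalgebra.coe_mul, Subalgebra.coe_sub, Subalgebra.coe_zero, hc,
      Module.End.mul_apply, LinearMap.sub_apply, LinearMap.zero_apply, sub_eq_zero] at h1
    exact congrArg Additive.toMul h1

end Cfsg.Agent.Lib.Crit5.KillTwo
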