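import Cfsg.Agent.Lib.Crit5.KillTwoOne
import Cfsg.Agent.Lib.Crit5.KillTwoAlg
import Cfsg.Agent.Lib.OddOrder.FeitThompson

/-!
# The single fixed point criterion, section C2: `r = 1`, the normaliser of a largest `mGrp`

With elementary squares `C ∩ N(M) ≤ M` (`cGrp_norm_le`, given that no element of `C` moves `x` in
`A`), and `|A| = 2` is impossible (`false_of_two`).  See `notes/crit_c2_r1_helper31.md`, C and D.

Owner: helper31.
-/

set_option autoImplicit false
set_option linter.style.haveILetI false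
set_option linter.unusedSectionVars false

namespace Cfsg.Agent.Lib.Crit5.KillTwo

open MulAction Cfsg.Agent.Lib.Involutions.Basic
open Cfsg.Agent.Lib.Crit8 (Action Pre Bad memAt memSwap loc)
open scoped commutatorElement

universe u

variable {G Ω : Type u} [Group G] [MulAction G Ω] {D : Set G}

/-- The elements fixing `a` which normalise `mGrp x a`. -/
def nGrp (D : Set G) (x : G) (a : Ω) : Subgroup G :=
  stabilizer G a ⊓ Subgroup.normalizer (mGrp D x a : Set G)

/-- A subgroup of odd order has a nontrivial elementary abelian one invariant under its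
normaliser. -/
theorem exists_elem_inv {Γ : Type*} [Group Γ] (R : Subgroup Γ) [Finite R]
    (hodd : Odd (Nat.card R)) (hR : R ≠ ⊥) :
    ∃ (p : ℕ) (N : Subgroup Γ), p.Prime ∧ N ≤ R ∧ N ≠ ⊥ ∧ (∀ m ∈ N, ∀ n ∈ N, Commute m n) ∧
      (∀ m ∈ N, m ^ p = 1) ∧
      ∀ g : Γ, (∀ m, m ∈ R ↔ g * m * g⁻¹ ∈ R) → ∀ m ∈ N, g * m * g⁻¹ ∈ N := by
  classical
  haveI : Nontrivial R := (Subgroup.nontrivial_iff_ne_bot R).2 hR
  obtain ⟨hsol⟩ := OddOrder.FeitThompson.isSolvable_of_odd_card hodd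
  obtain ⟨n, hn, hn'⟩ : ∃ n, derivedSeries R n ≠ ⊥ ∧ derivedSeries R (n + 1) = ⊥ := by
    by_contra hall
    push Not at hall
    obtain ⟨n, hn⟩ := hsol
    have hne : ∀ n, derivedSeries R n ≠ ⊥ := by
      intro n
      induction n with
      | zero => rw [derivedSeries_zero]; exact top_ne_bot
      | succ n ih => exact hall n ih
    exact hne n hn
  have hcomm : ∀ u ∈ derivedSeries R n, ∀ v ∈ derivedSeries R n, Commute u v := by
    intro u hu v hv
    have h1 : ⁅u, v⁆ ∈ derivedSeries R (n + 1) := by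
      rw [derivedSeries_succ]
      exact Subgroup.commutator_mem_commutator hu hv
    rw [hn', Subgroup.mem_bot, commutatorElement_eq_one_iff_commute] at h1
    exact h1
  haveI : Nontrivial (derivedSeries R n) := (Subgroup.nontrivial_iff_ne_bot _).2 hn
  obtain ⟨p, hp, hpd⟩ := Nat.exists_prime_and_dvd
    (Finite.one_lt_card (α := derivedSeries R n)).ne'
  haveI : Fact p.Prime := ⟨hp⟩
  obtain ⟨⟨m0, hm0⟩, ho⟩ := exists_prime_orderOf_dvd_card' (G := derivedSeries R n) p hpd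
  rw [Subgroup.orderOf_mk] at ho
  let N0 : Subgroup R :=
    { carrier := {m | m ∈ derivedSeries R n ∧ m ^ p = 1}
      one_mem' := ⟨one_mem _, one_pow p⟩
      mul_mem' := fun {u v} hu hv => ⟨mul_mem hu.1 hv.1, by
        rw [(hcomm u hu.1 v hv.1).mul_pow, hu.2, hv.2, mul_one]⟩
      inv_mem' := fun {u} hu => ⟨inv_mem hu.1, by rw [inv_pow, hu.2, inv_one]⟩ }
  refine ⟨p, N0.map R.subtype, hp, Subgroup.map_subtype_le _, fun e => ?_, ?_, ?_, ?_⟩
  · rw [Subgroup.map_eq_bot_iff_of_injective _ R.subtype_injective] at e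
    have h1 : m0 ∈ N0 := ⟨hm0, ho ▸ pow_orderOf_eq_one m0⟩
    rw [e, Subgroup.mem_bot] at h1
    rw [h1, orderOf_one] at ho
    exact hp.one_lt.ne ho
  · rintro _ ⟨u, hu, rfl⟩ _ ⟨v, hv, rfl⟩
    exact congrArg Subtype.val (hcomm u hu.1 v hv.1).eq
  · rintro _ ⟨u, hu, rfl⟩
    exact congrArg Subtype.val hu.2
  · rintro g hg _ ⟨u, hu, rfl⟩
    let φ : R ≃* R :=
      { toFun := fun m => ⟨g * m * g⁻¹, (hg m).1 m.2⟩
        invFun := fun m => ⟨g⁻¹ * m * g, (hg _).2 (by simp [mul_assoc])⟩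
        left_inv := fun m => Subtype.ext (by simp [mul_assoc])
        right_inv := fun m => Subtype.ext (by simp [mul_assoc])
        map_mul' := fun m m' => Subtype.ext (by simp [mul_assoc]) }
    refine ⟨φ u, ⟨?_, by rw [← map_pow, hu.2, map_one]⟩, rfl⟩
    exact map_derivedSeries_le_derivedSeries φ.toMonoidHom n ⟨u, hu.1, rfl⟩

variable [Finite G] {q : ℕ} (h : Ctx G Ω D q 1) {x : G} {a b : Ω}
variable (hx : Bad G Ω x) (hxa : x • a = a) (hxb : x • b = b) (hba : b ≠ a) (S : Sz D x a b q)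
include h hx hxa hxb hba S

theorem Ctx.mGrp_le_nGrp : mGrp D x a ≤ nGrp D x a :=
  le_inf (h.mGrp_le hx hxa) Subgroup.le_normalizer

theorem Ctx.T_le_nGrp : S.T ≤ nGrp D x a := fun t ht => by
  refine ⟨(h.T_props hx hxa hxb S ht).1, Subgroup.mem_normalizer_iff.2 fun y => ⟨fun hy =>
    (h.T_conj hx hxa hxb hba S ht hy).1, fun hy => ?_⟩⟩
  have := (h.T_conj hx hxa hxb hba S (inv_mem ht) hy).1
  rwa [show t⁻¹ * (t * y * t⁻¹) * t⁻¹⁻¹ = y by group] at this

omit hxb hba S in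
theorem Ctx.nGrp_conj {n : G} (hn : n ∈ nGrp D x a) {y : G} (hy : y ∈ mGrp D x a) :
    n * y * n⁻¹ ∈ mGrp D x a := (Subgroup.mem_normalizer_iff.1 hn.2 y).1 hy

/-- A map of a subgroup of `G_a` killing what `mGrp` has has odd image. -/
theorem Ctx.odd_range (htop : IsTop D x a) {R : Subgroup G} (hR : R ≤ stabilizer G a) {Γ : Type u}
    [Group Γ] (f : R →* Γ) (hker : ∀ r : R, f r = 1 ↔ (r : G) ∈ mGrp D x a)
    (hMR : mGrp D x a ≤ R) : Odd (Nat.card f.range) := by
  haveI : Fact (Nat.Prime 2) := ⟨Nat.prime_two⟩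
  obtain ⟨e, he⟩ := IsPGroup.iff_card.1 (h.mGrp_pGroup hx hxa hxb hba S)
  have hk : f.ker = (mGrp D x a).subgroupOf R := by
    ext r
    rw [MonoidHom.mem_ker, Subgroup.mem_subgroupOf, hker]
  have hc : Nat.card f.range * 2 ^ e = Nat.card R := by
    rw [← he, ← Subgroup.index_ker, hk,
      ← Nat.card_congr (Subgroup.subgroupOfEquivOfLe hMR).toEquiv, Subgroup.index_mul_card]
  by_contra hev
  rw [Nat.not_odd_iff_even] at hev
  obtain ⟨c, hc2⟩ := hev.two_dvd
  obtain ⟨P, hP⟩ := Sylow.exists_subgroup_card_pow_prime (G := R) 2 (n := e + 1)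
    ⟨c, by rw [← hc, hc2]; ring⟩
  have h1 := htop (P.map R.subtype) ((IsPGroup.of_card hP).map _)
    ((Subgroup.map_subtype_le P).trans hR)
  rw [Subgroup.card_map_of_injective R.subtype_injective, hP, he] at h1
  exact absurd h1 (Nat.not_le.2 (Nat.pow_lt_pow_right (by norm_num) (Nat.lt_succ_self e)))

/-- The action on the cosets of `E`. -/
theorem Ctx.exists_vAct (hel : IsElem D x a) :
    ∃ (V : Type u) (_ : CommGroup V) (_ : Finite V) (π : mGrp D x a →* V)
      (ρ : nGrp D x a →* MulAut V), Function.Surjective π ∧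
      (∀ y, π y = 1 ↔ (y : G) ∈ eGrp D x a) ∧
      (∀ (n : nGrp D x a) (y : mGrp D x a),
        ρ n (π y) = π ⟨n * y * (n : G)⁻¹, h.nGrp_conj hx hxa n.2 y.2⟩) ∧
      (∀ w : V, w * w = 1) ∧ Nat.card V = q ^ 2 * Nat.card (aGrp Ω x) ∧
      ∀ n : nGrp D x a, (n : G) ∈ mGrp D x a → ρ n = 1 := by
  classical
  set M := mGrp D x a
  haveI hN : ((eGrp D x a).subgroupOf M).Normal := ⟨fun e he y => by
    rw [Subgroup.mem_subgroupOf] at he ⊢
    show (y : G) * e * (y : G)⁻¹ ∈ eGrp D x a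
    rw [(h.E_central hx hxa hxb hba S y.2 he).eq, mul_inv_cancel_right]
    exact he⟩
  set N := (eGrp D x a).subgroupOf M with hNdef
  letI : CommGroup (M ⧸ N) :=
    { (inferInstance : Group (M ⧸ N)) with
      mul_comm := fun c c' => by
        induction c using QuotientGroup.induction_on with
        | _ y =>
          induction c' using QuotientGroup.induction_on with
          | _ z =>
            show ((y * z : M) : M ⧸ N) = ((z * y : M) : M ⧸ N)
            refine QuotientGroup.eq.2 (Subgroup.mem_subgroupOf.2 ?_)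
            have h1 := h.commutator_mem hx hxa hxb hba S hel (inv_mem z.2) (inv_mem y.2)
            show ((y : G) * z)⁻¹ * (z * y) ∈ eGrp D x a
            rwa [show ((y : G) * z)⁻¹ * (z * y) = (z : G)⁻¹ * (y : G)⁻¹ * (z : G)⁻¹⁻¹ *
              (y : G)⁻¹⁻¹ by group] }
  have hmk : ∀ y : M, (QuotientGroup.mk' N y) = 1 ↔ (y : G) ∈ eGrp D x a := fun y => by
    rw [QuotientGroup.mk'_apply, QuotientGroup.eq_one_iff]; exact Subgroup.mem_subgroupOf
  let c : nGrp D x a → (M →* M ⧸ N) := fun n =>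
    (QuotientGroup.mk' N).comp
      { toFun := fun y => ⟨n * y * (n : G)⁻¹, h.nGrp_conj hx hxa n.2 y.2⟩
        map_one' := Subtype.ext (by simp)
        map_mul' := fun y z => Subtype.ext (by simp [mul_assoc]) }
  have hc : ∀ n, N ≤ (c n).ker := fun n y hy => by
    rw [MonoidHom.mem_ker]
    exact (hmk _).2 (h.conj_eGrp hx hxa n.2.1 (Subgroup.mem_subgroupOf.1 hy))
  let l : nGrp D x a → (M ⧸ N →* M ⧸ N) := fun n => QuotientGroup.lift N (c n) (hc n)
  have hl : ∀ n (y : M), l n (y : M ⧸ N) =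
      QuotientGroup.mk' N ⟨n * y * (n : G)⁻¹, h.nGrp_conj hx hxa n.2 y.2⟩ := fun n y => rfl
  have hll : ∀ n m w, l n (l m w) = l (n * m) w := by
    intro n m w
    induction w using QuotientGroup.induction_on with
    | _ y =>
      rw [hl, hl, QuotientGroup.mk'_apply, hl]
      exact congrArg _ (Subtype.ext (by simp [mul_assoc]))
  have hl1 : ∀ w, l 1 w = w := by
    intro w
    induction w using QuotientGroup.induction_on with
    | _ y => rw [hl]; exact congrArg _ (Subtype.ext (by simp))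
  let ρ : nGrp D x a →* MulAut (M ⧸ N) :=
    { toFun := fun n =>
        { toFun := l n
          invFun := l n⁻¹
          left_inv := fun w => by rw [hll, inv_mul_cancel, hl1]
          right_inv := fun w => by rw [hll, mul_inv_cancel, hl1]
          map_mul' := map_mul (l n) }
      map_one' := MulEquiv.ext hl1
      map_mul' := fun n m => MulEquiv.ext fun w => (hll n m w).symm }
  refine ⟨M ⧸ N, inferInstance, inferInstance, QuotientGroup.mk' N, ρ,
    QuotientGroup.mk'_surjective N, hmk, fun n y => rfl, fun w => ?_, ?_, fun n hn => ?_⟩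
  · induction w using QuotientGroup.induction_on with
    | _ y => exact (hmk (y * y)).2 (hel y y.2)
  · have h1 := Subgroup.card_eq_card_quotient_mul_card_subgroup N
    rw [h.card_mGrp hx hxa hxb hba S, hNdef,
      Nat.card_congr (Subgroup.subgroupOfEquivOfLe (h.eGrp_le_mGrp hx hxa)).toEquiv,
      h.card_eGrp hx hxa] at h1
    refine Nat.eq_of_mul_eq_mul_right (show 0 < q by have := h.eight_le; omega) ?_
    rw [← h1]; ring
  · refine MulEquiv.ext fun w => ?_
    induction w using QuotientGroup.induction_on with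
    | _ y =>
      show l n (y : M ⧸ N) = _
      rw [hl, MulAut.one_apply]
      refine QuotientGroup.eq.2 (Subgroup.mem_subgroupOf.2 ?_)
      have h1 := h.commutator_mem hx hxa hxb hba S hel hn (inv_mem y.2)
      show ((n : G) * y * (n : G)⁻¹)⁻¹ * y ∈ eGrp D x a
      rwa [show ((n : G) * y * (n : G)⁻¹)⁻¹ * y =
        (n : G) * (y : G)⁻¹ * (n : G)⁻¹ * (y : G)⁻¹⁻¹ by group]

/-- The action on `E`. -/
theorem Ctx.exists_eAct : ∃ ρ : nGrp D x a →* MulAut (eGrp D x a),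
    ∀ n e, ((ρ n e : eGrp D x a) : G) = n * e * (n : G)⁻¹ := by
  refine ⟨{ toFun := fun n =>
              { toFun := fun e => ⟨n * e * (n : G)⁻¹, h.conj_eGrp hx hxa n.2.1 e.2⟩
                invFun := fun e => ⟨(n : G)⁻¹ * e * n, by
                  have := h.conj_eGrp hx hxa (g := (n : G)⁻¹) ((nGrp D x a).inv_mem n.2).1 e.2
                  rwa [inv_inv] at this⟩
                left_inv := fun e => Subtype.ext (by simp [mul_assoc])
                right_inv := fun e => Subtype.ext (by simp [mul_assoc])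
                map_mul' := fun e f => Subtype.ext (by simp [mul_assoc]) }
            map_one' := MulEquiv.ext fun e => Subtype.ext (by simp)
            map_mul' := fun n m => MulEquiv.ext fun e => Subtype.ext (by simp [mul_assoc]) },
    fun n e => rfl⟩

omit hxb hba S in
theorem Ctx.x_mem_aGrp : x ∈ aGrp Ω x := mem_aGrp.2 ⟨fun _ hp => hp, Commute.refl x⟩

/-- An element of the normaliser commuting with a torus element on the cosets sends `x` into
`A E`. -/
theorem Ctx.conj_mem_of_commute {V : Type u} [CommGroup V] (π : mGrp D x a →* V)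
    (hπ : ∀ y, π y = 1 ↔ (y : G) ∈ eGrp D x a) (ρ : nGrp D x a →* MulAut V)
    (hρ : ∀ (n : nGrp D x a) (y : mGrp D x a),
      ρ n (π y) = π ⟨n * y * (n : G)⁻¹, h.nGrp_conj hx hxa n.2 y.2⟩)
    {t : nGrp D x a} (ht : (t : G) ∈ S.T) (ht1 : (t : G) ≠ 1) {n : nGrp D x a}
    (hc : Commute (ρ t) (ρ n)) :
    ∃ v ∈ aGrp Ω x, v ≠ 1 ∧ ∃ e ∈ eGrp D x a, (n : G) * x * (n : G)⁻¹ = v * e := by
  have hxM := h.aGrp_le_mGrp hx hxa (h.x_mem_aGrp hx hxa)
  set z : mGrp D x a := ⟨(n : G) * x * (n : G)⁻¹, h.nGrp_conj hx hxa n.2 hxM⟩ with hz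
  have htx : Commute (t : G) x := (h.T_props hx hxa hxb S ht).2.2.1
  have h1 : ρ t (π z) = π z := by
    rw [hz, ← hρ n ⟨x, hxM⟩, ← MulAut.mul_apply, hc.eq, MulAut.mul_apply, hρ t ⟨x, hxM⟩]
    exact congrArg _ (congrArg π (Subtype.ext (show (t : G) * x * (t : G)⁻¹ = x by
      rw [htx.eq, mul_inv_cancel_right])))
  rw [hρ t z] at h1
  have h2 := (hπ _).1 (show π (⟨t * z * (t : G)⁻¹, h.nGrp_conj hx hxa t.2 z.2⟩⁻¹ * z) = 1 by
    rw [map_mul, map_inv, h1, inv_mul_cancel])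
  obtain ⟨v, hv, e, he, hve⟩ := h.T_fix_coset hx hxa hxb hba S ht ht1 z.2 h2
  refine ⟨v, hv, ?_, e, he, hve⟩
  rintro rfl
  rw [one_mul] at hve
  obtain ⟨hb, hb'⟩ := h.bad_of_conj hx hxa (g := (n : G)) n.2.1
  exact invol_ne_one hb.invol (h.eq_one_of_fixesAll hx hxa
    (show (n : G) * x * (n : G)⁻¹ ∈ eGrp D x a by
      rw [show (n : G) * x * (n : G)⁻¹ = e from hve]; exact he) hb hb' fun p hp => hp)

/-- An element of the normaliser in `C` sending `x` into `A E` is in `mGrp`. -/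
theorem Ctx.mem_of_conj_mem (hscal : ∀ k ∈ cGrp D x a, k * x * k⁻¹ ∈ aGrp Ω x → k * x * k⁻¹ = x)
    {n : G} (hn : n ∈ cGrp D x a) {v : G} (hv : v ∈ aGrp Ω x) (hv1 : v ≠ 1) {e : G}
    (he : e ∈ eGrp D x a) (hve : n * x * n⁻¹ = v * e) : n ∈ mGrp D x a := by
  obtain ⟨y, hy, hyv, -⟩ := h.exists_conj_tie hx hxa hxb hba S hv hv1 he
  have hk : y⁻¹ * n * x * (y⁻¹ * n)⁻¹ = v := by
    rw [show y⁻¹ * n * x * (y⁻¹ * n)⁻¹ = y⁻¹ * (n * x * n⁻¹) * y by group, hve, ← hyv]; group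
  have h1 := hscal (y⁻¹ * n) (mul_mem (inv_mem ((h.mem_mGrp hx hxa).1 hy).1) hn) (by rwa [hk])
  rw [hk] at h1
  subst h1
  rw [h.mem_mGrp hx hxa, gOf, hve, ← mul_assoc, invol_mul_self hx.invol, one_mul]
  exact ⟨hn, he⟩

theorem Ctx.exists_gen : ∃ t ∈ S.T, t ≠ 1 ∧ orderOf t = q - 1 ∧ ∀ s ∈ S.T, ∃ j : ℕ, t ^ j = s := by
  obtain ⟨t, ht, hgen⟩ := S.T_gen
  have ho : orderOf t = q - 1 := by
    rw [← S.card_T, ← Nat.card_zpowers]
    exact congrArg (fun H : Subgroup G => Nat.card H)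
      (le_antisymm ((Subgroup.zpowers_le).2 ht) hgen)
  refine ⟨t, ht, fun e => ?_, ho, fun s hs => ?_⟩
  · rw [e, orderOf_one] at ho
    have := h.eight_le
    omega
  · exact (Submonoid.mem_powers_iff _ _).1 (mem_powers_iff_mem_zpowers.2 (hgen s hs))

/-- **No rotation**: the normaliser of a largest `mGrp` in `C` is `mGrp`. -/
theorem Ctx.cGrp_norm_le (htop : IsTop D x a) (hel : IsElem D x a)
    (hscal : ∀ k ∈ cGrp D x a, k * x * k⁻¹ ∈ aGrp Ω x → k * x * k⁻¹ = x) :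
    cGrp D x a ⊓ Subgroup.normalizer (mGrp D x a : Set G) ≤ mGrp D x a := by
  classical
  obtain ⟨V, _, _, π, ρ, hsurj, hπ, hρ, hV2, hVcard, hρM⟩ :=
    h.exists_vAct hx hxa hxb hba S hel
  haveI : Finite (MulAut V) :=
    Finite.of_injective (fun m : MulAut V => (m : V → V)) DFunLike.coe_injective
  have hxM := h.aGrp_le_mGrp hx hxa (h.x_mem_aGrp hx hxa)
  set R := cGrp D x a ⊓ nGrp D x a
  let f : R →* MulAut V := ρ.comp (Subgroup.inclusion inf_le_right)
  -- kernel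
  have hfix : ∀ r : R, f r (π ⟨x, hxM⟩) = π ⟨x, hxM⟩ → (r : G) ∈ mGrp D x a := by
    intro r hr
    rw [show f r (π ⟨x, hxM⟩) = _ from hρ ⟨r, r.2.2⟩ ⟨x, hxM⟩] at hr
    have h1 := (hπ _).1 (show π ((⟨x, hxM⟩ : mGrp D x a)⁻¹ *
      ⟨(r : G) * x * (r : G)⁻¹, h.nGrp_conj hx hxa r.2.2 hxM⟩) = 1 by
        rw [map_mul, map_inv, hr, inv_mul_cancel])
    rw [h.mem_mGrp hx hxa, gOf]
    exact ⟨r.2.1, by simpa [invol_inv hx.invol] using h1⟩
  have hker : ∀ r : R, f r = 1 ↔ (r : G) ∈ mGrp D x a := fun r =>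
    ⟨fun e => hfix r (by rw [e, MulAut.one_apply]), fun hr => hρM ⟨r, r.2.2⟩ hr⟩
  suffices hbot : f.range = ⊥ by
    intro n hn
    have hnR : n ∈ R := ⟨hn.1, (mem_cGrp.1 hn.1).1, hn.2⟩
    exact (hker ⟨n, hnR⟩).1 (Subgroup.mem_bot.1 (hbot ▸ ⟨⟨n, hnR⟩, rfl⟩ : f ⟨n, hnR⟩ ∈ ⊥))
  by_contra hbot
  have hRa : R ≤ stabilizer G a := fun r hr => hr.2.1
  have hMR : mGrp D x a ≤ R := fun y hy =>
    ⟨((h.mem_mGrp hx hxa).1 hy).1, h.mGrp_le_nGrp hx hxa hxb hba S hy⟩
  have hodd := h.odd_range hx hxa hxb hba S htop hRa f hker hMR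
  obtain ⟨p, M1, hp, hle, hM1, hcomm, hexp, hinv⟩ := exists_elem_inv f.range hodd hbot
  -- the torus
  obtain ⟨t, ht, ht1, hto, -⟩ := h.exists_gen hx hxa hxb hba S
  set t' : nGrp D x a := ⟨t, h.T_le_nGrp hx hxa hxb hba S ht⟩ with ht'
  set τ := ρ t' with hτ
  have hnormR : ∀ (s : nGrp D x a), ∀ m, m ∈ f.range ↔ ρ s * m * (ρ s)⁻¹ ∈ f.range := by
    have key : ∀ (s : nGrp D x a), ∀ m ∈ f.range, ρ s * m * (ρ s)⁻¹ ∈ f.range := by
      rintro s _ ⟨r, rfl⟩
      have hr : (s : G) * r * (s : G)⁻¹ ∈ R :=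
        ⟨h.conj_cGrp hx hxa s.2.1 r.2.1, (nGrp D x a).mul_mem ((nGrp D x a).mul_mem s.2 r.2.2) ((nGrp D x a).inv_mem s.2)⟩
      refine ⟨⟨_, hr⟩, ?_⟩
      show ρ _ = ρ s * ρ _ * (ρ s)⁻¹
      rw [← map_inv, ← map_mul, ← map_mul]
      rfl
    refine fun s m => ⟨key s m, fun hm => ?_⟩
    have h1 := key s⁻¹ _ hm
    rwa [map_inv, show (ρ s)⁻¹ * (ρ s * m * (ρ s)⁻¹) * (ρ s)⁻¹⁻¹ = m by group] at h1
  have htau : ∀ m ∈ M1, τ * m * τ⁻¹ ∈ M1 := hinv τ (hnormR t')
  have hsemi : ∀ m ∈ M1, ∀ n : nGrp D x a, (n : G) ∈ cGrp D x a → ρ n = m →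
      (∃ v ∈ aGrp Ω x, v ≠ 1 ∧ ∃ e ∈ eGrp D x a, (n : G) * x * (n : G)⁻¹ = v * e) → m = 1 := by
    rintro m - n hn rfl ⟨v, hv, hv1, e, he, hve⟩
    exact hρM n (h.mem_of_conj_mem hx hxa hxb hba S hscal hn hv hv1 he hve)
  -- torus elements act on `M1` without fixed points
  have hfpf : ∀ k : ℕ, t ^ k ≠ 1 → ∀ m ∈ M1, Commute (τ ^ k) m → m = 1 := by
    intro k hk m hm hcm
    obtain ⟨r, rfl⟩ := hle hm
    refine hsemi _ hm ⟨r, r.2.2⟩ r.2.1 rfl (h.conj_mem_of_commute hx hxa hxb hba S π hπ ρ hρ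
      (t := t' ^ k) (by simpa [ht'] using S.T.pow_mem ht k) (by simpa [ht'] using hk)
      (n := ⟨r, r.2.2⟩) ?_)
    rw [map_pow]
    exact hcm
  have hM1odd : Odd (Nat.card M1) := hodd.of_dvd_nat (Subgroup.card_dvd_of_le hle)
  obtain ⟨o, ho1, hoV, w, ⟨m0, hm0, hm0w⟩, hag⟩ :=
    exists_pow_agree hV2 M1 hcomm hM1odd hM1 τ htau
  by_cases hto1 : t ^ o = 1
  · -- `q = 8`
    have hdvd : q - 1 ∣ o := hto ▸ orderOf_dvd_of_pow_eq_one hto1
    have hqo : q - 1 ≤ o := Nat.le_of_dvd ho1 hdvd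
    obtain ⟨i, hi1, hqi⟩ := h.exists_log
    have hA := h.card_aGrp_le hx hxa
    have hq8 : q = 8 := by
      by_contra hne
      have hi : 2 ≤ i := by
        by_contra hlt
        obtain rfl : i = 1 := by omega
        exact hne (by rw [hqi]; norm_num)
      have h1 : 2 ^ (q - 1) ≤ 2 ^ (3 * (2 * i + 1)) :=
        calc 2 ^ (q - 1) ≤ 2 ^ o := Nat.pow_le_pow_right (by norm_num) hqo
          _ ≤ q ^ 2 * Nat.card (aGrp Ω x) := hVcard ▸ hoV
          _ ≤ q ^ 2 * q := Nat.mul_le_mul_left _ hA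
          _ = q ^ 3 := (pow_succ q 2).symm
          _ = 2 ^ (3 * (2 * i + 1)) := by rw [hqi, ← pow_mul, mul_comm]
      have h2 := (Nat.pow_le_pow_iff_right (by norm_num)).1 h1
      have h3 : ∀ i, 2 ≤ i → 3 * (2 * i + 1) + 1 < 2 ^ (2 * i + 1) := by
        intro i hi
        induction i, hi using Nat.le_induction with
        | base => norm_num
        | succ i hi ih =>
          rw [show 2 * (i + 1) + 1 = 2 * i + 1 + 2 by omega, pow_add]
          omega
      have := h3 i hi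
      rw [← hqi] at this
      omega
    subst hq8
    haveI : Fact (Nat.Prime 7) := ⟨by norm_num⟩
    haveI : Fact p.Prime := ⟨hp⟩
    haveI : Fact (Nat.Prime 2) := ⟨Nat.prime_two⟩
    -- `|M1|` is `1` modulo `7`
    have ht7 : t ^ 7 = 1 := (show 8 - 1 = 7 from rfl) ▸ hto ▸ pow_orderOf_eq_one t
    have hτ7 : τ ^ 7 = 1 := by
      rw [hτ, ← map_pow, show t' ^ 7 = 1 from Subtype.ext (by simpa [ht'] using ht7), map_one]
    haveI : Fintype M1 := Fintype.ofFinite _
    let c : M1 → M1 := fun m => ⟨τ * m * τ⁻¹, htau m m.2⟩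
    let σ : Equiv.Perm M1 := Equiv.ofBijective c (Finite.injective_iff_bijective.1 fun m m' e =>
      Subtype.ext (mul_left_cancel (mul_right_cancel (congrArg Subtype.val e))))
    have hcn : ∀ (k : ℕ) (m : M1), ((c^[k]) m).1 = τ ^ k * m * (τ ^ k)⁻¹ := by
      intro k
      induction k with
      | zero => intro m; simp
      | succ k ih =>
        intro m
        rw [Function.iterate_succ_apply', pow_succ',
          show (c (c^[k] m)).1 = τ * (c^[k] m).1 * τ⁻¹ from rfl, ih]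
        group
    have hσ7 : σ ^ 7 ^ 1 = 1 := by
      refine Equiv.ext fun m => Subtype.ext ?_
      rw [pow_one, Equiv.Perm.coe_pow]
      show ((c^[7]) m).1 = m.1
      rw [hcn, hτ7, one_mul, inv_one, mul_one]
    have hsupp : σ.supportᶜ = {1} := by
      ext m
      rw [Finset.mem_compl, Equiv.Perm.notMem_support, Finset.mem_singleton]
      refine ⟨fun e => Subtype.ext (hfpf 1 (by rwa [pow_one]) m m.2 ?_), fun e => ?_⟩
      · rw [pow_one]
        exact mul_inv_eq_iff_eq_mul.1 (congrArg Subtype.val e)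
      · subst e
        exact Subtype.ext (by show τ * 1 * τ⁻¹ = 1; group)
    have hmod : 1 ≡ Nat.card M1 [MOD 7] := by
      have := Equiv.Perm.card_compl_support_modEq hσ7
      rwa [hsupp, Finset.card_singleton, ← Nat.card_eq_fintype_card] at this
    -- `|M1| ≤ 64`
    let AV : Subgroup V := ((aGrp Ω x).subgroupOf (mGrp D x a)).map π
    have hAV : Nat.card AV = Nat.card (aGrp Ω x) := by
      rw [← Nat.card_congr (Subgroup.subgroupOfEquivOfLe (h.aGrp_le_mGrp hx hxa)).toEquiv]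
      refine (Nat.card_eq_of_bijective (π.subgroupMap _)
        ⟨fun v v' e => ?_, π.subgroupMap_surjective _⟩).symm
      have e' : π v.1 = π v'.1 := congrArg Subtype.val e
      have h1 := (hπ (v'.1⁻¹ * v.1)).1 (by rw [map_mul, map_inv, e', inv_mul_cancel])
      have h2 := h.Q_inf_aGrp hx hxa hxb hba S (h.eGrp_le_Q hx hxa hxb hba S h1)
        (mul_mem (inv_mem (Subgroup.mem_subgroupOf.1 v'.2)) (Subgroup.mem_subgroupOf.1 v.2))
      exact Subtype.ext (Subtype.ext (inv_mul_eq_one.1 h2).symm)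
    have hquot : Nat.card (V ⧸ AV) = 64 := by
      have h1 := Subgroup.card_eq_card_quotient_mul_card_subgroup AV
      rw [hAV, hVcard] at h1
      exact (Nat.eq_of_mul_eq_mul_right Nat.card_pos h1).symm
    choose r hr using fun m : M1 => (hle m.2 : (m : MulAut V) ∈ f.range)
    have hle64 : Nat.card M1 ≤ 64 := by
      rw [← hquot]
      refine Nat.card_le_card_of_injective
        (fun m : M1 => ((m.1 (π ⟨x, hxM⟩) : V) : V ⧸ AV)) fun m m' e => ?_
      -- two conjugates of `x` in one coset of `A E`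
      rw [← inv_mul_eq_one]
      set z : mGrp D x a := ⟨(r m : G) * x * (r m : G)⁻¹, h.nGrp_conj hx hxa (r m).2.2 hxM⟩
        with hz
      set z' : mGrp D x a := ⟨(r m' : G) * x * (r m' : G)⁻¹, h.nGrp_conj hx hxa (r m').2.2 hxM⟩
        with hz'
      have e1 : m.1 (π ⟨x, hxM⟩) = π z := by rw [← hr m, hz]; exact hρ ⟨r m, (r m).2.2⟩ ⟨x, hxM⟩
      have e2 : m'.1 (π ⟨x, hxM⟩) = π z' := by
        rw [← hr m', hz']; exact hρ ⟨r m', (r m').2.2⟩ ⟨x, hxM⟩
      have h1 : (π z)⁻¹ * π z' ∈ AV := by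
        have := QuotientGroup.eq.1 e
        rwa [e1, e2] at this
      obtain ⟨v, hv, hve⟩ := h1
      have hvA : (v : G) ∈ aGrp Ω x := Subgroup.mem_subgroupOf.1 hv
      obtain ⟨e0, he0, hz0⟩ : ∃ e0 ∈ eGrp D x a, (z' : G) = z * v * e0 :=
        ⟨_, (hπ ((z * v)⁻¹ * z')).1 (by
          rw [map_mul, map_inv, map_mul, hve, mul_inv_cancel_left, inv_mul_cancel]), by
          simp [mul_assoc]⟩
      have hzb := h.bad_of_conj hx hxa (g := (r m : G)) (r m).2.2.1
      have hzb' := h.bad_of_conj hx hxa (g := (r m' : G)) (r m').2.2.1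
      have hzz : (z : G) * z = 1 := invol_mul_self hzb.1.invol
      have hzz' : (z' : G) * z' = 1 := invol_mul_self hzb'.1.invol
      by_cases hg : gOf x (z : G) = 1
      · obtain ⟨u, hu, e3, he3, hzu⟩ := h.invol_decomp hx hxa hxb hba S
          ((h.mem_mGrp hx hxa).1 z.2).1 ((gOf_eq_one_iff (invol_mul_self hx.invol)).1 hg) hzz
        have hm1 : ∀ (k : M1) (w : G), w ∈ aGrp Ω x → ∀ ee ∈ eGrp D x a,
            (r k : G) * x * (r k : G)⁻¹ = w * ee → k = 1 := by
          intro k w hw ee hee hwe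
          refine Subtype.ext (hsemi k k.2 ⟨r k, (r k).2.2⟩ (r k).2.1 (hr k) ⟨w, hw, ?_, ee, hee,
            hwe⟩)
          rintro rfl
          obtain ⟨hb, hb'⟩ := h.bad_of_conj hx hxa (g := (r k : G)) (r k).2.2.1
          exact invol_ne_one hb.invol (h.eq_one_of_fixesAll hx hxa
            (show (r k : G) * x * (r k : G)⁻¹ ∈ eGrp D x a by rwa [hwe, one_mul]) hb hb'
            fun p hp => hp)
        have h2 : (z' : G) = u * v * (e3 * e0) := by
          rw [hz0, hzu, mul_assoc u e3,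
            ← ((h.mem_cGrp' hx hxa (h.aGrp_le_cGrp hx hxa hvA)).2 e3 he3).eq]
          group
        rw [hm1 m u hu e3 he3 hzu, hm1 m' _ (mul_mem hu hvA) _ (mul_mem he3 he0) h2,
          inv_mul_cancel]
      · obtain ⟨w', hw', hzv, ht'⟩ := h.conj_aGrp hx hxa hxb hba S z.2 hvA
        have he0c := h.E_central hx hxa hxb hba S (mul_mem z.2 v.2) he0
        have h3 : (z : G) * v * ((z : G) * v) = 1 := by
          have h4 : (z : G) * v * e0 * (z * v * e0) = 1 := by rw [← hz0]; exact hzz'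
          rwa [show (z : G) * v * e0 * (z * v * e0) = z * v * (e0 * (z * v)) * e0 by group,
            ← he0c.eq, show (z : G) * v * (z * v * e0) * e0 = z * v * (z * v) * (e0 * e0) by group,
            (h.eGrp_commute hx hxa he0).2.2.1, mul_one] at h4
        have h5 : (v : G) * w' = v := by
          rw [← hzv, show (z : G)⁻¹ = z from inv_eq_of_mul_eq_one_left hzz]
          calc (z : G) * v * z = z * v * (z * v) * (v : G)⁻¹ := by group
            _ = (v : G)⁻¹ := by rw [h3, one_mul]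
            _ = v := inv_eq_of_mul_eq_one_left (h.aGrp_elem hx hxa hxb hba S hvA hvA).1
        rw [mul_eq_left.1 h5] at ht'
        have hv1 := h.tie_one hx hxa hxb hba S ((h.mem_mGrp hx hxa).1 z.2).2 hg hvA ht'
        rw [hv1, mul_one] at hz0
        -- one coset
        have h6 : π z' = π z := mul_inv_eq_one.1 (by
          rw [← map_inv, ← map_mul]
          refine (hπ _).2 ?_
          show (z' : G) * (z : G)⁻¹ ∈ eGrp D x a
          rw [hz0, (h.E_central hx hxa hxb hba S z.2 he0).eq, mul_inv_cancel_right]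
          exact he0)
        have h7 : (m⁻¹ * m' : M1).1 (π ⟨x, hxM⟩) = π ⟨x, hxM⟩ := by
          show (m.1⁻¹ * m'.1) (π ⟨x, hxM⟩) = _
          rw [MulAut.mul_apply, e2, h6, ← e1, MulAut.inv_apply_self]
        refine Subtype.ext ((hker (r (m⁻¹ * m'))).2 (hfix _ ?_) |> fun e => (hr _).symm.trans e)
        rw [hr]; exact h7
    -- so `|M1| = 29` or `43`
    haveI : Nontrivial M1 := (Subgroup.nontrivial_iff_ne_bot M1).2 hM1
    have hpG : IsPGroup p M1 := fun m => ⟨1, Subtype.ext (by simpa using hexp m m.2)⟩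
    obtain ⟨k, hk0, hk⟩ := hpG.nontrivial_iff_card.1 inferInstance
    have hpp : p = 29 ∨ p = 43 := by
      have hd : p ∣ Nat.card M1 := hk ▸ dvd_pow_self p hk0.ne'
      have h7 : Nat.card M1 % 7 = 1 := hmod.symm
      have h1 : 1 < Nat.card M1 := Finite.one_lt_card
      have hN : Nat.card M1 = 15 ∨ Nat.card M1 = 29 ∨ Nat.card M1 = 43 ∨ Nat.card M1 = 57 := by
        have := Nat.odd_iff.1 hM1odd
        omega
      rcases hN with hN | hN | hN | hN
      · exfalso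
        rw [hk] at hN
        have h3 : 3 ∣ p := Nat.prime_three.dvd_of_dvd_pow (n := k) (hN ▸ by norm_num)
        have h5 : 5 ∣ p := (show Nat.Prime 5 by norm_num).dvd_of_dvd_pow (n := k) (hN ▸ by norm_num)
        have e3 := (Nat.prime_dvd_prime_iff_eq Nat.prime_three hp).1 h3
        have e5 := (Nat.prime_dvd_prime_iff_eq (by norm_num) hp).1 h5
        omega
      · exact Or.inl ((Nat.prime_dvd_prime_iff_eq hp (by norm_num)).1 (hN ▸ hd))
      · exact Or.inr ((Nat.prime_dvd_prime_iff_eq hp (by norm_num)).1 (hN ▸ hd))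
      · exfalso
        rw [hk] at hN
        have h3 : 3 ∣ p := Nat.prime_three.dvd_of_dvd_pow (n := k) (hN ▸ by norm_num)
        have h19 : 19 ∣ p := (show Nat.Prime 19 by norm_num).dvd_of_dvd_pow (n := k)
          (hN ▸ by norm_num)
        have e3 := (Nat.prime_dvd_prime_iff_eq Nat.prime_three hp).1 h3
        have e19 := (Nat.prime_dvd_prime_iff_eq (by norm_num) hp).1 h19
        omega
    -- its fixed points on `V`
    haveI : Fintype V := Fintype.ofFinite V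
    let P : MulAut V →* Equiv.Perm V :=
      { toFun := fun f => f.toEquiv, map_one' := rfl, map_mul' := fun _ _ => rfl }
    have hm0p : P m0 ^ p ^ 1 = 1 := by
      rw [pow_one, ← map_pow, hexp m0 hm0, map_one]
    have hmodV := Equiv.Perm.card_compl_support_modEq (p := p) hm0p
    let Fx : Subgroup V :=
      { carrier := {w | m0 w = w}
        one_mem' := map_one m0
        mul_mem' := fun {u v} (hu : m0 u = u) (hv : m0 v = v) => by
          show m0 (u * v) = u * v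
          rw [map_mul, hu, hv]
        inv_mem' := fun {u} (hu : m0 u = u) => by show m0 u⁻¹ = u⁻¹; rw [map_inv, hu] }
    have hFx : (P m0).supportᶜ.card = Nat.card Fx := by
      rw [← Nat.card_eq_finsetCard]
      refine Nat.card_congr (Equiv.subtypeEquivRight fun u => ?_)
      rw [Finset.mem_compl, Equiv.Perm.notMem_support]
      rfl
    rw [hFx, ← Nat.card_eq_fintype_card] at hmodV
    have hV2' : IsPGroup 2 V := fun u => ⟨1, by rw [pow_one, pow_two]; exact hV2 u⟩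
    obtain ⟨d, hd⟩ := IsPGroup.iff_card.1 hV2'
    obtain ⟨e', he'⟩ := IsPGroup.iff_card.1 (hV2'.to_subgroup Fx)
    have hlt : Nat.card Fx < Nat.card V := lt_of_le_of_ne (Subgroup.card_le_card_group Fx) fun e =>
      hm0w (((Subgroup.card_eq_iff_eq_top Fx).1 e).symm ▸ Subgroup.mem_top w : w ∈ Fx)
    have hd9 : d ≤ 9 := by
      refine (Nat.pow_le_pow_iff_right (show 1 < 2 by norm_num)).1 ?_
      rw [← hd, hVcard]
      omega
    rw [hd, he'] at hmodV hlt
    have hed := (Nat.pow_lt_pow_iff_right (show 1 < 2 by norm_num)).1 hlt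
    have key : ∀ p ∈ [29, 43], ∀ d < 10, ∀ e < d, (2 : ℕ) ^ e % p ≠ 2 ^ d % p := by decide
    exact key p (by rcases hpp with rfl | rfl <;> simp) d (by omega) e' hed hmodV
  · -- `τ ^ o` is free on `M1`
    have htn : ∀ k : ℕ, ∀ m ∈ M1, τ ^ k * m * (τ ^ k)⁻¹ ∈ M1 := by
      intro k
      induction k with
      | zero => intro m hm; simpa
      | succ k ih =>
        intro m hm
        have := htau _ (ih m hm)
        rw [pow_succ']
        simpa [mul_assoc] using this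
    let φ : M1 → M1 := fun m => ⟨(m : MulAut V)⁻¹ * (τ ^ o * m * (τ ^ o)⁻¹),
      mul_mem (inv_mem m.2) (htn o m m.2)⟩
    have hφ : Function.Injective φ := fun m m' e => by
      have e' : (m : MulAut V)⁻¹ * (τ ^ o * m * (τ ^ o)⁻¹) =
          (m' : MulAut V)⁻¹ * (τ ^ o * m' * (τ ^ o)⁻¹) := congrArg Subtype.val e
      refine Subtype.ext (inv_mul_eq_one.1 (hfpf o hto1 _ (mul_mem (inv_mem m'.2) m.2) ?_)).symm
      have h1 : τ ^ o * ((m' : MulAut V)⁻¹ * m) * (τ ^ o)⁻¹ = (m' : MulAut V)⁻¹ * m :=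
        calc τ ^ o * ((m' : MulAut V)⁻¹ * m) * (τ ^ o)⁻¹
            = (τ ^ o * m' * (τ ^ o)⁻¹)⁻¹ * (τ ^ o * m * (τ ^ o)⁻¹) := by group
          _ = (τ ^ o * m' * (τ ^ o)⁻¹)⁻¹ * (m * ((m : MulAut V)⁻¹ * (τ ^ o * m * (τ ^ o)⁻¹))) := by
              group
          _ = (τ ^ o * m' * (τ ^ o)⁻¹)⁻¹ * (m * (m' : MulAut V)⁻¹) * (τ ^ o * m' * (τ ^ o)⁻¹) := by
              rw [e']; group
          _ = (τ ^ o * m' * (τ ^ o)⁻¹)⁻¹ * (τ ^ o * m' * (τ ^ o)⁻¹) * ((m' : MulAut V)⁻¹ * m) := by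
              rw [mul_assoc _ ((m : MulAut V) * (m' : MulAut V)⁻¹),
                (hcomm _ (mul_mem m.2 (inv_mem m'.2)) _ (htn o m' m'.2)).eq, ← mul_assoc,
                (hcomm _ (inv_mem m'.2) _ m.2).eq]
          _ = _ := by group
      exact mul_inv_eq_iff_eq_mul.1 h1
    obtain ⟨m, hm⟩ := Finite.injective_iff_surjective.1 hφ ⟨m0, hm0⟩
    refine hm0w ?_
    rw [← show (m : MulAut V)⁻¹ * (τ ^ o * m * (τ ^ o)⁻¹) = m0 from congrArg Subtype.val hm,
      MulAut.mul_apply, hag m m.2, MulAut.inv_apply_self]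

/-- **`|A| = 2`**. -/
theorem Ctx.false_of_two (htop : IsTop D x a) (h2 : Nat.card (aGrp Ω x) = 2)
    (hrot : cGrp D x a ⊓ Subgroup.normalizer (mGrp D x a : Set G) ≤ mGrp D x a) : False := by
  classical
  have hel : IsElem D x a := by
    by_contra hne
    have := h.exotic_card hx hxa hxb hba S hne
    have := h.eight_le
    omega
  obtain ⟨V, _, _, π, ρ, hsurj, hπ, hρ, -, -, hρM⟩ := h.exists_vAct hx hxa hxb hba S hel
  obtain ⟨η, hη⟩ := h.exists_eAct hx hxa hxb hba S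
  have hxA := h.x_mem_aGrp hx hxa
  have hxM := h.aGrp_le_mGrp hx hxa hxA
  have hxx := invol_mul_self hx.invol
  set ξ := π ⟨x, hxM⟩ with hξ
  have hA : ∀ v ∈ aGrp Ω x, v = 1 ∨ v = x := by
    intro v hv
    by_contra hcon
    push Not at hcon
    have h3 : ({1, ⟨x, hxA⟩, ⟨v, hv⟩} : Set (aGrp Ω x)).ncard = 3 :=
      Set.ncard_eq_three.2 ⟨_, _, _, fun e => invol_ne_one hx.invol (congrArg Subtype.val e).symm,
        fun e => hcon.1 (congrArg Subtype.val e).symm,
        fun e => hcon.2 (congrArg Subtype.val e).symm, rfl⟩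
    have h4 := Set.ncard_le_ncard
      (Set.subset_univ ({1, ⟨x, hxA⟩, ⟨v, hv⟩} : Set (aGrp Ω x))) (Set.toFinite _)
    rw [Set.ncard_univ] at h4
    omega
  -- fixing the coset of `x`
  have hfix : ∀ n : nGrp D x a, ρ n ξ = ξ ↔ x * ((n : G) * x * (n : G)⁻¹) ∈ eGrp D x a := by
    intro n
    rw [hξ, hρ n ⟨x, hxM⟩, eq_comm, ← inv_mul_eq_one, ← map_inv, ← map_mul, hπ]
    simp [invol_inv hx.invol]
  suffices hmain : ∀ n : nGrp D x a, ρ n ξ = ξ by
    refine h.false_of_fusion hx hxa hxb hba S htop hel fun g hg => ?_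
    obtain ⟨g', hg'a, hg'⟩ := h.exists_conj_fix hx hxa (h.mGrp_le hx hxa hg)
    rw [← hg'] at hg ⊢
    exact (hfix ⟨g', hg'a, h.norm_of_fus hx hxa hxb hba S htop hg'a hg⟩).1 (hmain _)
  by_contra hmov
  push Not at hmov
  obtain ⟨n1, hn1⟩ := hmov
  -- kernels
  have hηM : ∀ n : nGrp D x a, η n = 1 ↔ (n : G) ∈ mGrp D x a := by
    intro n
    refine ⟨fun e => hrot ⟨mem_cGrp.2 ⟨n.2.1, fun d hd => ?_⟩, n.2.2⟩, fun hn => ?_⟩
    · have h1 := hη n ⟨d, Subgroup.subset_closure hd⟩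
      rw [e, MulAut.one_apply] at h1
      exact mul_inv_eq_iff_eq_mul.1 h1.symm
    · refine MulEquiv.ext fun e => Subtype.ext ?_
      rw [MulAut.one_apply, hη, (h.E_central hx hxa hxb hba S hn e.2).eq, mul_inv_cancel_right]
  have hsame : ∀ n n' : nGrp D x a, η n = η n' → ρ n = ρ n' := by
    intro n n' e
    have h1 := hρM (n⁻¹ * n') ((hηM _).1 (by rw [map_mul, map_inv, e, inv_mul_cancel]))
    rwa [map_mul, map_inv, inv_mul_eq_one] at h1
  -- the torus moves the coset `ρ n1 ξ`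
  have hTfix : ∀ s : nGrp D x a, (s : G) ∈ S.T → ρ s (ρ n1 ξ) = ρ n1 ξ → (s : G) = 1 := by
    intro s hs he
    by_contra hs1
    rw [hξ, hρ n1 ⟨x, hxM⟩, hρ s ⟨_, _⟩] at he
    have h1 := (hπ _).1 (show π ((⟨s * ((n1 : G) * x * (n1 : G)⁻¹) * (s : G)⁻¹,
        h.nGrp_conj hx hxa s.2 (h.nGrp_conj hx hxa n1.2 hxM)⟩ : mGrp D x a)⁻¹ *
        ⟨(n1 : G) * x * (n1 : G)⁻¹, h.nGrp_conj hx hxa n1.2 hxM⟩) = 1 by
      rw [map_mul, map_inv, he, inv_mul_cancel])
    obtain ⟨v, hv, e, he', hve⟩ := h.T_fix_coset hx hxa hxb hba S hs hs1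
      (h.nGrp_conj hx hxa n1.2 hxM) h1
    rcases hA v hv with rfl | rfl
    · rw [one_mul] at hve
      obtain ⟨hb, hb'⟩ := h.bad_of_conj hx hxa (g := (n1 : G)) n1.2.1
      exact invol_ne_one hb.invol (h.eq_one_of_fixesAll hx hxa
        (show (n1 : G) * x * (n1 : G)⁻¹ ∈ eGrp D x a from hve ▸ he') hb hb' fun p hp => hp)
    · exact hn1 ((hfix n1).2 (by rw [hve, ← mul_assoc, hxx, one_mul]; exact he'))
  obtain ⟨t, ht, ht1, hto, hgen⟩ := h.exists_gen hx hxa hxb hba S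
  set t' : nGrp D x a := ⟨t, h.T_le_nGrp hx hxa hxb hba S ht⟩ with ht'
  have hodd := h.odd_range hx hxa hxb hba S htop (R := nGrp D x a) inf_le_left η hηM
    (h.mGrp_le_nGrp hx hxa hxb hba S)
  have hR : η.range ≠ ⊥ := by
    intro e
    have h1 : η t' = 1 := Subgroup.mem_bot.1 (e ▸ ⟨t', rfl⟩ : η t' ∈ (⊥ : Subgroup _))
    obtain ⟨d, hd⟩ := CountsB.exists_commute h.hM x hx hxa
    have h2 := hη t' ⟨d, Subgroup.subset_closure hd⟩
    rw [h1, MulAut.one_apply] at h2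
    exact ht1 (h.T_free hx hxa hxb hba S ht hd (mul_inv_eq_iff_eq_mul.1 h2.symm))
  haveI : Finite (MulAut (eGrp D x a)) :=
    Finite.of_injective (fun m : MulAut (eGrp D x a) => (m : eGrp D x a → eGrp D x a))
      DFunLike.coe_injective
  obtain ⟨p, M1, hp, hle, hM1, hcomm, -, hinv⟩ := exists_elem_inv η.range hodd hR
  have hnorm : ∀ n : nGrp D x a, ∀ m ∈ M1, η n * m * (η n)⁻¹ ∈ M1 := by
    intro n
    refine hinv (η n) fun m => ⟨fun hm => mul_mem (mul_mem ⟨n, rfl⟩ hm) (inv_mem ⟨n, rfl⟩),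
      fun hm => ?_⟩
    have h1 := mul_mem (mul_mem (inv_mem (show η n ∈ η.range from ⟨n, rfl⟩)) hm)
      (show η n ∈ η.range from ⟨n, rfl⟩)
    rwa [show (η n)⁻¹ * (η n * m * (η n)⁻¹) * η n = m by group] at h1
  -- commuting with a power of the torus on `E`
  letI : CommGroup (eGrp D x a) :=
    { (inferInstance : Group (eGrp D x a)) with
      mul_comm := fun e f => Subtype.ext ((h.eGrp_commute hx hxa e.2).2.2.2 f f.2).eq }
  obtain ⟨o, ho1, hoE, w, ⟨m1, hm1, hm1w⟩, hag⟩ := exists_pow_agree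
    (fun e : eGrp D x a => Subtype.ext (h.eGrp_commute hx hxa e.2).2.2.1) M1 hcomm
    (hodd.of_dvd_nat (Subgroup.card_dvd_of_le hle)) hM1 (η t') (hnorm t')
  rw [h.card_eGrp hx hxa] at hoE
  have hto1 : t ^ o ≠ 1 := by
    intro e
    have h1 : q - 1 ≤ o := Nat.le_of_dvd ho1 (hto ▸ orderOf_dvd_of_pow_eq_one e)
    have h3 : q - 1 < 2 ^ (q - 1) := Nat.lt_two_pow_self
    have h4 : (2 : ℕ) ^ (q - 1) ≤ 2 ^ o := Nat.pow_le_pow_right (by norm_num) h1
    have h5 : q < 2 ^ (q - 1) := by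
      obtain ⟨j, hj⟩ := Nat.exists_eq_add_of_le h.eight_le
      rw [hj, show 8 + j - 1 = j + 7 by omega, pow_add]
      have := Nat.lt_two_pow_self (n := j)
      omega
    omega
  -- agreement on all of `E`
  have hall : ∀ m ∈ M1, ∀ e : eGrp D x a,
      (η t' ^ o * m * (η t' ^ o)⁻¹) e = m e := by
    intro m hm e
    have hmove : ∀ (j : ℕ) (u : eGrp D x a),
        (∀ m ∈ M1, (η t' ^ o * m * (η t' ^ o)⁻¹) u = m u) →
        (∀ m ∈ M1, (η t' ^ o * m * (η t' ^ o)⁻¹) ((η t' ^ j) u) = m ((η t' ^ j) u)) := by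
      intro j u hu m hm
      have h1 := hu ((η t' ^ j)⁻¹ * m * η t' ^ j) (by
        have h2 := hnorm (t'⁻¹ ^ j) m hm
        rwa [map_pow, map_inv, inv_pow, inv_inv] at h2)
      have h3 : η t' ^ j * (η t' ^ o * ((η t' ^ j)⁻¹ * m * η t' ^ j) * (η t' ^ o)⁻¹) =
          η t' ^ o * m * (η t' ^ o)⁻¹ * η t' ^ j := by
        have hc : Commute (η t' ^ j) (η t' ^ o) := Commute.pow_pow_self _ j o
        calc η t' ^ j * (η t' ^ o * ((η t' ^ j)⁻¹ * m * η t' ^ j) * (η t' ^ o)⁻¹)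
            = (η t' ^ j * η t' ^ o) * (η t' ^ j)⁻¹ * m * (η t' ^ j * (η t' ^ o)⁻¹) := by group
          _ = (η t' ^ o * η t' ^ j) * (η t' ^ j)⁻¹ * m * ((η t' ^ o)⁻¹ * η t' ^ j) := by
              rw [hc.eq, hc.inv_right.eq]
          _ = _ := by group
      calc (η t' ^ o * m * (η t' ^ o)⁻¹) ((η t' ^ j) u)
          = (η t' ^ o * m * (η t' ^ o)⁻¹ * η t' ^ j) u := rfl
        _ = (η t' ^ j) ((η t' ^ o * ((η t' ^ j)⁻¹ * m * η t' ^ j) * (η t' ^ o)⁻¹) u) := by
            rw [← h3]; rfl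
        _ = (η t' ^ j * ((η t' ^ j)⁻¹ * m * η t' ^ j)) u := by rw [h1]; rfl
        _ = m ((η t' ^ j) u) := by
            rw [show η t' ^ j * ((η t' ^ j)⁻¹ * m * η t' ^ j) = m * η t' ^ j by group]; rfl
    rcases eq_or_ne e 1 with rfl | he1
    · rw [map_one, map_one]
    have hw1 : w ≠ 1 := fun e' => hm1w (by rw [e', map_one])
    obtain ⟨s, hs, hse⟩ := S.T_trans (w : G)
      (((h.mem_eGrp hx hxa).1 w.2).resolve_left fun e' => hw1 (Subtype.ext e'))
      (e : G) (((h.mem_eGrp hx hxa).1 e.2).resolve_left fun e' => he1 (Subtype.ext e'))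
    obtain ⟨j, rfl⟩ := hgen s hs
    have h1 : (η t' ^ j) w = e := by
      rw [← map_pow]
      exact Subtype.ext (by rw [hη]; simpa [ht'] using hse)
    rw [← h1]
    exact hmove j w hag m hm
  -- `M1` fixes the cosets of the conjugates of `x`
  have hkill : ∀ m ∈ M1, ∀ n : nGrp D x a, η n = m → ρ n ξ = ξ := by
    rintro m hm n rfl
    have hc : Commute (η t' ^ o) (η n) :=
      mul_inv_eq_iff_eq_mul.1 (MulEquiv.ext fun e => hall _ hm e)
    have h1 : ρ (t' ^ o * n) = ρ (n * t' ^ o) := hsame _ _ (by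
      rw [map_mul, map_mul, map_pow]; exact hc.eq)
    rw [map_mul, map_mul] at h1
    obtain ⟨v, hv, hv1, e, he, hve⟩ := h.conj_mem_of_commute hx hxa hxb hba S π hπ ρ hρ
      (t := t' ^ o) (by simpa [ht'] using S.T.pow_mem ht o) (by simpa [ht'] using hto1)
      (n := n) h1
    rcases hA v hv with rfl | rfl
    · exact absurd rfl hv1
    · exact (hfix n).2 (by rw [hve, ← mul_assoc, hxx, one_mul]; exact he)
  have hkill1 : ∀ m ∈ M1, ∀ n : nGrp D x a, η n = m → ρ n (ρ n1 ξ) = ρ n1 ξ := by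
    intro m hm n hn
    have h1 := hkill _ (hnorm n1⁻¹ m hm) (n1⁻¹ * n * n1) (by
      rw [map_mul, map_mul, hn, map_inv, inv_inv])
    rw [map_mul, map_mul, map_inv, MulAut.mul_apply, MulAut.mul_apply] at h1
    have h2 := congrArg (ρ n1) h1
    rwa [MulAut.apply_inv_self] at h2
  -- `M1` commutes with the torus
  refine hM1 ((Subgroup.eq_bot_iff_forall M1).2 fun m hm => ?_)
  obtain ⟨n, hn⟩ := hle hm
  -- a representative fixing `a`, `b` and centralising `x`
  obtain ⟨y, hy, hyx, -⟩ := h.exists_conj_tie hx hxa hxb hba S hxA (invol_ne_one hx.invol)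
    ((hfix n).1 (hkill m hm n hn))
  have hn' : Commute (y⁻¹ * (n : G)) x := by
    rw [← mul_assoc x x, hxx, one_mul] at hyx
    refine mul_inv_eq_iff_eq_mul.1 ?_
    calc y⁻¹ * (n : G) * x * (y⁻¹ * (n : G))⁻¹ = y⁻¹ * ((n : G) * x * (n : G)⁻¹) * y := by group
      _ = y⁻¹ * (y * x * y⁻¹) * y := by rw [hyx]
      _ = x := by group
  set k1 := y⁻¹ * (n : G) with hk1
  have hk1a : k1 • a = a := by
    rw [hk1, mul_smul, (n.2.1 : (n : G) • a = a), inv_smul_eq_iff, (h.mGrp_le hx hxa hy : y • a = a)]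
  obtain ⟨y', hy', hy'b⟩ := S.trans (k1 • b) (by rw [smul_smul, ← hn'.eq, mul_smul, hxb])
    fun e => hba (MulAction.injective k1 (e.trans hk1a.symm))
  obtain ⟨hy'a, hy'x, hy'l, -⟩ := h.Q_props hx hxa hxb hba S hy'
  set k2 := y'⁻¹ * k1 with hk2
  have hk2x : Commute k2 x := hy'x.inv_left.mul_left hn'
  have hk2a : k2 • a = a := by rw [hk2, mul_smul, hk1a, inv_smul_eq_iff, hy'a]
  have hk2b : k2 • b = b := by rw [hk2, mul_smul, ← hy'b, inv_smul_smul]
  have hk2n : k2 ∈ nGrp D x a := mul_mem (inv_mem (h.mGrp_le_nGrp hx hxa hxb hba S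
    (h.Q_le_mGrp hx hxa hxb hba S hy')))
    (mul_mem (inv_mem (h.mGrp_le_nGrp hx hxa hxb hba S hy)) n.2)
  have hk2η : η ⟨k2, hk2n⟩ = m := by
    have h1 : η (⟨k2, hk2n⟩ * n⁻¹) = 1 := (hηM _).2 (by
      show k2 * (n : G)⁻¹ ∈ mGrp D x a
      rw [hk2, hk1, show y'⁻¹ * (y⁻¹ * (n : G)) * (n : G)⁻¹ = y'⁻¹ * y⁻¹ by group]
      exact mul_mem (inv_mem (h.Q_le_mGrp hx hxa hxb hba S hy')) (inv_mem hy))
    rwa [map_mul, map_inv, mul_inv_eq_one, hn] at h1
  -- the torus is invariant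
  obtain ⟨-, htb, htx, htl⟩ := h.T_props hx hxa hxb S ht
  have hcl0 : ∀ u : G, u ∈ loc D x → k2 * u * k2⁻¹ ∈ loc D x := by
    intro u hu
    induction hu using Subgroup.closure_induction with
    | mem d hd =>
      exact Subgroup.subset_closure
        ⟨h.pre.conj k2 d hd.1, (hk2x.mul_left hd.2).mul_left hk2x.inv_left⟩
    | one => simp
    | mul u v _ _ hu hv =>
      rw [show k2 * (u * v) * k2⁻¹ = k2 * u * k2⁻¹ * (k2 * v * k2⁻¹) by group]
      exact mul_mem hu hv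
    | inv u _ hu =>
      rw [show k2 * u⁻¹ * k2⁻¹ = (k2 * u * k2⁻¹)⁻¹ by group]
      exact inv_mem hu
  have hts : k2 * t * k2⁻¹ ∈ S.T := S.stab _ (hcl0 t htl)
    (by rw [mul_smul, mul_smul, inv_smul_eq_iff.2 hk2a.symm, (h.T_props hx hxa hxb S ht).1, hk2a])
    (by rw [mul_smul, mul_smul, inv_smul_eq_iff.2 hk2b.symm, htb, hk2b])
  have hcT : k2 * t * k2⁻¹ * t⁻¹ ∈ S.T := mul_mem hts (inv_mem ht)
  have hcM : η (⟨k2, hk2n⟩ * t' * ⟨k2, hk2n⟩⁻¹ * t'⁻¹) ∈ M1 := by
    rw [map_mul, map_mul, map_mul, map_inv, map_inv, hk2η,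
      show m * η t' * m⁻¹ * (η t')⁻¹ = m * (η t' * m⁻¹ * (η t')⁻¹) by group]
    exact mul_mem hm (hnorm t' _ (inv_mem hm))
  have hc1 := hTfix (⟨k2, hk2n⟩ * t' * ⟨k2, hk2n⟩⁻¹ * t'⁻¹) hcT (hkill1 _ hcM _ rfl)
  have hmt : Commute m (η t') := by
    have h1 : (⟨k2, hk2n⟩ * t' * ⟨k2, hk2n⟩⁻¹ * t'⁻¹ : nGrp D x a) = 1 := Subtype.ext hc1
    have h2 := congrArg η h1
    rw [map_mul, map_mul, map_mul, map_inv, map_inv, hk2η, map_one, mul_inv_eq_one] at h2
    exact mul_inv_eq_iff_eq_mul.1 h2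
  -- so `m` is a torus element on `E`
  obtain ⟨d, hd⟩ := CountsB.exists_commute h.hM x hx hxa
  set d' : eGrp D x a := ⟨d, Subgroup.subset_closure hd⟩ with hd'
  have hmd : (m d' : G) ∈ memCent D x a := by
    refine ((h.mem_eGrp hx hxa).1 (m d').2).resolve_left fun e => ?_
    have h1 : d' = 1 := m.injective ((Subtype.ext e : m d' = 1).trans (map_one m).symm)
    exact invol_ne_one (h.pre.invol d hd.1.1) (congrArg Subtype.val h1)
  obtain ⟨s, hs, hse⟩ := S.T_trans d hd _ hmd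
  obtain ⟨j, rfl⟩ := hgen s hs
  have hmj : m = η (t' ^ j) := by
    refine MulEquiv.ext fun e => ?_
    rcases eq_or_ne e 1 with rfl | he1
    · rw [map_one, map_one]
    obtain ⟨s', hs', hse'⟩ := S.T_trans d hd (e : G)
      (((h.mem_eGrp hx hxa).1 e.2).resolve_left fun e' => he1 (Subtype.ext e'))
    obtain ⟨i, rfl⟩ := hgen s' hs'
    have he : e = (η t' ^ i) d' := by
      rw [← map_pow]
      exact Subtype.ext (by rw [hη]; simpa [ht', hd'] using hse'.symm)
    have hj : m d' = (η t' ^ j) d' := by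
      rw [← map_pow]
      exact Subtype.ext (by rw [hη]; simpa [ht', hd'] using hse.symm)
    rw [he, ← MulAut.mul_apply, (hmt.pow_right i).eq, MulAut.mul_apply, hj, map_pow,
      ← MulAut.mul_apply, ← MulAut.mul_apply, (Commute.pow_pow_self _ i j).eq]
  have hfixj := hTfix (t' ^ j) (by simpa [ht'] using S.T.pow_mem ht j)
    (hkill1 m hm _ hmj.symm)
  rw [hmj, show t' ^ j = 1 from Subtype.ext hfixj, map_one]

end Cfsg.Agent.Lib.Crit5.KillTwo
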