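import Cfsg.Agent.Lib.Crit5.KillTwoOne

/-!
# The single fixed point criterion, section C2: `r = 1`, no element moves `x` inside `A`

If `k ∈ C` carries `x` to another element of `A`, an element centralising the group of `x` moves
`x` inside `A` and no commutator is fixed by it; this gives a bad involution `x₀` in `mGrp`
commuting with its image under a torus element, and so a translate of `x₀` with the fixed points
of `x`, which is impossible.  See `notes/crit_c2_r1_helper31.md`, section B.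

Owner: helper43 (for helper31).
-/

set_option autoImplicit false
set_option linter.style.haveILetI false
set_option linter.unusedSectionVars false

namespace Cfsg.Agent.Lib.Crit5.KillTwo

open MulAction Cfsg.Agent.Lib.Involutions.Basic
open Cfsg.Agent.Lib.Crit8 (Action Pre Bad memAt memSwap loc)

universe u

variable {G Ω : Type u} [Group G] [MulAction G Ω] {D : Set G}

theorem fix_conj_iff {g x : G} {p : Ω} : (g * x * g⁻¹) • p = p ↔ x • g⁻¹ • p = g⁻¹ • p := by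
  rw [mul_smul, mul_smul, ← eq_inv_smul_iff]

variable [Finite G] {q : ℕ} (h : Ctx G Ω D q 1) {x : G} {a b : Ω}
variable (hx : Bad G Ω x) (hxa : x • a = a) (hxb : x • b = b) (hba : b ≠ a) (S : Sz D x a b q)
include h hx hxa

/-- An involution in `C` which is not in `E` is bad. -/
theorem Ctx.bad_of_invol {z : G} (hz : z ∈ cGrp D x a) (hzz : z * z = 1)
    (hzE : z ∉ eGrp D x a) : Bad G Ω z := by
  haveI := h.faith
  have hza : z • a = a := (mem_cGrp.1 hz).1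
  have hne : z ≠ 1 := fun e => hzE (by rw [e]; exact one_mem _)
  rcases h.pre.mem_or_bad (invol_iff.2 ⟨hzz, hne⟩) hza with hD | hb
  · refine absurd ?_ hzE
    exact Subgroup.subset_closure (show z ∈ memCent D x a by
      rw [h.memCent_eq_memAt hx hxa]; exact ⟨hD, hza⟩)
  · exact hb

/-- An element fixing every fixed point of `x` centralises the group of `x`. -/
theorem Ctx.commute_loc_of_fixesAll {g : G} (hg : FixesAll (Ω := Ω) x g) {l : G}
    (hl : l ∈ loc D x) : Commute g l := by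
  have key : ∀ d ∈ D, Commute d x → Commute g d := by
    intro d hd hdx
    obtain ⟨c, hc⟩ := (h.pre.one d hd).exists
    have hxc : x • c = c := h.pre.smul_eq_of_commute hd hc hdx
    have hd' : g * d * g⁻¹ ∈ memCent D x c := by
      rw [h.memCent_eq_memAt hx hxc]
      have := h.pre.conj_mem_memAt (g := g) (show d ∈ memAt G D c from ⟨hd, hc⟩)
      rwa [hg c hxc] at this
    have hdd : g * d * g⁻¹ = d := by
      refine h.distinct x c hx hxc _ hd' d ⟨⟨hd, hc⟩, hdx⟩ fun p hp => ?_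
      have hgp : g⁻¹ • p = p := inv_smul_eq_iff.2 (hg p hp).symm
      have hdp : x • d • p = d • p := by rw [smul_smul, ← hdx.eq, mul_smul, hp]
      rw [mul_smul, mul_smul, hgp, hg _ hdp]
    exact mul_inv_eq_iff_eq_mul.1 hdd
  have hle : loc D x ≤ Subgroup.centralizer {g} := (Subgroup.closure_le _).2 fun d hd =>
    Subgroup.mem_centralizer_singleton_iff.2 (key d hd.1 hd.2).eq.symm
  exact (Subgroup.mem_centralizer_singleton_iff.1 (hle hl) : l * g = g * l).symm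

/-- The bad involutions `x g`, `g ∈ E`, fix different sets. -/
theorem Ctx.eq_of_fix_eq {g g' : G} (hg : g ∈ eGrp D x a) (hg' : g' ∈ eGrp D x a)
    (e : ∀ p : Ω, (x * g) • p = p ↔ (x * g') • p = p) : g = g' := by
  obtain ⟨hb, hba', -⟩ := h.bad_mul hx hxa hg
  have h1 := h.eq_one_of_fixesAll hx hxa (mul_mem (inv_mem hg') hg) hb hba' fun p hp => by
    rw [show g'⁻¹ * g = (x * g')⁻¹ * (x * g) by group, mul_smul, hp,
      inv_smul_eq_iff, (e p).1 hp]
  exact (inv_mul_eq_one.1 h1).symm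

include hxb hba S

/-- Every `v e` with `v ∈ A ∖ 1` fixes the same points as some `x g`. -/
theorem Ctx.exists_fix_eq {v e : G} (hv : v ∈ aGrp Ω x) (hv1 : v ≠ 1) (he : e ∈ eGrp D x a) :
    ∃ g ∈ eGrp D x a, ∀ p : Ω, (v * e) • p = p ↔ (x * g) • p = p := by
  haveI := h.finite
  obtain ⟨y, hy, hyv, ht⟩ := h.exists_conj_tie hx hxa hxb hba S hv hv1 he
  have hg := ((h.mem_mGrp hx hxa).1 hy).2
  obtain ⟨hgb, hga, -⟩ := h.bad_mul hx hxa hg
  obtain ⟨hvb, hva, -, -, heq, -⟩ := h.aGrp_bad hx hxa hxb hba S hv hv1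
  obtain ⟨hveb, hvea, -⟩ := h.bad_mul hvb hva (heq ▸ he)
  have hsub : {p : Ω | (x * gOf x y) • p = p} ⊆ {p : Ω | (v * e) • p = p} := fun p hp => ht p hp
  have hset := Set.eq_of_subset_of_ncard_le hsub (by
    rw [← Nat.card_coe_set_eq, ← Nat.card_coe_set_eq]
    exact le_of_eq ((h.all _ a hveb hvea).card_fix.trans (h.all _ a hgb hga).card_fix.symm))
  exact ⟨gOf x y, hg, fun p => (Set.ext_iff.1 hset p).symm⟩

/-- A torus element of prime order fixes the fixed point set of some `x g`, for a bad `x₀` in the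
place of `x` commuting with its image, so that set is the one of `x`. -/
theorem Ctx.gOf_eq_one_of_commute {x0 t : G} {p : ℕ} (hx0 : Bad G Ω x0) (hx0a : x0 • a = a)
    (hx0M : x0 ∈ mGrp D x a) (hp : p.Prime) (hp2 : p ≠ 2) (hpq : ¬ p ∣ q) (ht : t ∈ S.T)
    (ht1 : t ≠ 1) (htp : t ^ p = 1) (hc : Commute (t * x0 * t⁻¹) x0) : gOf x x0 = 1 := by
  classical
  haveI := h.finite
  haveI := h.faith
  haveI : Fact p.Prime := ⟨hp⟩
  by_contra hne
  have hxx := invol_mul_self hx.invol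
  obtain ⟨htM, htg, htE⟩ := h.T_conj hx hxa hxb hba S ht hx0M
  obtain ⟨b0, hb0, hb0a⟩ := h.exists_other (a := a) hx0
  obtain ⟨S0⟩ := h.sz x0 a b0 hx0 hx0a hb0 hb0a
  have hE0 : eGrp D x0 a = eGrp D x a := h.eGrp_eq hx hxa hx0 hx0a
  obtain ⟨v, hv, e, he, hve⟩ := h.invol_decomp hx0 hx0a hb0 hb0a S0
    (y := t * x0 * t⁻¹) (by rw [h.cGrp_eq hx hxa hx0 hx0a]; exact ((h.mem_mGrp hx hxa).1 htM).1)
    hc (by rw [show t * x0 * t⁻¹ * (t * x0 * t⁻¹) = t * (x0 * x0) * t⁻¹ by group,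
      invol_mul_self hx0.invol, mul_one, mul_inv_cancel])
  have hv1 : v ≠ 1 := by
    intro hv1
    rw [hv1, one_mul] at hve
    rw [hE0] at he
    have h1 : gOf x (t * x0 * t⁻¹) = 1 := by
      rw [hve, gOf_eq_one_iff hxx]; exact (h.eGrp_commute hx hxa he).1
    rw [htg, conj_eq_one_iff] at h1
    exact hne h1
  -- the permutation of the `q` fixed point sets
  have himg : ∀ g : eGrp D x0 a, ∃ g' : eGrp D x0 a,
      ∀ o : Ω, (x0 * g'.1) • o = o ↔ (x0 * g.1) • t⁻¹ • o = t⁻¹ • o := by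
    rintro ⟨g, hg⟩
    have hg' : t * g * t⁻¹ ∈ eGrp D x0 a := by rw [hE0] at hg ⊢; exact htE g hg
    obtain ⟨g', hg'', hfx⟩ := h.exists_fix_eq hx0 hx0a hb0 hb0a S0 hv hv1 (mul_mem he hg')
    refine ⟨⟨g', hg''⟩, fun o => ?_⟩
    rw [← hfx o, ← fix_conj_iff (g := t),
      show t * (x0 * g) * t⁻¹ = t * x0 * t⁻¹ * (t * g * t⁻¹) by group, hve, mul_assoc v e]
  choose f hf using himg
  have hinj : Function.Injective f := fun g g' e' => Subtype.ext
    (h.eq_of_fix_eq hx0 hx0a g.2 g'.2 fun o => by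
      have h1 := hf g (t • o)
      have h2 := hf g' (t • o)
      rw [inv_smul_smul] at h1 h2
      rw [e'] at h1
      exact h1.symm.trans h2)
  have hfn : ∀ (n : ℕ) (g : eGrp D x0 a) (o : Ω),
      (x0 * (f^[n] g).1) • o = o ↔ (x0 * g.1) • (t ^ n)⁻¹ • o = (t ^ n)⁻¹ • o := by
    intro n
    induction n with
    | zero => intro g o; rw [pow_zero, inv_one, one_smul]; rfl
    | succ n ih =>
      intro g o
      have e1 : (t ^ n)⁻¹ • t⁻¹ • o = (t ^ (n + 1))⁻¹ • o := by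
        rw [smul_smul, ← mul_inv_rev, ← pow_succ']
      rw [Function.iterate_succ_apply', hf, ih, e1]
  haveI : Fintype (eGrp D x0 a) := Fintype.ofFinite _
  let π : Equiv.Perm (eGrp D x0 a) := Equiv.ofBijective f (Finite.injective_iff_bijective.1 hinj)
  have hπ : π ^ p ^ 1 = 1 := by
    refine Equiv.ext fun g => Subtype.ext ?_
    rw [pow_one, Equiv.Perm.coe_pow]
    refine h.eq_of_fix_eq hx0 hx0a (f^[p] g).2 g.2 fun o => ?_
    show (x0 * (f^[p] g).1) • o = o ↔ (x0 * g.1) • o = o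
    rw [hfn p g o, htp, inv_one, one_smul]
  have hcard : ¬ p ∣ Fintype.card (eGrp D x0 a) := by
    rwa [← Nat.card_eq_fintype_card, h.card_eGrp hx0 hx0a]
  obtain ⟨g, hg⟩ := Equiv.Perm.exists_fixed_point_of_prime hcard hπ
  have hg' : f g = g := hg
  obtain ⟨hy0, hy0a, -⟩ := h.bad_mul hx0 hx0a g.2
  have hta : t • a = a := (S.T_le ht).1.2
  have hF : ∀ o : Ω, (x0 * g.1) • o = o → (x0 * g.1) • t • o = t • o := by
    intro o ho
    have h1 := hf g (t • o)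
    rw [hg', inv_smul_smul] at h1
    exact h1.2 ho
  obtain ⟨c, hc', hca, htc⟩ := h.exists_fix hp hp2 htp hy0 hy0a hta hF
  obtain rfl : c = b := (h.T_fix_all hx hxa hxb hba S ht ht1 htc).resolve_left hca
  have hsame := h.fix_eq_of_two hx hy0 hxa hxb hy0a hc' hba.symm
  -- so `gOf x x₀` fixes the fixed points of `x`
  set y0 := x0 * g.1 with hy0def
  have hgy : gOf x y0 = gOf x x0 := by
    have hgE : g.1 ∈ eGrp D x a := hE0 ▸ g.2
    rw [hy0def, h.gOf_mul hx hxa hx0M (h.eGrp_le_mGrp hx hxa hgE),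
      (gOf_eq_one_iff hxx).2 (h.eGrp_commute hx hxa hgE).1, mul_one]
  refine hne (h.eq_one_of_fixesAll hx hxa ((h.mem_mGrp hx hxa).1 hx0M).2 hx hxa fun o ho => ?_)
  have hyo : y0 • o = o := (hsame o).1 ho
  have h1 : (x * gOf x x0) • o = o := by
    rw [← hgy, ← conj_eq_gOf hxx, fix_conj_iff, inv_smul_eq_iff.2 hyo.symm, ho]
  rw [mul_smul] at h1
  exact MulAction.injective x (h1.trans ho.symm)

/-- No element of `C` carries `x` to another element of `A`. -/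
theorem Ctx.no_scalar (htop : IsTop D x a) {k : G} (hk : k ∈ cGrp D x a)
    (hv : k * x * k⁻¹ ∈ aGrp Ω x) : k * x * k⁻¹ = x := by
  classical
  haveI := h.finite
  haveI := h.faith
  by_contra hne
  have hxx := invol_mul_self hx.invol
  set v := k * x * k⁻¹ with hvdef
  have hv1 : v ≠ 1 := fun e => invol_ne_one hx.invol (conj_eq_one_iff.1 e)
  obtain ⟨-, -, hFv, -, -, hAv, -⟩ := h.aGrp_bad hx hxa hxb hba S hv hv1
  obtain ⟨hka, -⟩ := mem_cGrp.1 hk
  have hkF : ∀ o : Ω, x • o = o → x • k • o = k • o := fun o ho => by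
    rw [← hFv, hvdef, fix_conj_iff, inv_smul_smul]; exact ho
  obtain ⟨y0, hy0, hy0b⟩ := S.trans _ (hkF b hxb)
    (fun e => hba (MulAction.injective k (e.trans hka.symm)))
  obtain ⟨hy0a, hy0x, hy0l, hy0C⟩ := h.Q_props hx hxa hxb hba S hy0
  -- `k1` fixes `F` and moves `x` to `v`
  obtain ⟨k1, hk1⟩ : ∃ k1, k1 = y0⁻¹ * k := ⟨_, rfl⟩
  have hk1C : k1 ∈ cGrp D x a := hk1 ▸ mul_mem (inv_mem hy0C) hk
  have hk1a : k1 • a = a := (mem_cGrp.1 hk1C).1
  have hk1x : k1 * x * k1⁻¹ = v := by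
    rw [hk1, show y0⁻¹ * k * x * (y0⁻¹ * k)⁻¹ = y0⁻¹ * v * y0 by rw [hvdef]; group,
      mul_assoc, (h.aGrp_commute_loc hv hx hy0l).eq, inv_mul_cancel_left]
  have hk1F : FixesAll (Ω := Ω) x k1 :=
    h.trivial x a b hx hxa hxb hba k1 hk1a (by rw [hk1, mul_smul, ← hy0b, inv_smul_smul])
      (fun o ho => by
        rw [hk1, mul_smul, smul_smul, ← hy0x.inv_left.eq, mul_smul, hkF o ho])
      (mem_cGrp.1 hk1C).2
  have hk1l : ∀ {l : G}, l ∈ loc D x → Commute k1 l := fun hl =>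
    h.commute_loc_of_fixesAll hx hxa hk1F hl
  have hk1A : ∀ {u : G}, u ∈ aGrp Ω x → k1 * u * k1⁻¹ ∈ aGrp Ω x := by
    intro u hu
    rw [← hAv]
    refine mem_aGrp.2 ⟨fun o ho => ?_, ?_⟩
    · have ho' : x • o = o := (hFv o).1 ho
      rw [mul_smul, mul_smul, inv_smul_eq_iff.2 (hk1F o ho').symm, (mem_aGrp.1 hu).1 o ho',
        hk1F o ho']
    · rw [← hk1x]
      show k1 * u * k1⁻¹ * (k1 * x * k1⁻¹) = k1 * x * k1⁻¹ * (k1 * u * k1⁻¹)
      calc k1 * u * k1⁻¹ * (k1 * x * k1⁻¹) = k1 * (u * x) * k1⁻¹ := by group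
        _ = k1 * (x * u) * k1⁻¹ := by rw [(mem_aGrp.1 hu).2.eq]
        _ = _ := by group
  have hk1M : ∀ {y : G}, y ∈ mGrp D x a → k1 * y * k1⁻¹ ∈ mGrp D x a := fun {y} hy =>
    (Subgroup.mem_normalizer_iff.1 (h.norm_of_fus hx hxa hxb hba S htop hk1a
      (by rw [hk1x]; exact h.aGrp_le_mGrp hx hxa hv)) y).1 hy
  have hk1E : ∀ {f : G}, f ∈ eGrp D x a → Commute k1 f := fun {f} hf =>
    (h.mem_cGrp' hx hxa hk1C).2 f hf
  have hgE : ∀ {y : G}, y ∈ mGrp D x a → gOf x y ∈ eGrp D x a :=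
    fun hy => ((h.mem_mGrp hx hxa).1 hy).2
  -- the commutator of the image
  have htie : ∀ {y : G}, y ∈ mGrp D x a →
      Tie Ω x v (gOf x (k1 * y * k1⁻¹)) (gOf x y) := by
    intro y hy
    obtain ⟨w, hw, hwc, hwt⟩ := h.conj_aGrp hx hxa hxb hba S (hk1M hy) hv
    have e : k1 * y * k1⁻¹ * v * (k1 * y * k1⁻¹)⁻¹ = v * gOf x y := by
      rw [← hk1x, show k1 * y * k1⁻¹ * (k1 * x * k1⁻¹) * (k1 * y * k1⁻¹)⁻¹ =
          k1 * (y * x * y⁻¹) * k1⁻¹ by group, conj_eq_gOf hxx,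
        show k1 * (x * gOf x y) * k1⁻¹ = k1 * x * k1⁻¹ * (k1 * gOf x y * k1⁻¹) by group,
        (hk1E (hgE hy)).eq, mul_inv_cancel_right]
    rwa [mul_left_cancel (hwc.symm.trans e)] at hwt
  have hmoved : ∀ {y : G}, y ∈ mGrp D x a → gOf x y ≠ 1 →
      gOf x (k1 * y * k1⁻¹) ≠ 1 ∧ gOf x (k1 * y * k1⁻¹) ≠ gOf x y := by
    intro y hy hg
    have ht := htie hy
    refine ⟨fun e => hg ?_, fun e => ?_⟩
    · rw [e, Tie, mul_one] at ht
      refine h.eq_one_of_fixesAll hx hxa (hgE hy) hx hxa fun o ho => ?_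
      have := ht o ho
      rw [mul_smul] at this
      exact MulAction.injective v (this.trans ((mem_aGrp.1 hv).1 o ho).symm)
    · rw [e] at ht
      have hxA : x ∈ aGrp Ω x := mem_aGrp.2 ⟨fun o ho => ho, Commute.refl x⟩
      have ht2 := h.tie_mul hx hxa hxb hba S (hgE hy) hxA (hgE hy) ht
        (show Tie Ω x x (gOf x y) (gOf x y) from fun o ho => ho)
      rw [(h.eGrp_commute hx hxa (hgE hy)).2.2.1] at ht2
      have h1 := h.tie_one hx hxa hxb hba S (hgE hy) hg (mul_mem hv hxA) ht2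
      exact hne (mul_right_cancel (b := x) (h1.trans hxx.symm))
  obtain ⟨d, hd⟩ := CountsB.exists_commute h.hM x hx hxa
  obtain ⟨y, hy, hgy⟩ := h.exists_gOf hx hxa
    (show d ∈ eGrp D x a from Subgroup.subset_closure hd)
  have hg : gOf x y ≠ 1 := hgy ▸ invol_ne_one (h.pre.invol d hd.1.1)
  by_cases hel : IsElem D x a
  swap
  · -- exotic: the squares see the commutator
    obtain ⟨p0, hp0, v0, hv0, e⟩ := h.sq_decomp hx hxa hxb hba S hy
    refine (hmoved hy hg).2 (h.exotic_inj hx hxa hxb hba S hel hy (hk1M hy) hg (hmoved hy hg).1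
      hp0 hp0 hv0 (hk1A hv0) e ?_ (by rw [inv_mul_cancel]; exact one_mem _)).symm
    calc k1 * y * k1⁻¹ * (k1 * y * k1⁻¹) = k1 * (y * y) * k1⁻¹ := by group
      _ = k1 * p0 * (v0 * k1⁻¹) := by rw [e]; group
      _ = p0 * k1 * (v0 * k1⁻¹) := by rw [(hk1l (h.Q_props hx hxa hxb hba S hp0).2.2.1).eq]
      _ = _ := by group
  -- elementary squares
  obtain ⟨p, hp, hpd⟩ := Nat.exists_prime_and_dvd (n := Nat.card S.T) (by
    rw [S.card_T]; have := h.eight_le; omega)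
  haveI : Fact p.Prime := ⟨hp⟩
  obtain ⟨⟨t, ht⟩, hto⟩ := exists_prime_orderOf_dvd_card' (G := S.T) p hpd
  rw [Subgroup.orderOf_mk] at hto
  have ht1 : t ≠ 1 := fun e => hp.one_lt.ne' (by rw [← hto, e, orderOf_one])
  have htp : t ^ p = 1 := hto ▸ pow_orderOf_eq_one t
  have hpd' : p ∣ q - 1 := S.card_T ▸ hpd
  have hpq : ¬ p ∣ q := fun hd' => hp.one_lt.ne'
    (Nat.dvd_one.1 (by
      have := Nat.dvd_sub hd' hpd'
      rwa [show q - (q - 1) = 1 by have := h.eight_le; omega] at this))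
  have hp2 : p ≠ 2 := by
    rintro rfl
    obtain ⟨m, -, hqm⟩ := h.exists_log
    exact hpq (hqm ▸ dvd_pow_self 2 (by omega))
  have hTl : ∀ {s : G}, s ∈ S.T → s ∈ loc D x := fun hs => (S.T_le hs).1.1
  have htkc : Commute t k1 := (hk1l (hTl ht)).symm
  have hEc : ∀ {m f : G}, m ∈ mGrp D x a → f ∈ eGrp D x a → Commute m f := fun hm hf =>
    h.E_central hx hxa hxb hba S hm hf
  have hcomm : ∀ {u m : G}, u ∈ mGrp D x a → m ∈ mGrp D x a →
      ∃ c ∈ eGrp D x a, u * m * u⁻¹ = m * c := by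
    intro u m hu hm
    refine ⟨_, h.commutator_mem hx hxa hxb hba S hel hu hm, ?_⟩
    rw [(hEc hm (h.commutator_mem hx hxa hxb hba S hel hu hm)).eq, inv_mul_cancel_right]
  have hsq : ∀ {m f : G}, m ∈ mGrp D x a → f ∈ eGrp D x a →
      m * f * (m * f) = m * m := by
    intro m f hm hf
    calc m * f * (m * f) = m * (f * m) * f := by group
      _ = m * (m * f) * f := by rw [(hEc hm hf).eq]
      _ = m * m * (f * f) := by group
      _ = m * m := by rw [(h.eGrp_commute hx hxa hf).2.2.1, mul_one]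
  have htM : ∀ {s m : G}, s ∈ S.T → m ∈ mGrp D x a →
      s * m * s⁻¹ ∈ mGrp D x a ∧ gOf x (s * m * s⁻¹) = s * gOf x m * s⁻¹ :=
    fun hs hm => ⟨(h.T_conj hx hxa hxb hba S hs hm).1, (h.T_conj hx hxa hxb hba S hs hm).2.1⟩
  have htE : ∀ {f : G}, f ∈ eGrp D x a → t * f * t⁻¹ ∈ eGrp D x a := fun {f} hf =>
    (h.T_conj hx hxa hxb hba S ht (one_mem _)).2.2 f hf
  have hginv : ∀ {m : G}, m ∈ mGrp D x a → gOf x m⁻¹ = (gOf x m)⁻¹ := by
    intro m hm
    rw [eq_inv_iff_mul_eq_one, ← h.gOf_mul hx hxa (inv_mem hm) hm, inv_mul_cancel,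
      gOf_eq_one_iff hxx]
    exact Commute.one_left x
  -- the double commutator
  let δ : G → G := fun m => k1 * m * k1⁻¹ * m⁻¹
  let Z : G → G := fun m => t * δ m * t⁻¹ * (δ m)⁻¹
  have hδM : ∀ {m : G}, m ∈ mGrp D x a → δ m ∈ mGrp D x a := fun hm =>
    mul_mem (hk1M hm) (inv_mem hm)
  have hZM : ∀ {m : G}, m ∈ mGrp D x a → Z m ∈ mGrp D x a := fun hm =>
    mul_mem (htM ht (hδM hm)).1 (inv_mem (hδM hm))
  have hZne : ∀ {m : G}, m ∈ mGrp D x a → gOf x m ≠ 1 → gOf x (Z m) ≠ 1 := by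
    intro m hm hgm e
    have eδ : gOf x (δ m) = gOf x (k1 * m * k1⁻¹) * (gOf x m)⁻¹ := by
      show gOf x (k1 * m * k1⁻¹ * m⁻¹) = _
      rw [h.gOf_mul hx hxa (hk1M hm) (inv_mem hm), hginv hm]
    rw [h.gOf_mul hx hxa (htM ht (hδM hm)).1 (inv_mem (hδM hm)), (htM ht (hδM hm)).2,
      hginv (hδM hm), mul_inv_eq_one] at e
    have hne1 : gOf x (δ m) ≠ 1 := fun e1 =>
      (hmoved hm hgm).2 (mul_inv_eq_one.1 (eδ.symm.trans e1))
    exact ht1 (h.T_free hx hxa hxb hba S ht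
      (((h.mem_eGrp hx hxa).1 (hgE (hδM hm))).resolve_left hne1) (mul_inv_eq_iff_eq_mul.1 e))
  -- `Z` commutes with `k1` and the torus
  have hZconj : ∀ {s m : G}, Commute s k1 → Commute s t →
      Z (s * m * s⁻¹) = s * Z m * s⁻¹ := by
    intro s m hsk hst
    have e1 : δ (s * m * s⁻¹) = s * δ m * s⁻¹ := by
      show k1 * (s * m * s⁻¹) * k1⁻¹ * (s * m * s⁻¹)⁻¹ = _
      calc k1 * (s * m * s⁻¹) * k1⁻¹ * (s * m * s⁻¹)⁻¹
          = k1 * s * m * (k1 * s)⁻¹ * (s * m⁻¹ * s⁻¹) := by group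
        _ = s * k1 * m * (s * k1)⁻¹ * (s * m⁻¹ * s⁻¹) := by rw [← hsk.eq]
        _ = _ := by simp only [δ]; group
    simp only [Z, e1]
    calc t * (s * δ m * s⁻¹) * t⁻¹ * (s * δ m * s⁻¹)⁻¹
        = t * s * δ m * (t * s)⁻¹ * (s * (δ m)⁻¹ * s⁻¹) := by group
      _ = s * t * δ m * (s * t)⁻¹ * (s * (δ m)⁻¹ * s⁻¹) := by rw [← hst.eq]
      _ = _ := by group
  -- `Z` is multiplicative modulo `E`
  have hZmul : ∀ {m n : G}, m ∈ mGrp D x a → n ∈ mGrp D x a →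
      ∃ f ∈ eGrp D x a, Z (m * n) = Z m * Z n * f := by
    intro m n hm hn
    obtain ⟨c, hc, hmc⟩ := hcomm hm (hδM hn)
    obtain ⟨c', hc', hmc'⟩ := hcomm (hδM hm) (hZM hn)
    have e1 : δ (m * n) = δ m * δ n * c := by
      show k1 * (m * n) * k1⁻¹ * (m * n)⁻¹ = δ m * δ n * c
      rw [mul_assoc (δ m), ← hmc]
      simp only [δ]
      group
    refine ⟨c' * (t * c * t⁻¹ * c⁻¹), mul_mem hc' (mul_mem (htE hc) (inv_mem hc)), ?_⟩
    have hcD : Commute (δ m * δ n)⁻¹ (t * c * t⁻¹ * c⁻¹) :=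
      hEc (inv_mem (mul_mem (hδM hm) (hδM hn))) (mul_mem (htE hc) (inv_mem hc))
    show t * δ (m * n) * t⁻¹ * (δ (m * n))⁻¹ = _
    rw [e1]
    calc t * (δ m * δ n * c) * t⁻¹ * (δ m * δ n * c)⁻¹
        = t * δ m * δ n * t⁻¹ * ((t * c * t⁻¹ * c⁻¹) * (δ m * δ n)⁻¹) := by group
      _ = t * δ m * δ n * t⁻¹ * ((δ m * δ n)⁻¹ * (t * c * t⁻¹ * c⁻¹)) := by rw [hcD.eq]
      _ = Z m * (δ m * Z n * (δ m)⁻¹) * (t * c * t⁻¹ * c⁻¹) := by simp only [Z]; group
      _ = Z m * Z n * (c' * (t * c * t⁻¹ * c⁻¹)) := by rw [hmc']; group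
  -- `Z` kills the centraliser of `x`, modulo `E`
  have hZker : ∀ {n : G}, n ∈ mGrp D x a → gOf x n = 1 → Z n = 1 := by
    intro n hn hgn
    obtain ⟨p0, hp0, v0, hv0, rfl⟩ := h.exists_decomp hx hxa hxb hba S ((h.mem_mGrp hx hxa).1 hn).1
      ((gOf_eq_one_iff hxx).1 hgn)
    have hA : k1 * v0 * k1⁻¹ * v0⁻¹ ∈ aGrp Ω x := mul_mem (hk1A hv0) (inv_mem hv0)
    have hpl := (h.Q_props hx hxa hxb hba S hp0).2.2.1
    have e1 : δ (p0 * v0) = k1 * v0 * k1⁻¹ * v0⁻¹ := by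
      show k1 * (p0 * v0) * k1⁻¹ * (p0 * v0)⁻¹ = _
      calc k1 * (p0 * v0) * k1⁻¹ * (p0 * v0)⁻¹
          = (k1 * p0) * (v0 * k1⁻¹ * v0⁻¹) * p0⁻¹ := by group
        _ = (p0 * k1) * (v0 * k1⁻¹ * v0⁻¹) * p0⁻¹ := by rw [(hk1l hpl).eq]
        _ = p0 * (k1 * v0 * k1⁻¹ * v0⁻¹) * p0⁻¹ := by group
        _ = _ := by rw [← (h.aGrp_commute_loc hA hx hpl).eq, mul_inv_cancel_right]
    simp only [Z, e1]
    rw [← (h.aGrp_commute_loc hA hx (hTl ht)).eq, mul_inv_cancel_right, mul_inv_cancel]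
  have hZsq : ∀ {m : G}, m ∈ mGrp D x a → gOf x m ≠ 1 → Z m * Z m = 1 := by
    intro m hm hgm
    obtain ⟨hg1, hg2⟩ := hmoved hm hgm
    obtain ⟨s, hs, hse⟩ := S.T_trans _ (((h.mem_eGrp hx hxa).1 (hgE hm)).resolve_left hgm) _
      (((h.mem_eGrp hx hxa).1 (hgE (hk1M hm))).resolve_left hg1)
    have hs1 : s ≠ 1 := fun e => hg2 (by rw [← hse, e, one_mul, inv_one, mul_one])
    obtain ⟨hsM, hsg⟩ := htM hs hm
    -- the two images differ by an element centralising `x`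
    have hgn : gOf x ((s * m * s⁻¹)⁻¹ * (k1 * m * k1⁻¹)) = 1 := by
      rw [h.gOf_mul hx hxa (inv_mem hsM) (hk1M hm), hginv hsM, hsg, hse, inv_mul_cancel]
    have hn : (s * m * s⁻¹)⁻¹ * (k1 * m * k1⁻¹) ∈ mGrp D x a :=
      mul_mem (inv_mem hsM) (hk1M hm)
    obtain ⟨f, hf, hfe⟩ := hZmul hsM hn
    rw [mul_inv_cancel_left, hZker hn hgn, mul_one, hZconj (Commute.refl k1) htkc.symm,
      hZconj (hk1l (hTl hs)).symm (S.T_comm s hs t ht)] at hfe
    have hsE : Z m * Z m ∈ eGrp D x a := hel _ (hZM hm)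
    have h1 : s * (Z m * Z m) * s⁻¹ = Z m * Z m := by
      calc s * (Z m * Z m) * s⁻¹
          = s * Z m * s⁻¹ * f * (s * Z m * s⁻¹ * f) := by
            rw [hsq (htM hs (hZM hm)).1 hf]; group
        _ = k1 * (Z m * Z m) * k1⁻¹ := by rw [← hfe]; group
        _ = _ := by rw [(hk1E hsE).eq, mul_inv_cancel_right]
    rcases (h.mem_eGrp hx hxa).1 hsE with e | e
    · exact e
    · exact absurd (h.T_free hx hxa hxb hba S hs e (mul_inv_eq_iff_eq_mul.1 h1)) hs1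
  -- the involution `x₀`
  set x0 := Z y with hx0
  have hx0g : gOf x x0 ≠ 1 := hZne hy hg
  have hx0E : x0 ∉ eGrp D x a := fun e =>
    hx0g ((gOf_eq_one_iff hxx).2 (h.eGrp_commute hx hxa e).1)
  have hx0C : x0 ∈ cGrp D x a := ((h.mem_mGrp hx hxa).1 (hZM hy)).1
  have hx0b := h.bad_of_invol hx hxa hx0C (hZsq hy hg) hx0E
  have hconj : Z (t * y * t⁻¹) = t * x0 * t⁻¹ := hZconj htkc (Commute.refl t)
  obtain ⟨htyM, htyg⟩ := htM ht hy
  obtain ⟨f, hf, hfe⟩ := hZmul hy htyM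
  have hgg : gOf x (y * (t * y * t⁻¹)) ≠ 1 := by
    rw [h.gOf_mul hx hxa hy htyM, htyg]
    intro e
    refine ht1 (h.T_free hx hxa hxb hba S ht (((h.mem_eGrp hx hxa).1 (hgE hy)).resolve_left hg)
      (mul_inv_eq_iff_eq_mul.1 ?_))
    rw [eq_inv_of_mul_eq_one_right e]
    exact inv_eq_of_mul_eq_one_right (h.eGrp_commute hx hxa (hgE hy)).2.2.1
  have hprod : x0 * (t * x0 * t⁻¹) * (x0 * (t * x0 * t⁻¹)) = 1 := by
    have h1 := hZsq (mul_mem hy htyM) hgg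
    rw [hfe, hconj, hsq (mul_mem (hZM hy) (htM ht (hZM hy)).1) hf] at h1
    exact h1
  have hc : Commute (t * x0 * t⁻¹) x0 := by
    have h2 : t * x0 * t⁻¹ * (t * x0 * t⁻¹) = 1 := by
      rw [show t * x0 * t⁻¹ * (t * x0 * t⁻¹) = t * (x0 * x0) * t⁻¹ by group, hZsq hy hg, mul_one,
        mul_inv_cancel]
    show t * x0 * t⁻¹ * x0 = x0 * (t * x0 * t⁻¹)
    calc t * x0 * t⁻¹ * x0 = x0 * x0 * (t * x0 * t⁻¹ * x0) * (t * x0 * t⁻¹ * (t * x0 * t⁻¹)) := by
          rw [hZsq hy hg, h2, one_mul, mul_one]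
      _ = x0 * (x0 * (t * x0 * t⁻¹) * (x0 * (t * x0 * t⁻¹))) * (t * x0 * t⁻¹) := by group
      _ = _ := by rw [hprod, mul_one]
  exact hx0g (h.gOf_eq_one_of_commute hx hxa hxb hba S hx0b (mem_cGrp.1 hx0C).1 (hZM hy) hp hp2 hpq
    ht ht1 htp hc)

end Cfsg.Agent.Lib.Crit5.KillTwo
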