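import Cfsg.Agent.Lib.Crit5.KillTwoShape
import Cfsg.Agent.Lib.Crit5.KillTwoScalar
import Cfsg.Agent.Lib.Crit5.KillTwoRot
import Cfsg.Agent.Lib.Crit5.KillTwoFour

/-!
# The single fixed point criterion, section C2

`killTwo`: there is no bad involution of type two.  See `notes/crit_c2_helper31.md` and
`notes/crit_c2_r1_helper31.md`.

Owner: helper31.
-/

set_option autoImplicit false
set_option linter.style.haveILetI false

namespace Cfsg.Agent.Lib.Crit5.KillTwo

open MulAction Cfsg.Agent.Lib.Involutions.Basic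
open Cfsg.Agent.Lib.Crit8 (Action Pre Bad memAt memSwap loc)

universe u

variable {G Ω : Type u} [Group G] [MulAction G Ω] [Finite G] {D : Set G}

/-- The case `r = 1`. -/
theorem Ctx.false_of_one {q : ℕ} (h : Ctx G Ω D q 1) {a : Ω}
    (hex : ∃ y : G, Bad G Ω y ∧ y • a = a) : False := by
  obtain ⟨x, hx, hxa, htop⟩ := h.exists_top hex
  obtain ⟨b, hxb, hba⟩ := h.exists_other (a := a) hx
  obtain ⟨S⟩ := h.sz x a b hx hxa hxb hba
  have hscal : ∀ u ∈ aGrp Ω x, u ≠ 1 → ∀ k ∈ cGrp D x a,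
      k * u * k⁻¹ ∈ aGrp Ω x → k * u * k⁻¹ = u := by
    intro u hu hu1 k hk hku
    obtain ⟨hub, hua, hF, -, -, hA, hM⟩ := h.aGrp_bad hx hxa hxb hba S hu hu1
    obtain ⟨Su⟩ := h.sz u a b hub hua ((hF b).2 hxb) hba
    exact h.no_scalar hub hua ((hF b).2 hxb) hba Su (fun P hP hPa => hM ▸ htop P hP hPa)
      (h.cGrp_eq hx hxa hub hua ▸ hk) (hA ▸ hku)
  have hrot : IsElem D x a →
      cGrp D x a ⊓ Subgroup.normalizer (mGrp D x a : Set G) ≤ mGrp D x a := fun hel =>
    h.cGrp_norm_le hx hxa hxb hba S htop hel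
      (hscal x (h.x_mem_aGrp hx hxa) (invol_ne_one hx.invol))
  have hxA := h.x_mem_aGrp hx hxa
  haveI : Fact (Nat.Prime 2) := ⟨Nat.prime_two⟩
  haveI : Nontrivial (aGrp Ω x) :=
    ⟨⟨⟨x, hxA⟩, 1, fun e => invol_ne_one hx.invol (congrArg Subtype.val e)⟩⟩
  obtain ⟨l, hl, hcard⟩ := (h.aGrp_pGroup (Ω := Ω) hx).nontrivial_iff_card.1 inferInstance
  rcases (show l = 1 ∨ 2 ≤ l by omega) with rfl | hl2
  · refine h.false_of_two hx hxa hxb hba S htop hcard (hrot ?_)
    by_contra hne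
    have h1 := h.exotic_card hx hxa hxb hba S hne
    have := h.eight_le
    omega
  · exact h.false_of_four hx hxa hxb hba S htop
      (hcard ▸ (le_trans (by norm_num) (Nat.pow_le_pow_right (by norm_num) hl2))) hscal hrot

omit [Group G] [MulAction G Ω] [Finite G] in
/-- **Section C2.** -/
theorem killTwo (hC : PropCentral.{u}) (hP : PropPure.{u}) (hR : PropRankOne.{u}) :
    PropKill.{u} 2 := by
  intro X _ _ Δ _ E hM x a q r hx hc
  have h := exists_ctx hC hP hR szShape hM hx hc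
  rcases h.cases with ⟨rfl, -⟩ | ⟨hr, hN⟩
  · exact h.false_of_one ⟨x, hx, hc.fixes⟩
  · exact h.false_of_large hr hN ⟨x, hx, hc.fixes⟩

end Cfsg.Agent.Lib.Crit5.KillTwo
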