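import Cfsg.Agent.Lib.Crit5.Pure.Ends

/-!
# The single fixed point criterion, section P

If the elements fixing `a` and centralising the members of `x` at `a` did not move `x` they would
leave a linear group of order `168` on eight vectors, which none of the three types allows.  One
moving element gives all by conjugation under the centraliser of `x`.
-/

set_option autoImplicit false

namespace Cfsg.Agent.Lib.Crit5.Pure

open MulAction
open Cfsg.Agent.Lib.Crit8 (memAt)

universe u

/-- **Section P.** -/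
theorem propPure (hA : PropCentral.{u}) : PropPure.{u} := by
  intro X _ _ Δ _ D hM x a q e r hx hc d hd
  by_contra hno
  refine Setting.false_of_setting (D := D) (x := x) (a := a) (q := q) (e := e) (r := r)
    ⟨hM, hA, hx, hc, fun s hsa hsB d' hd' hsx => hno ?_⟩
  obtain ⟨g, hgx, hgd⟩ := hM.act.toPre.loc_transitive hx hd'.1.1 hd'.2 hd.1.1 hd.2
  have hga : g • a = a := by
    have h := (hM.act.toPre.conj_mem_memAt (g := g) hd'.1).2
    rw [hgd] at h
    exact hM.act.toPre.eq_of_fix hd.1.1 h hd.1.2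
  have hga' : g⁻¹ • a = a := inv_smul_eq_iff.2 hga.symm
  refine ⟨g * s * g⁻¹, by rw [mul_smul, mul_smul, hga', hsa, hga], fun f hf => ?_, ?_⟩
  · have hf' : g⁻¹ * f * g⁻¹⁻¹ ∈ memCent D x a := by
      refine ⟨?_, (hgx.inv_left.mul_left hf.2).mul_left hgx.inv_left.inv_left⟩
      have h := hM.act.toPre.conj_mem_memAt (g := g⁻¹) hf.1
      rwa [hga'] at h
    have h := hsB _ hf'
    show g * s * g⁻¹ * f = f * (g * s * g⁻¹)
    calc g * s * g⁻¹ * f = g * (s * (g⁻¹ * f * g⁻¹⁻¹)) * g⁻¹ := by group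
      _ = f * (g * s * g⁻¹) := by rw [h.eq]; group
  · calc g * s * g⁻¹ * x * (g * s * g⁻¹)⁻¹ = g * s * (g⁻¹ * x * g) * s⁻¹ * g⁻¹ := by group
      _ = g * (s * x * s⁻¹) * g⁻¹ := by
        rw [mul_assoc g⁻¹ x g, ← hgx.eq, inv_mul_cancel_left]; group
      _ = g * x * g⁻¹ * (g * d' * g⁻¹) := by rw [hsx]; group
      _ = x * d := by rw [hgd, hgx.eq, mul_inv_cancel_right]

end Cfsg.Agent.Lib.Crit5.Pure
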