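import Cfsg.Agent.Lib.Crit5.RankOneTools
import Cfsg.Agent.Lib.HalfTransitive.MaxClass
import Cfsg.Agent.Lib.Involutions.StronglyEmbedded
import Cfsg.Agent.Lib.PGroups.Omega

/-!
# CRIT, section R: every bad involution has a four group

A bad `v` with no four group centralises a single member of a Sylow `S` containing it, the member
`z` central in `S`.  By transfer a maximal subgroup of `S` containing `z` and no conjugate of `v` is
impossible; `z` is not the only member in `S` (Z*), and a normal four group of `S` leads to a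
normal four group of members.  Without normal four groups `S` is dihedral or semidihedral.
-/

set_option autoImplicit false
set_option linter.style.haveILetI false
set_option linter.unusedSectionVars false

namespace Cfsg.Agent.Lib.Crit5.RankOne

open MulAction Subgroup
open Cfsg.Agent.Lib.Crit8 (Action Bad memAt memSwap loc)
open Cfsg.Agent.Lib.Involutions.Basic

universe u

variable {G : Type u} {Ω : Type u} [Group G] [Finite G] [MulAction G Ω] {D : Set G}

omit [Finite G] in
theorem fourAt_conj (h : Action G Ω D) {x g : G} {p : Ω} (hf : FourAt D x p) :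
    FourAt D (g * x * g⁻¹) (g • p) := by
  obtain ⟨d, ⟨hd, hdx⟩, e, ⟨he, hex⟩, hne, hc⟩ := hf
  refine ⟨g * d * g⁻¹, ⟨h.conj_mem_memAt hd, ?_⟩, g * e * g⁻¹, ⟨h.conj_mem_memAt he, ?_⟩,
    fun hh => hne (by simpa using hh), ?_⟩
  · simpa using hdx.map (MulAut.conj g).toMonoidHom
  · simpa using hex.map (MulAut.conj g).toMonoidHom
  · simpa using hc.map (MulAut.conj g).toMonoidHom

/-- A four group at one fixed point gives one at every fixed point. -/
theorem fourAt_transfer (h : Action G Ω D) {x : G} (hx : Bad G Ω x) {p q : Ω}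
    (hq : x • q = q) (hf : FourAt D x p) : FourAt D x q := by
  obtain ⟨d, ⟨hd, hdx⟩, -⟩ := id hf
  obtain ⟨e, he, hex⟩ := h.smul_conj_memAt hx.invol hq
  obtain ⟨g, hg, hge⟩ := h.loc_transitive hx hd.1 hdx he.1 hex
  have hgp : g • p = q :=
    h.eq_of_fix he.1 (hge ▸ (h.conj_mem_memAt (g := g) hd).2) he.2
  have hgx : g * x * g⁻¹ = x := by rw [hg.eq, mul_inv_cancel_right]
  have := fourAt_conj h (g := g) hf
  rwa [hgx, hgp] at this

/-- Bad and without a four group at any fixed point. -/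
def IsRankOne (D : Set G) (Ω : Type u) [MulAction G Ω] (x : G) : Prop :=
  Bad G Ω x ∧ ∀ p : Ω, x • p = p → ¬ FourAt D x p

omit [Finite G] in
theorem isRankOne_conj (h : Action G Ω D) {x : G} (hx : IsRankOne D Ω x) (g : G) :
    IsRankOne D Ω (g * x * g⁻¹) := by
  refine ⟨⟨(orderOf_conj_eq g x).trans hx.1.invol, ?_⟩, fun p hp hf => ?_⟩
  · obtain ⟨a, b, hab, ha, hb⟩ := hx.1.two
    exact ⟨g • a, g • b, fun hh => hab (by simpa using hh), by simp [mul_smul, ha],
      by simp [mul_smul, hb]⟩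
  · have hp' : x • (g⁻¹ • p) = g⁻¹ • p := by
      rw [mul_smul, mul_smul] at hp
      exact eq_inv_smul_iff.2 hp
    have := fourAt_conj h (g := g⁻¹) hf
    rw [inv_inv, show g⁻¹ * (g * x * g⁻¹) * g = x by group] at this
    exact hx.2 _ hp' this

variable [FaithfulSMul G Ω]

/-- A rank one involution of a `2`-group centralises at most one member of it. -/
theorem uniq (h : Action G Ω D) {P : Subgroup G} (hP : IsPGroup 2 P) {x : G}
    (hx : IsRankOne D Ω x) {d e : G} (hd : d ∈ D) (hdP : d ∈ P) (he : e ∈ D) (heP : e ∈ P)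
    (hdx : Commute d x) (hex : Commute e x) : d = e := by
  by_contra hde
  have hne : d * e ≠ 1 := fun h1 => hde (by
    rw [eq_inv_of_mul_eq_one_left h1, invol_inv (h.invol e he)])
  have hev := even_orderOf_of_mem hP (mul_mem hdP heP) hne
  obtain ⟨hw, hwd, -⟩ := central_invol (h.invol d hd) (h.invol e he) hev
  have hd' := Crit8.exists_mul_invol h.conj hd he (h.invol d hd) (h.invol e he) hev
  obtain ⟨p, hp⟩ := (h.one d hd).exists
  have hc : Commute d (d * (d * e) ^ (orderOf (d * e) / 2)) :=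
    (Commute.refl d).mul_right hwd.symm
  have hwx : Commute (d * (d * e) ^ (orderOf (d * e) / 2)) x :=
    hdx.mul_left ((hdx.mul_left hex).pow_left _)
  refine hx.2 p (h.smul_eq_of_commute hd hp hdx) ⟨d, ⟨⟨hd, hp⟩, hdx⟩, _,
    ⟨⟨hd', h.smul_eq_of_commute hd hp hc⟩, hwx⟩, fun hh => invol_ne_one hw ?_, hc⟩
  exact mul_eq_left.1 hh.symm

/-- What is fixed in the proof. -/
structure Ctx (D : Set G) (Ω : Type u) [MulAction G Ω] (S : Sylow 2 G) (b : Ω) (v z : G) :
    Prop where
  act : Action G Ω D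
  faithful : FaithfulSMul G Ω
  top : closure D = ⊤
  rankOne : IsRankOne D Ω v
  v_mem : v ∈ (S : Subgroup G)
  z_mem : z ∈ (S : Subgroup G)
  z_D : z ∈ D
  z_central : ∀ s ∈ (S : Subgroup G), Commute s z
  fix : ∀ s ∈ (S : Subgroup G), s • b = b

variable {S : Sylow 2 G} {b : Ω} {v z : G}

theorem exists_ctx (h : Action G Ω D) (htop : closure D = ⊤) (hv : IsRankOne D Ω v) :
    ∃ (S : Sylow 2 G) (b : Ω) (z : G), Ctx D Ω S b v z := by
  classical
  haveI : Fact (Nat.Prime 2) := ⟨Nat.prime_two⟩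
  haveI := h.trans
  have hP : IsPGroup 2 (zpowers v) :=
    IsPGroup.of_card (n := 1) (by rw [Nat.card_zpowers, hv.1.invol, pow_one])
  obtain ⟨S, hS⟩ := hP.exists_le_sylow
  obtain ⟨a₀, -⟩ := hv.1.two
  haveI : Finite Ω := Finite.of_surjective (fun g : G => g • a₀) fun x => exists_smul_eq G a₀ x
  -- `Ω` is odd
  obtain ⟨d₀, hd₀⟩ := h.nonempty
  have hodd : ¬ 2 ∣ Nat.card Ω := by
    have hz : IsPGroup 2 (zpowers d₀) :=
      IsPGroup.of_card (n := 1) (by rw [Nat.card_zpowers, h.invol d₀ hd₀, pow_one])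
    have hmod := hz.card_modEq_card_fixedPoints Ω
    obtain ⟨p, hp, hpu⟩ := h.one d₀ hd₀
    have hone : Nat.card (fixedPoints (zpowers d₀) Ω) = 1 := by
      refine Nat.card_eq_one_iff_unique.2 ⟨⟨fun x y => Subtype.ext ?_⟩, ⟨⟨p, fun g => ?_⟩⟩⟩
      · exact (hpu _ (x.2 ⟨d₀, mem_zpowers d₀⟩)).trans (hpu _ (y.2 ⟨d₀, mem_zpowers d₀⟩)).symm
      · have hle : zpowers d₀ ≤ stabilizer G p := zpowers_le.2 hp
        exact hle g.2
    rw [hone] at hmod
    intro hdvd
    have : Nat.card Ω % 2 = 1 % 2 := hmod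
    omega
  obtain ⟨b, hb⟩ := IsPGroup.nonempty_fixed_point_of_prime_not_dvd_card S.2 Ω hodd
  have hfix : ∀ s ∈ (S : Subgroup G), s • b = b := fun s hs => hb ⟨s, hs⟩
  -- a member at `b` centralised by `S`
  let act : MulAction (S : Subgroup G) (memAt G D b) :=
    { smul := fun s d => ⟨(s : G) * d * (s : G)⁻¹, by
        have := h.conj_mem_memAt (g := (s : G)) d.2
        rwa [hfix s s.2] at this⟩
      one_smul := fun d => Subtype.ext (show (1 : G) * d * (1 : G)⁻¹ = d by simp)
      mul_smul := fun s t d => Subtype.ext (show (s : G) * t * d * ((s : G) * t)⁻¹ =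
        (s : G) * ((t : G) * d * (t : G)⁻¹) * (s : G)⁻¹ by group) }
  obtain ⟨⟨z, hz⟩, hzf⟩ := IsPGroup.nonempty_fixed_point_of_prime_not_dvd_card S.2 (memAt G D b)
    (Nat.two_dvd_ne_zero.2 (Nat.odd_iff.1 (h.odd b)))
  have hcen : ∀ s ∈ (S : Subgroup G), Commute s z := fun s hs =>
    mul_inv_eq_iff_eq_mul.1 (congrArg Subtype.val (hzf ⟨s, hs⟩))
  refine ⟨S, b, z, ⟨h, ‹FaithfulSMul G Ω›, htop, hv, hS (mem_zpowers v), ?_, hz.1, hcen, hfix⟩⟩
  have hzp : IsPGroup 2 (zpowers z) :=
    IsPGroup.of_card (n := 1) (by rw [Nat.card_zpowers, h.invol z hz.1, pow_one])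
  have hsup : IsPGroup 2 ↥((S : Subgroup G) ⊔ zpowers z) := by
    refine IsPGroup.to_sup_of_normal_left' S.2 hzp (zpowers_le.2 ?_)
    rw [Subgroup.mem_normalizer_iff]
    intro n
    constructor
    · intro hn
      rwa [← (hcen n hn).eq, mul_inv_cancel_right]
    · intro hn
      have h1 := (hcen _ hn).eq
      rw [inv_mul_cancel_right] at h1
      rwa [← mul_left_cancel h1] at hn
  rw [← S.3 hsup le_sup_left]
  exact mem_sup_right (mem_zpowers z)

variable (C : Ctx D Ω S b v z)
include C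

theorem Ctx.v_ne_mem : v ∉ D := fun hv => C.act.not_bad_of_mem hv C.rankOne.1

/-- A rank one involution of `S` centralises no member of `S` but `z`. -/
theorem Ctx.only_z {x : G} (hx : IsRankOne D Ω x) (hxS : x ∈ (S : Subgroup G)) {d : G}
    (hd : d ∈ D) (hdS : d ∈ (S : Subgroup G)) (hdx : Commute d x) : d = z :=
  uniq C.act S.2 hx hd hdS C.z_D C.z_mem hdx (C.z_central x hxS).symm

/-- No maximal subgroup of `S` containing `z` omits the conjugates of `v`. -/
theorem Ctx.no_max {M : Subgroup G} (hMS : M ≤ S) (hM : M.relIndex S = 2) (hzM : z ∈ M)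
    (hvM : ∀ x, IsRankOne D Ω x → x ∈ M → False) : False := by
  obtain ⟨N, hN, hzN, hvN⟩ := exists_index_two S hMS hM C.rankOne.1.invol
    (C.act.invol z C.z_D) (fun g hg => hvM _ (isRankOne_conj C.act C.rankOne g) hg) C.z_central
    (fun g hg hc => by
      have hmem : g⁻¹ * z * g ∈ D := by simpa using C.act.conj g⁻¹ z C.z_D
      rw [C.only_z C.rankOne C.v_mem hmem hg (hc v C.v_mem).symm]
      exact hzM) C.z_mem
  haveI := normal_of_index_eq_two hN
  have hle : closure D ≤ N := by
    rw [closure_le]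
    intro d hd
    obtain ⟨g, rfl⟩ := isConj_iff.1 (C.act.isConj_mem C.z_D hd)
    exact Subgroup.Normal.conj_mem inferInstance z hzN g
  rw [C.top] at hle
  exact hvN (hle (mem_top v))

/-- No normal four group of members in `S`. -/
theorem Ctx.no_pair {d : G} (hd : d ∈ D) (hdS : d ∈ (S : Subgroup G)) (hne : d ≠ z)
    (hinv : ∀ s ∈ (S : Subgroup G), s * d * s⁻¹ = d ∨ s * d * s⁻¹ = d * z) : False := by
  set M := (S : Subgroup G) ⊓ centralizer ({d} : Set G)
  have hmem : ∀ s, s ∈ M ↔ s ∈ (S : Subgroup G) ∧ Commute s d := fun s =>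
    and_congr_right' mem_centralizer_singleton_iff
  have hxM : ∀ x, IsRankOne D Ω x → x ∈ M → False := fun x hx hxM =>
    hne (C.only_z hx ((hmem x).1 hxM).1 hd hdS ((hmem x).1 hxM).2.symm)
  have hv : v ∉ M := hxM v C.rankOne
  refine C.no_max inf_le_left ?_ ((hmem z).2 ⟨C.z_mem, (C.z_central d hdS).symm⟩) hxM
  rw [relIndex_eq_two_iff]
  refine ⟨v, C.v_mem, fun s hs => ?_⟩
  have hvd : v * d * v⁻¹ = d * z := (hinv v C.v_mem).resolve_left fun h1 =>
    hv ((hmem v).2 ⟨C.v_mem, mul_inv_eq_iff_eq_mul.1 h1⟩)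
  have hzz : z * z = 1 := invol_mul_self (C.act.invol z C.z_D)
  have hkey : s * v * d * (s * v)⁻¹ = s * d * s⁻¹ * z := by
    calc s * v * d * (s * v)⁻¹ = s * (v * d * v⁻¹) * s⁻¹ := by group
      _ = s * d * (z * s⁻¹) := by rw [hvd]; group
      _ = s * d * s⁻¹ * z := by
        rw [← (C.z_central s⁻¹ (inv_mem hs)).eq, ← mul_assoc]
  have hiff : ∀ y ∈ (S : Subgroup G), (y ∈ M ↔ y * d * y⁻¹ = d) := fun y hy => by
    rw [hmem, and_iff_right hy, mul_inv_eq_iff_eq_mul]
    rfl
  have hdz : d * z ≠ d := fun h1 => invol_ne_one (C.act.invol z C.z_D) (mul_eq_left.1 h1)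
  rcases hinv s hs with h1 | h1
  · refine Or.inr ⟨(hiff s hs).2 h1, fun h2 => hdz ?_⟩
    have := (hiff _ (mul_mem hs C.v_mem)).1 h2
    rwa [hkey, h1] at this
  · refine Or.inl ⟨(hiff _ (mul_mem hs C.v_mem)).2 ?_, fun h2 => hdz ?_⟩
    · rw [hkey, h1, mul_assoc, hzz, mul_one]
    · exact h1.symm.trans ((hiff s hs).1 h2)

/-- `z` is not the only member in `S`. -/
theorem Ctx.exists_member : ∃ d, d ∈ D ∧ d ∈ (S : Subgroup G) ∧ d ≠ z := by
  by_contra hall
  push Not at hall
  haveI : Fact (Nat.Prime 2) := ⟨Nat.prime_two⟩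
  have hz2 := C.act.invol z C.z_D
  obtain ⟨N, hN, hodd, hcomm⟩ := ZStar.StronglyClosed.involutionThm G S z hz2 C.z_mem
    fun g hg => hall _ (C.act.conj g z C.z_D) hg
  have hle : closure D ≤ N ⊔ zpowers z := by
    rw [closure_le]
    intro d hd
    obtain ⟨g, rfl⟩ := isConj_iff.1 (C.act.isConj_mem C.z_D hd)
    have : g * z * g⁻¹ = (z * g * z⁻¹ * g⁻¹)⁻¹ * z := by group
    rw [this]
    exact mul_mem (mem_sup_left (N.inv_mem (hcomm g))) (mem_sup_right (mem_zpowers z))
  rw [C.top] at hle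
  have hle2 : (S : Subgroup G) ≤ zpowers z := by
    intro s hs
    have hsm : s ∈ N ⊔ zpowers z := hle (mem_top s)
    haveI := hN
    rw [← SetLike.mem_coe, Subgroup.normal_mul] at hsm
    obtain ⟨n, hn, w, hw, rfl⟩ := Set.mem_mul.1 hsm
    have hnS : n ∈ (S : Subgroup G) := by
      have := mul_mem hs (inv_mem ((zpowers_le.2 C.z_mem) hw))
      rwa [mul_inv_cancel_right] at this
    have hn1 : n = 1 := by
      by_contra hn1
      exact Nat.not_even_iff_odd.2 (hodd.of_dvd_nat (orderOf_dvd_natCard _ hn))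
        (even_orderOf_of_mem S.2 hnS hn1)
    rwa [hn1, one_mul]
  obtain ⟨-, hvz⟩ := invol_unique_zpowers C.rankOne.1.invol (hle2 C.v_mem)
  rw [hz2, show 2 / 2 = 1 from rfl, pow_one] at hvz
  exact C.v_ne_mem (hvz ▸ C.z_D)

/-- An involution `x` with `⟨z, x⟩` normal in `S` and centralised by a member other than `z`. -/
theorem Ctx.no_four_with_member {x : G} (hx : x ∈ (S : Subgroup G)) (hxb : Bad G Ω x)
    (hinv : ∀ s ∈ (S : Subgroup G), s * x * s⁻¹ = x ∨ s * x * s⁻¹ = x * z) {d : G} (hd : d ∈ D)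
    (hdS : d ∈ (S : Subgroup G)) (hne : d ≠ z) (hdx : Commute d x) : False := by
  classical
  haveI := C.faithful
  haveI : Fact (Nat.Prime 2) := ⟨Nat.prime_two⟩
  have hcomm : ∀ e f, e ∈ D → f ∈ D → e ∈ (S : Subgroup G) → f ∈ (S : Subgroup G) →
      Commute e x → Commute f x → Commute e f := fun e f he hf heS hfS hex hfx =>
    commute_of_bad C.act hxb he hf hex hfx S.2 heS hfS
  -- the members of `S` centralising `x`, with `1`
  let W : Subgroup (S : Subgroup G) :=
    { carrier := {s | (s : G) = 1 ∨ ((s : G) ∈ D ∧ Commute (s : G) x)}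
      one_mem' := Or.inl rfl
      mul_mem' := by
        rintro e f (he | ⟨he, hex⟩) (hf | ⟨hf, hfx⟩)
        · exact Or.inl (by simp [he, hf])
        · exact Or.inr (by simp [he, hf, hfx])
        · exact Or.inr (by simp [he, hex, hf])
        · by_cases hef : (e : G) = f
          · exact Or.inl (by simp [hef, invol_mul_self (C.act.invol _ hf)])
          · exact Or.inr ⟨C.act.mul_mem_D he hf hef (hcomm _ _ he hf e.2 f.2 hex hfx),
              hex.mul_left hfx⟩
      inv_mem' := by
        rintro e (he | ⟨he, hex⟩)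
        · exact Or.inl (by simp [he])
        · exact Or.inr (by simp [invol_inv (C.act.invol _ he), he, hex]) }
  haveI hWn : W.Normal := ⟨fun e he s => by
    rcases he with he | ⟨he, hex⟩
    · exact Or.inl (by simp [he])
    · refine Or.inr ⟨C.act.conj _ _ he, ?_⟩
      have hxs : (s : G) * x * (s : G)⁻¹ = x ∨ (s : G) * x * (s : G)⁻¹ = x * z := hinv s s.2
      have h1 : Commute ((s : G) * e * (s : G)⁻¹) ((s : G) * x * (s : G)⁻¹) := by
        simpa using hex.map (MulAut.conj (s : G)).toMonoidHom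
      rcases hxs with h2 | h2
      · rwa [h2] at h1
      · rw [h2] at h1
        have h3 : Commute ((s : G) * e * (s : G)⁻¹) z :=
          C.z_central _ (mul_mem (mul_mem s.2 e.2) (inv_mem s.2))
        have := h1.mul_right h3
        rwa [mul_assoc x, invol_mul_self (C.act.invol z C.z_D), mul_one] at this⟩
  have hzW : (⟨z, C.z_mem⟩ : (S : Subgroup G)) ∈ W := Or.inr ⟨C.z_D, (C.z_central x hx).symm⟩
  have hdW : (⟨d, hdS⟩ : (S : Subgroup G)) ∈ W := Or.inr ⟨hd, hdx⟩
  have h4 : 2 ^ 2 ≤ Nat.card W := by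
    have hz1 := invol_ne_one (C.act.invol z C.z_D)
    have hd1 := invol_ne_one (C.act.invol d hd)
    let f : Fin 4 → W := ![1, ⟨_, hzW⟩, ⟨_, hdW⟩, ⟨_, mul_mem hdW hzW⟩]
    have hf : Function.Injective f := by
      have e1 : d ≠ d * z := fun h1 => hz1 (mul_eq_left.1 h1.symm)
      have e2 : z ≠ d * z := fun h1 => hd1 (mul_eq_right.1 h1.symm)
      have e3 : (1 : G) ≠ d * z := fun h1 => hne (by
        rw [eq_inv_of_mul_eq_one_left h1.symm, invol_inv (C.act.invol z C.z_D)])
      intro i j hij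
      fin_cases i <;> fin_cases j <;>
        first
          | rfl
          | (exfalso
             have hh := congrArg (fun w : W => ((w : (S : Subgroup G)) : G)) hij
             simp only [f, Fin.zero_eta, Fin.mk_one, Fin.reduceFinMk, Matrix.cons_val_zero,
               Matrix.cons_val_one, Matrix.cons_val, OneMemClass.coe_one,
               Subgroup.coe_mul] at hh
             first
               | exact hz1 hh | exact hz1 hh.symm | exact hd1 hh | exact hd1 hh.symm
               | exact hne hh | exact hne hh.symm | exact e1 hh | exact e1 hh.symm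
               | exact e2 hh | exact e2 hh.symm | exact e3 hh | exact e3 hh.symm)
    simpa using Nat.card_le_card_of_injective f hf
  obtain ⟨V, hVn, hVW, hV4⟩ := PGroups.exists_normal_le_card (p := 2) S.2 W h4
  haveI := hVn
  obtain ⟨V1, hV1n, hV1, hV1c⟩ := PGroups.exists_normal_le_card (p := 2) S.2 V (k := 1)
    (by rw [hV4]; norm_num)
  have hV1z := PGroups.le_center_of_normal_card_prime (p := 2) S.2 V1 (by rw [hV1c, pow_one])
  obtain ⟨⟨c, hc⟩, hc1⟩ := (V1.ne_bot_iff_exists_ne_one).1 fun h1 => by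
    rw [h1, card_bot] at hV1c
    norm_num at hV1c
  have hzV : (⟨z, C.z_mem⟩ : (S : Subgroup G)) ∈ V := by
    rcases hVW (hV1 hc) with h1 | ⟨hcD, -⟩
    · exact absurd (Subtype.ext (Subtype.ext h1)) hc1
    · have hcv : Commute (c : G) v :=
        (congrArg Subtype.val (Subgroup.mem_center_iff.1 (hV1z hc) ⟨v, C.v_mem⟩)).symm
      have := C.only_z C.rankOne C.v_mem hcD c.2 hcv
      rw [show (⟨z, C.z_mem⟩ : (S : Subgroup G)) = c from Subtype.ext this.symm]
      exact hV1 hc
  obtain ⟨e, heV, he1, hez⟩ : ∃ e ∈ V, e ≠ 1 ∧ e ≠ ⟨z, C.z_mem⟩ := by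
    by_contra hno
    push Not at hno
    have : Nat.card V ≤ 2 := by
      refine le_trans (Nat.card_le_card_of_injective
        (fun w : V => decide ((w : (S : Subgroup G)) = 1)) ?_) (by simp)
      intro w w' hww
      by_cases hw : (w : (S : Subgroup G)) = 1
      · simp only [hw, decide_true] at hww
        exact Subtype.ext (hw.trans (of_decide_eq_true hww.symm).symm)
      · simp only [hw, decide_false] at hww
        have hw' := of_decide_eq_false hww.symm
        exact Subtype.ext ((hno _ w.2 hw).trans (hno _ w'.2 hw').symm)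
    omega
  obtain ⟨heD, hex⟩ := (hVW heV).resolve_left fun h1 => he1 (Subtype.ext h1)
  have hez' : (e : G) ≠ z := fun h1 => hez (Subtype.ext h1)
  refine C.no_pair heD e.2 hez' fun s hs => ?_
  have hmem := hVn.conj_mem e heV ⟨s, hs⟩
  -- `V` is `{1, z, e, e z}`
  by_contra hno
  push Not at hno
  let f : Fin 5 → V := ![1, ⟨_, hzV⟩, ⟨e, heV⟩, ⟨_, mul_mem heV hzV⟩, ⟨_, hmem⟩]
  have hz1 := invol_ne_one (C.act.invol z C.z_D)
  have he1' : (e : G) ≠ 1 := fun h1 => he1 (Subtype.ext h1)
  have hse1 : s * e * s⁻¹ ≠ 1 := fun h1 => he1' (by simpa using h1)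
  have hsez : s * e * s⁻¹ ≠ z := fun h1 => hez' (by
    calc (e : G) = s⁻¹ * (s * e * s⁻¹) * s := by group
      _ = s⁻¹ * (z * s) := by rw [h1, mul_assoc]
      _ = z := by rw [← (C.z_central s hs).eq, inv_mul_cancel_left])
  have e1 : (e : G) ≠ e * z := fun h1 => hz1 (mul_eq_left.1 h1.symm)
  have e2 : z ≠ e * z := fun h1 => he1' (mul_eq_right.1 h1.symm)
  have e3 : (1 : G) ≠ e * z := fun h1 => hez' (by
    rw [eq_inv_of_mul_eq_one_left h1.symm, invol_inv (C.act.invol z C.z_D)])
  have hf : Function.Injective f := by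
    intro i j hij
    fin_cases i <;> fin_cases j <;>
      first
        | rfl
        | (exfalso
           have hh := congrArg (fun w : V => ((w : (S : Subgroup G)) : G)) hij
           simp only [f, Fin.zero_eta, Fin.mk_one, Fin.reduceFinMk, Matrix.cons_val_zero,
             Matrix.cons_val_one, Matrix.cons_val, OneMemClass.coe_one, Subgroup.coe_mul,
             Subgroup.coe_inv] at hh
           first
             | exact hz1 hh | exact hz1 hh.symm | exact he1' hh | exact he1' hh.symm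
             | exact hez' hh | exact hez' hh.symm | exact e1 hh | exact e1 hh.symm
             | exact e2 hh | exact e2 hh.symm | exact e3 hh | exact e3 hh.symm
             | exact hse1 hh | exact hse1 hh.symm | exact hsez hh | exact hsez hh.symm
             | exact hno.1 hh | exact hno.1 hh.symm | exact hno.2 hh | exact hno.2 hh.symm)
  have := Nat.card_le_card_of_injective f hf
  rw [Nat.card_fin, hV4] at this
  omega

/-- An involution `x` with `⟨z, x⟩` normal in `S`, inverted into `x z` by every other member. -/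
theorem Ctx.no_four_without_member {x : G} (hx : x ∈ (S : Subgroup G))
    (hinv : ∀ s ∈ (S : Subgroup G), s * x * s⁻¹ = x ∨ s * x * s⁻¹ = x * z)
    (hx2 : orderOf x = 2)
    (honly : ∀ e ∈ D, e ∈ (S : Subgroup G) → Commute e x → e = z) : False := by
  classical
  haveI := C.faithful
  haveI : Fact (Nat.Prime 2) := ⟨Nat.prime_two⟩
  obtain ⟨d, hd, hdS, hne⟩ := C.exists_member
  have hzz : z * z = 1 := invol_mul_self (C.act.invol z C.z_D)
  have hxx : x * x = 1 := invol_mul_self hx2
  have hdd : d * d = 1 := invol_mul_self (C.act.invol d hd)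
  have hflip : ∀ e ∈ D, e ∈ (S : Subgroup G) → e ≠ z → e * x * e⁻¹ = x * z :=
    fun e he heS hez => (hinv e heS).resolve_left fun h1 =>
      hez (honly e he heS (mul_inv_eq_iff_eq_mul.1 h1))
  -- members centralising `d`
  have hC : ∀ e ∈ D, e ∈ (S : Subgroup G) → Commute e d → e = z ∨ e = d ∨ e = d * z := by
    intro e he heS hed
    by_cases hez : e = z
    · exact Or.inl hez
    by_cases hed' : e = d
    · exact Or.inr (Or.inl hed')
    refine Or.inr (Or.inr ?_)
    have hmem : e * d ∈ D := C.act.mul_mem_D he hd hed' hed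
    have hcomm : Commute (e * d) x := by
      refine mul_inv_eq_iff_eq_mul.1 ?_
      calc e * d * x * (e * d)⁻¹ = e * (d * x * d⁻¹) * e⁻¹ := by group
        _ = e * x * e⁻¹ * (e * z * e⁻¹) := by rw [hflip d hd hdS hne]; group
        _ = x * z * z := by
          rw [hflip e he heS hez, (C.z_central e heS).eq, mul_inv_cancel_right]
        _ = x := by rw [mul_assoc, hzz, mul_one]
    have h1 := honly _ hmem (mul_mem heS hdS) hcomm
    rw [← (C.z_central d hdS).eq.symm] at *
    calc e = e * d * d := by rw [mul_assoc, hdd, mul_one]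
      _ = z * d := by rw [h1]
  -- `z` is not the square of an element of `S` centralising `d`
  have hsq : ∀ c ∈ (S : Subgroup G), Commute c d → c * c ≠ z := by
    intro c hc hcd hcz
    obtain ⟨g₀, hg₀⟩ := isConj_iff.1 (C.act.isConj_mem hd C.z_D)
    set Z := centralizer ({z} : Set G)
    have hSZ : (S : Subgroup G) ≤ Z := fun s hs =>
      mem_centralizer_singleton_iff.2 (C.z_central s hs).eq
    set K := ((S : Subgroup G) ⊓ centralizer ({d} : Set G)).map (MulAut.conj g₀).toMonoidHom
    have hKZ : K ≤ Z := by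
      rintro y ⟨k, hk, rfl⟩
      refine mem_centralizer_singleton_iff.2 ?_
      rw [← hg₀]
      show MulAut.conj g₀ k * MulAut.conj g₀ d = MulAut.conj g₀ d * MulAut.conj g₀ k
      rw [← map_mul, ← map_mul, mem_centralizer_singleton_iff.1 hk.2]
    obtain ⟨m, hm, hle⟩ := Involutions.StronglyEmbedded.exists_conj_le_sylow (H := Z)
      (S.subtype hSZ) (W := K) ((S.2.to_le inf_le_left).map _) hKZ
    set g := m * g₀
    have hgS : ∀ k ∈ (S : Subgroup G) ⊓ centralizer ({d} : Set G),
        g * k * g⁻¹ ∈ (S : Subgroup G) := by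
      intro k hk
      obtain ⟨y, hy, hye⟩ := hle (mem_map_of_mem _ (mem_map_of_mem _ hk))
      have hye' : (y : G) = m * (g₀ * k * g₀⁻¹) * m⁻¹ := hye
      have : g * k * g⁻¹ = (y : G) := by rw [hye', show g = m * g₀ from rfl]; group
      rw [this]
      exact hy
    have hgd : g * d * g⁻¹ = z := by
      calc g * d * g⁻¹ = m * (g₀ * d * g₀⁻¹) * m⁻¹ := by simp only [g]; group
        _ = z := by rw [hg₀, mem_centralizer_singleton_iff.1 hm, mul_inv_cancel_right]
    have hzK : z ∈ (S : Subgroup G) ⊓ centralizer ({d} : Set G) :=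
      ⟨C.z_mem, mem_centralizer_singleton_iff.2 (C.z_central d hdS).eq.symm⟩
    have hc' := hgS c ⟨hc, mem_centralizer_singleton_iff.2 hcd.eq⟩
    have hz' := hgS z hzK
    have hcomm : Commute (g * z * g⁻¹) x := by
      refine mul_inv_eq_iff_eq_mul.1 ?_
      set w := g * c * g⁻¹
      have hw : g * z * g⁻¹ = w * w := by simp only [w]; rw [← hcz]; group
      rw [hw, show w * w * x * (w * w)⁻¹ = w * (w * x * w⁻¹) * w⁻¹ by group]
      rcases hinv w hc' with h1 | h1
      · rw [h1, h1]
      · rw [h1, show w * (x * z) * w⁻¹ = w * x * w⁻¹ * (w * z * w⁻¹) by group, h1,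
          (C.z_central w hc').eq, mul_inv_cancel_right, mul_assoc, hzz, mul_one]
    have h1 := honly _ (C.act.conj g z C.z_D) hz' hcomm
    exact hne (by simpa using hgd.trans h1.symm)
  -- the stabiliser of the pair
  let N : Subgroup G :=
    { carrier := {s | s ∈ (S : Subgroup G) ∧ (s * d * s⁻¹ = d ∨ s * d * s⁻¹ = d * z)}
      one_mem' := ⟨one_mem _, Or.inl (by simp)⟩
      mul_mem' := by
        rintro s t ⟨hs, hsd⟩ ⟨ht, htd⟩
        refine ⟨mul_mem hs ht, ?_⟩
        rw [show s * t * d * (s * t)⁻¹ = s * (t * d * t⁻¹) * s⁻¹ by group]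
        rcases htd with h1 | h1 <;> rw [h1]
        · exact hsd
        · rw [show s * (d * z) * s⁻¹ = s * d * s⁻¹ * (s * z * s⁻¹) by group,
            (C.z_central s hs).eq, mul_inv_cancel_right]
          rcases hsd with h2 | h2 <;> rw [h2]
          · exact Or.inr rfl
          · exact Or.inl (by rw [mul_assoc, hzz, mul_one])
      inv_mem' := by
        rintro s ⟨hs, hsd⟩
        refine ⟨inv_mem hs, ?_⟩
        rcases hsd with h1 | h1
        · left
          calc s⁻¹ * d * s⁻¹⁻¹ = s⁻¹ * (s * d * s⁻¹) * s := by rw [h1, inv_inv]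
            _ = d := by group
        · right
          have h2 : s⁻¹ * (d * z) * s = d := by rw [← h1]; group
          calc s⁻¹ * d * s⁻¹⁻¹ = s⁻¹ * (d * z * z) * s := by
                rw [inv_inv, mul_assoc d, hzz, mul_one]
            _ = s⁻¹ * (d * z) * (z * s) := by group
            _ = s⁻¹ * (d * z) * s * z := by rw [← (C.z_central s hs).eq]; group
            _ = d * z := by rw [h2] }
  have hNS : N ≤ (S : Subgroup G) := fun s hs => hs.1
  by_cases hN : N = (S : Subgroup G)
  · refine C.no_pair hd hdS hne fun s hs => ?_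
    rw [← hN] at hs
    exact hs.2
  haveI := S.2.isNilpotent
  have hlt := Involutions.StronglyEmbedded.lt_inf_normalizer (X := N) (P := (S : Subgroup G))
    (lt_of_le_of_ne hNS hN)
  obtain ⟨s, hs, hsN⟩ := SetLike.exists_of_lt hlt
  have hsS : s ∈ (S : Subgroup G) := hs.1
  refine hsN ⟨hsS, ?_⟩
  set e := s * d * s⁻¹ with he
  have heD : e ∈ D := C.act.conj s d hd
  have heN : e ∈ N := (Subgroup.mem_normalizer_iff.1 hs.2 d).1 ⟨hdS, Or.inl (by simp)⟩
  have hez : e ≠ z := fun h1 => hne (by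
    calc d = s⁻¹ * e * s := by rw [he]; group
      _ = s⁻¹ * (z * s) := by rw [h1, mul_assoc]
      _ = z := by rw [← (C.z_central s hsS).eq, inv_mul_cancel_left])
  clear_value e
  rcases heN.2 with h1 | h1
  · rcases hC e heD heN.1 (mul_inv_eq_iff_eq_mul.1 h1) with h2 | h2 | h2
    · exact absurd h2 hez
    · exact Or.inl h2
    · exact Or.inr h2
  exfalso
  have hee := invol_mul_self (C.act.invol e heD)
  have h1' : e * d * e = d * z := by rwa [invol_inv (C.act.invol e heD)] at h1
  have hdxd : d * x * d⁻¹ = x * z := hflip d hd hdS hne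
  have hexe : e * x * e⁻¹ = x * z := hflip e heD heN.1 hez
  have hzd : z * d = d * z := (C.z_central d hdS).eq.symm
  -- `c = d e x`
  have hdex : Commute (d * e) x := by
    refine mul_inv_eq_iff_eq_mul.1 ?_
    rw [show d * e * x * (d * e)⁻¹ = d * (e * x * e⁻¹) * d⁻¹ by group, hexe,
      show d * (x * z) * d⁻¹ = d * x * d⁻¹ * (d * z * d⁻¹) by group, hdxd,
      (C.z_central d hdS).eq, mul_inv_cancel_right, mul_assoc, hzz, mul_one]
  have hde2 : d * e * (d * e) = z := by
    rw [show d * e * (d * e) = d * (e * d * e) by group, h1', ← mul_assoc, hdd, one_mul]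
  refine hsq (d * e * x) (mul_mem (mul_mem hdS heN.1) hx) ?_ ?_
  · have hxd : x * d = d * z * x := by
      calc x * d = d * (d * x * d⁻¹) := by
            rw [invol_inv (C.act.invol d hd), ← mul_assoc d, ← mul_assoc d, hdd, one_mul]
        _ = d * (x * z) := by rw [hdxd]
        _ = d * z * x := by rw [(C.z_central x hx).eq, mul_assoc]
    have hed : e * d = d * z * e := by
      calc e * d = e * d * e * e := by rw [mul_assoc, hee, mul_one]
        _ = d * z * e := by rw [h1']
    show d * e * x * d = d * (d * e * x)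
    calc d * e * x * d = d * e * (x * d) := by group
      _ = d * (e * d) * (z * x) := by rw [hxd]; group
      _ = d * (d * z * e) * (z * x) := by rw [hed]
      _ = d * d * (z * e * z) * x := by group
      _ = d * (d * e * x) := by
        rw [← (C.z_central e heN.1).eq, mul_assoc e, hzz, mul_one]; group
  · calc d * e * x * (d * e * x) = d * e * (x * (d * e)) * x := by group
      _ = d * e * (d * e * x) * x := by rw [hdex.eq]
      _ = d * e * (d * e) * (x * x) := by group
      _ = z := by rw [hxx, mul_one, hde2]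

/-- `S` has no normal four group. -/
theorem Ctx.no_normal_four {U : Subgroup (S : Subgroup G)} [U.Normal]
    (hU : Cfsg.IsElementaryAbelian 2 U) (hU4 : Nat.card U = 2 ^ 2) : False := by
  classical
  haveI := C.faithful
  haveI : Fact (Nat.Prime 2) := ⟨Nat.prime_two⟩
  have hzz : z * z = 1 := invol_mul_self (C.act.invol z C.z_D)
  obtain ⟨U1, hU1n, hU1, hU1c⟩ := PGroups.exists_normal_le_card (p := 2) S.2 U (k := 1)
    (by rw [hU4]; norm_num)
  have hU1z := PGroups.le_center_of_normal_card_prime (p := 2) S.2 U1 (by rw [hU1c, pow_one])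
  obtain ⟨⟨c, hc⟩, hc1⟩ := (U1.ne_bot_iff_exists_ne_one).1 fun h1 => by
    rw [h1, card_bot] at hU1c
    norm_num at hU1c
  have hccen : ∀ s ∈ (S : Subgroup G), Commute s (c : G) := fun s hs =>
    congrArg Subtype.val (Subgroup.mem_center_iff.1 (hU1z hc) ⟨s, hs⟩)
  obtain ⟨x, hxU, hx1, hxz, hinv⟩ : ∃ x : (S : Subgroup G), x ∈ U ∧ x ≠ 1 ∧ (x : G) ≠ z ∧
      ∀ s ∈ (S : Subgroup G), s * x * s⁻¹ = x ∨ s * x * s⁻¹ = (x : G) * z := by
    by_cases hcz : (c : G) = z
    swap
    · exact ⟨c, hU1 hc, fun h1 => hc1 (Subtype.ext h1), hcz, fun s hs => Or.inl (by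
        rw [(hccen s hs).eq, mul_inv_cancel_right])⟩
    have hzU : (⟨z, C.z_mem⟩ : (S : Subgroup G)) ∈ U := by
      rw [show (⟨z, C.z_mem⟩ : (S : Subgroup G)) = c from Subtype.ext hcz.symm]
      exact hU1 hc
    obtain ⟨x, hxU, hx1, hxz⟩ : ∃ x ∈ U, x ≠ 1 ∧ x ≠ ⟨z, C.z_mem⟩ := by
      by_contra hno
      push Not at hno
      have : Nat.card U ≤ 2 := by
        refine le_trans (Nat.card_le_card_of_injective
          (fun w : U => decide ((w : (S : Subgroup G)) = 1)) ?_) (by simp)
        intro w w' hww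
        by_cases hw : (w : (S : Subgroup G)) = 1
        · simp only [hw, decide_true] at hww
          exact Subtype.ext (hw.trans (of_decide_eq_true hww.symm).symm)
        · simp only [hw, decide_false] at hww
          have hw' := of_decide_eq_false hww.symm
          exact Subtype.ext ((hno _ w.2 hw).trans (hno _ w'.2 hw').symm)
      omega
    have hxz' : (x : G) ≠ z := fun h1 => hxz (Subtype.ext h1)
    refine ⟨x, hxU, hx1, hxz', fun s hs => ?_⟩
    by_contra hno
    push Not at hno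
    have hmem := ‹U.Normal›.conj_mem x hxU ⟨s, hs⟩
    let f : Fin 5 → U := ![1, ⟨_, hzU⟩, ⟨x, hxU⟩, ⟨_, mul_mem hxU hzU⟩, ⟨_, hmem⟩]
    have hz1 := invol_ne_one (C.act.invol z C.z_D)
    have hx1' : (x : G) ≠ 1 := fun h1 => hx1 (Subtype.ext h1)
    have hsx1 : s * x * s⁻¹ ≠ 1 := fun h1 => hx1' (by simpa using h1)
    have hsxz : s * x * s⁻¹ ≠ z := fun h1 => hxz' (by
      calc (x : G) = s⁻¹ * (s * x * s⁻¹) * s := by group
        _ = s⁻¹ * (z * s) := by rw [h1, mul_assoc]
        _ = z := by rw [← (C.z_central s hs).eq, inv_mul_cancel_left])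
    have e1 : (x : G) ≠ x * z := fun h1 => hz1 (mul_eq_left.1 h1.symm)
    have e2 : z ≠ x * z := fun h1 => hx1' (mul_eq_right.1 h1.symm)
    have e3 : (1 : G) ≠ x * z := fun h1 => hxz' (by
      rw [eq_inv_of_mul_eq_one_left h1.symm, invol_inv (C.act.invol z C.z_D)])
    have hf : Function.Injective f := by
      intro i j hij
      fin_cases i <;> fin_cases j <;>
        first
          | rfl
          | (exfalso
             have hh := congrArg (fun w : U => ((w : (S : Subgroup G)) : G)) hij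
             simp only [f, Fin.zero_eta, Fin.mk_one, Fin.reduceFinMk, Matrix.cons_val_zero,
               Matrix.cons_val_one, Matrix.cons_val, OneMemClass.coe_one, Subgroup.coe_mul,
               Subgroup.coe_inv] at hh
             first
               | exact hz1 hh | exact hz1 hh.symm | exact hx1' hh | exact hx1' hh.symm
               | exact hxz' hh | exact hxz' hh.symm | exact e1 hh | exact e1 hh.symm
               | exact e2 hh | exact e2 hh.symm | exact e3 hh | exact e3 hh.symm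
               | exact hsx1 hh | exact hsx1 hh.symm | exact hsxz hh | exact hsxz hh.symm
               | exact hno.1 hh | exact hno.1 hh.symm | exact hno.2 hh | exact hno.2 hh.symm)
    have := Nat.card_le_card_of_injective f hf
    rw [Nat.card_fin, hU4] at this
    omega
  have hx2 : orderOf (x : G) = 2 := by
    rw [orderOf_coe]
    exact orderOf_eq_prime (PGroups.elemAb_pow hU hxU) hx1
  rcases C.act.mem_or_bad hx2 (a := b) (C.fix x x.2) with hxD | hxB
  · exact C.no_pair hxD x.2 hxz hinv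
  by_cases hex : ∃ d ∈ D, d ∈ (S : Subgroup G) ∧ d ≠ z ∧ Commute d (x : G)
  · obtain ⟨d, hd, hdS, hne, hdx⟩ := hex
    exact C.no_four_with_member x.2 hxB hinv hd hdS hne hdx
  · refine C.no_four_without_member x.2 hinv hx2 fun e he heS hex' => ?_
    by_contra hne
    exact hex ⟨e, he, heS, hne, hex'⟩

theorem Ctx.false : False := by
  classical
  haveI := C.faithful
  haveI : Fact (Nat.Prime 2) := ⟨Nat.prime_two⟩
  by_cases hfour : ∃ E : Subgroup (S : Subgroup G),
      E.Normal ∧ Cfsg.IsElementaryAbelian 2 E ∧ Nat.card E = 2 ^ 2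
  · obtain ⟨E, hE, hE2, hE4⟩ := hfour
    exact C.no_normal_four hE2 hE4
  obtain ⟨d, hd, hdS, hne⟩ := C.exists_member
  set t : (S : Subgroup G) := ⟨d, hdS⟩
  have htc : t ∉ Subgroup.center (S : Subgroup G) := fun ht => hne
    (C.only_z C.rankOne C.v_mem hd hdS
      (congrArg Subtype.val (Subgroup.mem_center_iff.1 ht ⟨v, C.v_mem⟩)).symm)
  have ht2 : t * t = 1 := Subtype.ext (invol_mul_self (C.act.invol d hd))
  obtain ⟨a, n, hn, ha, hta, -, hdec, hact⟩ :=
    HalfTransitive.dihedral_or_semidihedral S.2 hfour ht2 htc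
  set w : (S : Subgroup G) := a ^ 2 ^ n with hw
  -- `z` is the involution of `⟨a⟩`
  have hwa : ∀ y : (S : Subgroup G), y ∈ zpowers a → orderOf y = 2 → y = w := by
    intro y hy hy2
    rw [(invol_unique_zpowers hy2 hy).2, ha, hw, pow_succ, Nat.mul_div_cancel _ two_pos]
  set zS : (S : Subgroup G) := ⟨z, C.z_mem⟩
  have hzS2 : orderOf zS = 2 := by rw [← orderOf_coe]; exact C.act.invol z C.z_D
  have hzSc : ∀ y : (S : Subgroup G), y * zS = zS * y := fun y =>
    Subtype.ext (C.z_central y y.2).eq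
  have hzmem : zS ∈ zpowers a := by
    rcases hdec zS with h1 | h1
    · exact h1
    exfalso
    refine hta ?_
    obtain ⟨k, hk⟩ := mem_zpowers_iff.1 h1
    have hzt : orderOf (zS * t) = 2 := invol_iff.2 ⟨by
      calc zS * t * (zS * t) = zS * (t * zS) * t := by group
        _ = zS * zS * (t * t) := by rw [hzSc t]; group
        _ = 1 := by rw [invol_mul_self hzS2, ht2, one_mul], fun h2 => hne
      (congrArg Subtype.val (eq_inv_of_mul_eq_one_left h2) |>.trans (by
        show (t⁻¹ : (S : Subgroup G)).1 = d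
        rw [inv_eq_of_mul_eq_one_right ht2])).symm⟩
    have hwt : zS * t = w := hwa _ h1 hzt
    -- `t` would be central
    have hte : t = zS * w := by rw [← hwt, ← mul_assoc, invol_mul_self hzS2, one_mul]
    have hta' : Commute t a := by
      rw [hte]
      exact Commute.mul_left (hzSc a).symm ((Commute.refl a).pow_left _)
    refine absurd (Subgroup.mem_center_iff.2 fun y => ?_) htc
    rcases hdec y with h2 | h2
    · obtain ⟨i, rfl⟩ := mem_zpowers_iff.1 h2
      exact (hta'.zpow_right i).eq.symm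
    · obtain ⟨i, hi⟩ := mem_zpowers_iff.1 h2
      have hy : y = a ^ i * t := by rw [hi, mul_assoc, ht2, mul_one]
      rw [hy]
      exact (Commute.mul_right (hta'.zpow_right i) (Commute.refl t)).eq.symm
  have hzw : zS = w := hwa _ hzmem hzS2
  -- conjugates of `t`
  have hconj : ∀ j : ℤ, ((a ^ (2 * j) * t : (S : Subgroup G)) : G) ∈ D := by
    have hgen : ∀ k : ℤ, ((a ^ k * t * (a ^ k)⁻¹ : (S : Subgroup G)) : G) ∈ D := fun k => by
      simpa using C.act.conj ((a ^ k : (S : Subgroup G)) : G) d hd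
    intro j
    have key : ∀ k r : ℤ, t * a * t⁻¹ = a ^ r →
        a ^ k * t * (a ^ k)⁻¹ = a ^ (k - r * k) * t := fun k r hr => by
      have h2 : t * (a ^ k)⁻¹ = (a ^ (r * k))⁻¹ * t := by
        rw [zpow_mul, ← hr, conj_zpow]
        group
      rw [mul_assoc, h2, ← mul_assoc, ← zpow_neg, ← zpow_add, ← sub_eq_add_neg]
    rcases hact with h3 | ⟨hn2, h3⟩
    · have := hgen j
      rw [key j (-1) (by rw [h3, zpow_neg_one]), show j - -1 * j = 2 * j by ring] at this
      exact this
    · obtain ⟨m, hm⟩ : ∃ m : ℕ, n = m + 2 := ⟨n - 2, by omega⟩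
      have := hgen (j * (1 + 2 ^ (m + 1)))
      rw [key _ _ h3] at this
      have he : a ^ (j * (1 + 2 ^ (m + 1)) - ((2 : ℤ) ^ n - 1) * (j * (1 + 2 ^ (m + 1))))
          = a ^ (2 * j) := by
        rw [← mul_inv_eq_one, ← zpow_neg, ← zpow_add, ← orderOf_dvd_iff_zpow_eq_one, ha, hm]
        refine ⟨-(j * 2 ^ m), ?_⟩
        push_cast
        ring
      rwa [he] at this
  -- the subgroup `⟨a², t⟩`
  let M' : Subgroup (S : Subgroup G) := zpowers (a ^ (2 : ℤ)) ⊔ zpowers t
  have hnt : zpowers t ≤ normalizer (zpowers (a ^ (2 : ℤ)) : Set (S : Subgroup G)) := by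
    refine zpowers_le.2 (Subgroup.mem_normalizer_iff.2 fun y => ?_)
    have hfwd : ∀ y ∈ zpowers (a ^ (2 : ℤ)), t * y * t⁻¹ ∈ zpowers (a ^ (2 : ℤ)) := by
      rintro y ⟨j, rfl⟩
      refine mem_zpowers_iff.2 ?_
      rcases hact with h3 | ⟨-, h3⟩
      · exact ⟨-j, by simp only []; rw [← conj_zpow, ← conj_zpow, h3]; group⟩
      · exact ⟨((2 : ℤ) ^ n - 1) * j, by
          simp only []; rw [← conj_zpow, ← conj_zpow, h3, ← zpow_mul, ← zpow_mul, ← zpow_mul]
          ring_nf⟩
    refine ⟨hfwd y, fun hy => ?_⟩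
    have := hfwd _ hy
    rwa [show t * (t * y * t⁻¹) * t⁻¹ = t * t * y * (t * t)⁻¹ by group, ht2, one_mul, inv_one,
      mul_one] at this
  have hM' : ∀ y, y ∈ M' ↔ ∃ j : ℤ, y = a ^ (2 * j) ∨ y = a ^ (2 * j) * t := by
    intro y
    rw [← SetLike.mem_coe, Subgroup.coe_mul_of_right_le_normalizer_left _ _ hnt, Set.mem_mul]
    constructor
    · rintro ⟨p, ⟨j, rfl⟩, q, ⟨i, rfl⟩, rfl⟩
      simp only []
      rcases Int.even_or_odd i with ⟨i', rfl⟩ | ⟨i', rfl⟩
      · exact ⟨j, Or.inl (by
          rw [← two_mul, zpow_mul t, show t ^ (2 : ℤ) = 1 by rw [zpow_two, ht2], one_zpow, mul_one,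
            ← zpow_mul])⟩
      · exact ⟨j, Or.inr (by
          rw [zpow_add, zpow_mul t, show t ^ (2 : ℤ) = 1 by rw [zpow_two, ht2], one_zpow, one_mul,
            zpow_one, ← zpow_mul])⟩
    · rintro ⟨j, rfl | rfl⟩
      · exact ⟨_, ⟨j, rfl⟩, 1, ⟨0, zpow_zero t⟩, by simp [zpow_mul]⟩
      · exact ⟨_, ⟨j, rfl⟩, t, ⟨1, zpow_one t⟩, by simp [zpow_mul]⟩
  have hodd : ∀ i : ℤ, ¬ (2 : ℤ) ∣ i → a ^ i ∉ M' ∧ a ^ i * t ∉ M' := by
    intro i hi
    have hne2 : ∀ j : ℤ, a ^ i ≠ a ^ (2 * j) := fun j h1 => by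
      have h2 : a ^ (i - 2 * j) = 1 := by rw [zpow_sub, h1, mul_inv_cancel]
      refine hi ?_
      have h3 : (2 : ℤ) ∣ i - 2 * j := by
        refine dvd_trans ?_ (orderOf_dvd_iff_zpow_eq_one.2 h2)
        rw [ha]
        exact ⟨2 ^ n, by push_cast; ring⟩
      simpa using dvd_add h3 (dvd_mul_right 2 j)
    have hnt2 : ∀ p q : ℤ, a ^ p ≠ a ^ q * t := fun p q h1 => hta (by
      rw [show t = (a ^ q)⁻¹ * (a ^ q * t) by group, ← h1]
      exact mul_mem (inv_mem (zpow_mem (mem_zpowers a) q)) (zpow_mem (mem_zpowers a) p))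
    constructor <;> rw [hM'] <;> rintro ⟨j, h1 | h1⟩
    · exact hne2 j h1
    · exact hnt2 _ _ h1
    · exact hnt2 _ _ h1.symm
    · exact hne2 j (mul_right_cancel h1)
  have hev : ∀ j : ℤ, a ^ (2 * j) ∈ M' ∧ a ^ (2 * j) * t ∈ M' := fun j =>
    ⟨(hM' _).2 ⟨j, Or.inl rfl⟩, (hM' _).2 ⟨j, Or.inr rfl⟩⟩
  have hidx : M'.index = 2 := by
    rw [index_eq_two_iff']
    refine ⟨a, fun y => ?_⟩
    rcases hdec y with h1 | h1 <;> obtain ⟨i, hi⟩ := mem_zpowers_iff.1 h1
    · subst hi
      rw [← zpow_one_add]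
      by_cases hi2 : (2 : ℤ) ∣ i
      · obtain ⟨j, rfl⟩ := hi2
        exact Or.inr ⟨(hev j).1, (hodd _ (by omega)).1⟩
      · obtain ⟨j, hj⟩ : (2 : ℤ) ∣ 1 + i := by omega
        exact Or.inl ⟨hj ▸ (hev j).1, (hodd i hi2).1⟩
    · have hy : y = a ^ i * t := by rw [hi, mul_assoc, ht2, mul_one]
      subst hy
      rw [← mul_assoc, ← zpow_one_add]
      by_cases hi2 : (2 : ℤ) ∣ i
      · obtain ⟨j, rfl⟩ := hi2
        exact Or.inr ⟨(hev j).2, (hodd _ (by omega)).2⟩
      · obtain ⟨j, hj⟩ : (2 : ℤ) ∣ 1 + i := by omega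
        exact Or.inl ⟨hj ▸ (hev j).2, (hodd i hi2).2⟩
  refine C.no_max (M := M'.map (S : Subgroup G).subtype) (map_subtype_le _) ?_ ?_ ?_
  · show ((M'.map (S : Subgroup G).subtype).subgroupOf S).index = 2
    rw [Subgroup.subgroupOf, comap_map_eq_self_of_injective (S : Subgroup G).subtype_injective]
    exact hidx
  · obtain ⟨m, rfl⟩ : ∃ m, n = m + 1 := ⟨n - 1, by omega⟩
    refine ⟨zS, ?_, rfl⟩
    rw [SetLike.mem_coe, hzw, hw, ← zpow_natCast]
    have : ((2 ^ (m + 1) : ℕ) : ℤ) = 2 * 2 ^ m := by push_cast; ring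
    rw [this]
    exact (hev _).1
  · rintro x hx ⟨y, hy, rfl⟩
    rcases (hM' y).1 hy with ⟨j, rfl | rfl⟩
    · have hy2 : orderOf (a ^ (2 * j)) = 2 := by rw [← orderOf_coe]; exact hx.1.invol
      have : a ^ (2 * j) = zS :=
        (hwa _ (zpow_mem (mem_zpowers a) _) hy2).trans hzw.symm
      exact C.act.not_bad_of_mem C.z_D (by rw [this] at hx; exact hx.1)
    · exact C.act.not_bad_of_mem (hconj j) hx.1

end Cfsg.Agent.Lib.Crit5.RankOne

namespace Cfsg.Agent.Lib.Crit5

universe u

/-- Section R. -/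
theorem propRankOne : PropRankOne.{u} := by
  intro X _ _ Δ _ E hM x a hx ha
  haveI := hM.faithful
  by_contra hno
  have hr : RankOne.IsRankOne E Δ x :=
    ⟨hx, fun p _ hf => hno (RankOne.fourAt_transfer hM.act hx ha hf)⟩
  obtain ⟨S, b, z, hC⟩ := RankOne.exists_ctx hM.act hM.top hr
  exact hC.false

end Cfsg.Agent.Lib.Crit5
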