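import Cfsg.Agent.Lib.Crit5.Induct
import Cfsg.Agent.Lib.Crit5.Full
import Cfsg.Agent.Lib.Crit5.Central
import Cfsg.Agent.Lib.Crit5.FixShape
import Cfsg.Agent.Lib.Crit5.RankOne
import Cfsg.Agent.Lib.Crit5.KillOne
import Cfsg.Agent.Lib.Crit5.KillThree
import Cfsg.Agent.Lib.Crit5.KillTwo
import Cfsg.Agent.Lib.Crit5.Pure

/-!
# The single fixed point criterion: assembly

`propCore` is the criterion, unconditional.
-/

set_option autoImplicit false

namespace Cfsg.Agent.Lib.Crit5.Top

universe u

theorem central : PropCentral.{u} :=
  Central.propCentral propFullFinal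

theorem propCore_of (hP : PropPure.{u}) (h2 : PropKill.{u} 2) : PropCore.{u} :=
  Induct.propCore_of_sections (countsFinal central) (KillOne.killOne propRankOne central hP) h2
    (KillThree.killThree central propRankOne) propRankOne

theorem propCore_of_pure (hP : PropPure.{u}) : PropCore.{u} :=
  propCore_of hP (KillTwo.killTwo central hP propRankOne)

/-- **The single fixed point criterion.** -/
theorem propCore : PropCore.{u} :=
  propCore_of_pure (Pure.propPure central)

end Cfsg.Agent.Lib.Crit5.Top
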