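import Cfsg.Agent.Lib.BenderConsumers23.Structure
import Cfsg.Agent.Lib.BenderOne.Final
import Cfsg.Agent.Lib.BenderSuzuki.Main
import Cfsg.Agent.Lib.SolvCentAb12.Lift

/-!
# Strongly embedded subgroups with two commuting involutions: lemmas for section A2 of the criterion

The involutions of the stabiliser commute modulo the odd core, and the centraliser of one of them in
the stabiliser contains a `2`-subgroup transitive on the other cosets.
-/

set_option autoImplicit false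
set_option linter.style.haveILetI false
set_option linter.unusedSectionVars false

namespace Cfsg.Agent.Lib.Crit5.CentralSE

open MulAction Subgroup
open Cfsg.Agent.Lib.Involutions.Basic Cfsg.Agent.Lib.BenderConsumers23 Cfsg.Agent.Lib.BenderSuzuki

universe u

/-- In a set-up with a `2`-group `Q` the involutions of the point stabiliser centralise `Q`. -/
theorem central_of_setup {G Ω : Type*} [Group G] [MulAction G Ω] [Finite G] {a : Ω} {t : G}
    {Q : Subgroup G} (hS : Cfsg.IsRankOneSetup G Ω a t Q) (hQ : IsPGroup 2 Q) {s : G}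
    (hs : s • a = a) (hs1 : s ≠ 1) (hs2 : s * s = 1) :
    s ∈ Q ∧ ∀ x ∈ Q, Commute x s := by
  haveI : Fact (Nat.Prime 2) := ⟨Nat.prime_two⟩
  have hmem := RankOne.Basic.involutions_stab_mem_Q hS hs hs2
  refine ⟨hmem, fun x hx => ?_⟩
  haveI : Nontrivial Q := ⟨⟨⟨s, hmem⟩, 1, fun e => hs1 (congrArg Subtype.val e)⟩⟩
  haveI := hQ.center_nontrivial
  obtain ⟨n, hn, hcard⟩ := (IsPGroup.nontrivial_iff_card (hQ.to_subgroup (center Q))).1 inferInstance
  obtain ⟨z, hz⟩ := exists_prime_orderOf_dvd_card' (G := center Q) 2 (by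
    rw [hcard]; exact dvd_pow_self 2 hn.ne')
  have hz2 : orderOf ((z : Q) : G) = 2 := by rw [Subgroup.orderOf_coe, Subgroup.orderOf_coe, hz]
  have hzQ : ((z : Q) : G) ∈ Q := z.1.2
  obtain ⟨g, hg⟩ := RankOne.Basic.all_conj hS (invol_ne_one hz2) (invol_mul_self hz2) hs1 hs2
  have hga : g • a = a := by
    refine RankOne.Basic.involution_fix_a hS ⟨hs, hs1, hs2⟩ ?_
    rw [← hg, mul_smul, mul_smul, inv_smul_smul, RankOne.Basic.Q_fix hS hzQ]
  have hy : g⁻¹ * x * g ∈ Q := by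
    have := hS.conj_mem g⁻¹ (inv_smul_eq_iff.2 hga.symm) x hx
    rwa [inv_inv] at this
  have h1 : g⁻¹ * x * g * (z : Q) = (z : Q) * (g⁻¹ * x * g) :=
    congrArg Subtype.val (mem_center_iff.1 z.2 ⟨_, hy⟩)
  show x * s = s * x
  rw [← hg]
  calc x * (g * ((z : Q) : G) * g⁻¹) = g * (g⁻¹ * x * g * (z : Q)) * g⁻¹ := by group
    _ = g * ((z : Q) * (g⁻¹ * x * g)) * g⁻¹ := by rw [h1]
    _ = _ := by group

variable {X : Type u} [Group X] [Finite X] {H : Subgroup X}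

/-- The set-up of the core-free quotient. -/
theorem exists_setup (hH : Cfsg.IsStronglyEmbedded H) (h2 : TwoRank X) :
    ∃ (t : X ⧸ Cfsg.oddCore X) (Q : Subgroup (X ⧸ Cfsg.oddCore X)),
      Cfsg.IsRankOneSetup (X ⧸ Cfsg.oddCore X)
        ((X ⧸ Cfsg.oddCore X) ⧸ H.map (QuotientGroup.mk' (Cfsg.oddCore X)))
        ((1 : X ⧸ Cfsg.oddCore X) :
          (X ⧸ Cfsg.oddCore X) ⧸ H.map (QuotientGroup.mk' (Cfsg.oddCore X))) t Q ∧
        IsPGroup 2 Q := by
  obtain ⟨hH', h2', hc⟩ := quotient_oddCore hH h2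
  obtain ⟨t, Q, hh, hg⟩ := good BenderOne.propPartOneFinal BenderSuzuki.propMain hH' h2' hc
  exact ⟨t, Q, hh.setup, hg.1⟩

theorem smul_base_iff {Y : Type*} [Group Y] {K : Subgroup Y} {y : Y} :
    y • ((1 : Y) : Y ⧸ K) = ((1 : Y) : Y ⧸ K) ↔ y ∈ K := by
  show ((y * 1 : Y) : Y ⧸ K) = _ ↔ _
  rw [mul_one, QuotientGroup.eq, mul_one, inv_mem_iff]

theorem map_mem_iff (hH : Cfsg.IsStronglyEmbedded H) (h2 : TwoRank X) {x : X} :
    QuotientGroup.mk' (Cfsg.oddCore X) x ∈ H.map (QuotientGroup.mk' (Cfsg.oddCore X)) ↔ x ∈ H := by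
  rw [← Subgroup.mem_comap, Subgroup.comap_map_eq_self
    (le_of_eq_of_le (QuotientGroup.ker_mk' _) (oddCore_le hH h2))]

/-- The square of the product of two involutions of the stabiliser lies in the odd core. -/
theorem sq_mem_oddCore (hH : Cfsg.IsStronglyEmbedded H) (h2 : TwoRank X) {x y : X} (hx : x ∈ H)
    (hy : y ∈ H) (hx2 : orderOf x = 2) (hy2 : orderOf y = 2) :
    x * y * (x * y) ∈ Cfsg.oddCore X := by
  obtain ⟨t, Q, hS, hQ⟩ := exists_setup hH h2
  set π := QuotientGroup.mk' (Cfsg.oddCore X) with hπ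
  have hinv : ∀ z : X, z ∈ H → orderOf z = 2 →
      π z • ((1 : X ⧸ Cfsg.oddCore X) : (X ⧸ Cfsg.oddCore X) ⧸ H.map π) =
        ((1 : X ⧸ Cfsg.oddCore X) : (X ⧸ Cfsg.oddCore X) ⧸ H.map π) ∧ π z ≠ 1 ∧ π z * π z = 1 :=
    fun z hz hz2 => ⟨smul_base_iff.2 (mem_map_of_mem π hz), fun e =>
      (odd_card_iff_no_invol _).1 ZStar.Elements.oddCore_odd z
        ((QuotientGroup.eq_one_iff z).1 e) hz2, by rw [← map_mul, invol_mul_self hz2, map_one]⟩
  obtain ⟨hx', hx1, hxx⟩ := hinv x hx hx2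
  obtain ⟨hy', hy1, hyy⟩ := hinv y hy hy2
  obtain ⟨hxQ, -⟩ := central_of_setup hS hQ hx' hx1 hxx
  obtain ⟨-, hyc⟩ := central_of_setup hS hQ hy' hy1 hyy
  refine (QuotientGroup.eq_one_iff _).1 ?_
  show π (x * y * (x * y)) = 1
  rw [map_mul, map_mul]
  calc π x * π y * (π x * π y) = π x * (π y * π x) * π y := by group
    _ = π x * (π x * π y) * π y := by rw [(hyc _ hxQ).eq]
    _ = π x * π x * (π y * π y) := by group
    _ = 1 := by rw [hxx, hyy, one_mul]

/-- A product of two involutions of the stabiliser of odd order lies in the odd core. -/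
theorem mem_oddCore_of_odd (hH : Cfsg.IsStronglyEmbedded H) (h2 : TwoRank X) {x y : X} (hx : x ∈ H)
    (hy : y ∈ H) (hx2 : orderOf x = 2) (hy2 : orderOf y = 2) (hodd : Odd (orderOf (x * y))) :
    x * y ∈ Cfsg.oddCore X := by
  obtain ⟨k, hk⟩ := hodd
  have h1 := pow_mem (sq_mem_oddCore hH h2 hx hy hx2 hy2) (k + 1)
  rwa [← pow_two, ← pow_mul, show 2 * (k + 1) = orderOf (x * y) + 1 by omega, pow_succ,
    pow_orderOf_eq_one, one_mul] at h1

/-- A `2`-subgroup of the centraliser in the stabiliser of one of its involutions which is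
transitive on the other cosets. -/
theorem exists_transitive (hH : Cfsg.IsStronglyEmbedded H) (h2 : TwoRank X) {g : X} (hg : g ∈ H)
    (hg2 : orderOf g = 2) :
    ∃ T : Subgroup X, IsPGroup 2 T ∧ T ≤ H ∧ T ≤ centralizer ({g} : Set X) ∧
      ∀ b c : X, b ∉ H → c ∉ H → ∃ x ∈ T, (x * b)⁻¹ * c ∈ H := by
  haveI : Fact (Nat.Prime 2) := ⟨Nat.prime_two⟩
  obtain ⟨t, Q, hS, hQ⟩ := exists_setup hH h2
  set π := QuotientGroup.mk' (Cfsg.oddCore X) with hπ
  set Q1 : Subgroup X := Q.comap π ⊓ centralizer ({g} : Set X) with hQ1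
  have hg1 : π g ≠ 1 := fun e => (odd_card_iff_no_invol _).1 ZStar.Elements.oddCore_odd g
    ((QuotientGroup.eq_one_iff g).1 e) hg2
  obtain ⟨-, hgc⟩ := central_of_setup hS hQ (smul_base_iff.2 (mem_map_of_mem π hg)) hg1
    (by rw [← map_mul, invol_mul_self hg2, map_one])
  let φ : Q1 →* Q := (π.comp Q1.subtype).codRestrict Q fun x => x.2.1
  have hφ : Function.Surjective φ := by
    rintro ⟨y, hy⟩
    have h1 : y ∈ centralizer ({π g} : Set (X ⧸ Cfsg.oddCore X)) :=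
      mem_centralizer_singleton_iff.2 (hgc y hy).eq
    rw [show centralizer ({π g} : Set (X ⧸ Cfsg.oddCore X)) =
      (centralizer ({g} : Set X)).map π from
        (SolvCentAb12.map_centralizer_invol _ ZStar.Elements.oddCore_odd hg2).symm] at h1
    obtain ⟨c, hc, rfl⟩ := h1
    exact ⟨⟨c, hy, hc⟩, rfl⟩
  obtain ⟨S⟩ := (inferInstance : Nonempty (Sylow 2 Q1))
  have htop : (S : Subgroup Q1).map φ = ⊤ := by
    rw [← Sylow.coe_mapSurjective hφ S]
    exact ((S.mapSurjective hφ).3 (hQ.to_subgroup ⊤) le_top).symm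
  refine ⟨(S : Subgroup Q1).map Q1.subtype, S.2.map _, ?_, ?_, fun b c hb hc => ?_⟩
  · rintro _ ⟨x, -, rfl⟩
    exact (map_mem_iff hH h2).1 (smul_base_iff.1 (RankOne.Basic.Q_fix hS x.2.1))
  · rintro _ ⟨x, -, rfl⟩; exact x.2.2
  have hne : ∀ w : X, w ∉ H →
      ((π w : X ⧸ Cfsg.oddCore X) : (X ⧸ Cfsg.oddCore X) ⧸ H.map π) ≠
        ((1 : X ⧸ Cfsg.oddCore X) : (X ⧸ Cfsg.oddCore X) ⧸ H.map π) := fun w hw e => by
    rw [QuotientGroup.eq, mul_one, inv_mem_iff] at e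
    exact hw ((map_mem_iff hH h2).1 e)
  obtain ⟨y, hy, hyc⟩ := RankOne.Basic.Q_trans hS (hne b hb) (hne c hc)
  obtain ⟨x, hxS, hx⟩ : (⟨y, hy⟩ : Q) ∈ (S : Subgroup Q1).map φ := htop ▸ mem_top _
  refine ⟨x, ⟨x, hxS, rfl⟩, (map_mem_iff hH h2).1 ?_⟩
  have hxy : π x = y := congrArg Subtype.val hx
  have h2' : ((y * π b : X ⧸ Cfsg.oddCore X) : (X ⧸ Cfsg.oddCore X) ⧸ H.map π) = (π c : _) := hyc
  rw [QuotientGroup.eq] at h2'
  rw [map_mul, map_inv, map_mul, hxy]
  exact h2'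

end Cfsg.Agent.Lib.Crit5.CentralSE
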