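import Mathlib

/-!
# The single fixed point criterion, section B: arithmetic

If two bad involutions have parameters `(q, e)` and `(Q, f)` with `q ≤ Q` then the equality of the
two double counts forces `q ^ (e + 1) ≤ Q ^ (f + 1)`; and `q ^ (e + 1) ∣ n - 1` forces
`r ≡ 1 (mod q)`.
-/

set_option autoImplicit false

namespace Cfsg.Agent.Lib.Crit5.CountsB

/-- Comparison of two double counts. -/
theorem pow_le_pow_of_counts {N m q Q A B i j : ℕ} (hq : q = 2 ^ i) (hQ : Q = 2 ^ j) (hqQ : q ≤ Q)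
    (hq4 : 4 ≤ q) (hA : ∃ e, A = 2 ^ e) (hB : ∃ f, B = 2 ^ f)
    (h₁ : N * m = A * (m + (A + 1) * (q - 1) ^ 2)) (h₂ : N * m = B * (m + (B + 1) * (Q - 1) ^ 2)) :
    A * q ≤ B * Q := by
  by_contra hlt
  rw [not_le] at hlt
  obtain ⟨e, rfl⟩ := hA
  obtain ⟨f, rfl⟩ := hB
  have hfe : f < e := by
    by_contra h
    rw [not_lt] at h
    exact absurd (Nat.mul_le_mul (Nat.pow_le_pow_right (by norm_num) h) hqQ) (not_le.2 hlt)
  have h2 : 2 * (2 ^ f * Q) ≤ 2 ^ e * q := by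
    rw [hq, hQ, ← pow_add, ← pow_add, ← pow_succ'] at *
    exact Nat.pow_le_pow_right (by norm_num)
      (Nat.succ_le_of_lt ((Nat.pow_lt_pow_iff_right (by norm_num)).1 hlt))
  have hBA : 2 ^ f * m ≤ 2 ^ e * m :=
    Nat.mul_le_mul_right m (Nat.pow_le_pow_right (by norm_num) hfe.le)
  have hQ1 : (Q - 1) ^ 2 ≤ Q ^ 2 := Nat.pow_le_pow_left (Nat.sub_le _ _) 2
  have hlow : 3 * q ≤ 4 * (q - 1) := by omega
  have hpos : 0 < 2 ^ f * Q := Nat.mul_pos (Nat.two_pow_pos f) (by omega)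
  set a := 2 ^ e with ha
  set b := 2 ^ f with hb
  have hb1 : 1 ≤ b := Nat.one_le_two_pow
  set q' := q - 1
  have e1 : b * (b + 1) * (Q - 1) ^ 2 ≤ 2 * (b * Q) ^ 2 :=
    calc b * (b + 1) * (Q - 1) ^ 2 ≤ b * (2 * b) * Q ^ 2 := by gcongr; omega
      _ = 2 * (b * Q) ^ 2 := by ring
  have e2 : 9 * (a * q) ^ 2 ≤ 16 * (a * (a + 1) * q' ^ 2) :=
    calc 9 * (a * q) ^ 2 = a * a * (3 * q) ^ 2 := by ring
      _ ≤ a * a * (4 * q') ^ 2 := by gcongr
      _ ≤ a * (a + 1) * (4 * q') ^ 2 := by gcongr; omega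
      _ = 16 * (a * (a + 1) * q' ^ 2) := by ring
  have h3 : (2 * (b * Q)) ^ 2 ≤ (a * q) ^ 2 := Nat.pow_le_pow_left h2 2
  nlinarith

/-- `q ^ (e + 1) ∣ n - 1` forces `r ≡ 1 (mod q)`. -/
theorem mod_eq_one {N r q e : ℕ} (hq : 4 ≤ q) (he : 1 ≤ e) (hdvd : q ^ (e + 1) ∣ N)
    (h : N * r = q ^ e * (r + (q ^ e + 1) * (q - 1))) : r % q = 1 := by
  obtain ⟨c, rfl⟩ := hdvd
  have h1 : q * (c * r) = r + (q ^ e + 1) * (q - 1) := by
    refine Nat.eq_of_mul_eq_mul_left (pow_pos (by omega : 0 < q) e) ?_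
    rw [← h, pow_succ]; ring
  obtain ⟨d, hd⟩ : q ∣ q ^ e := dvd_pow_self q (by omega)
  have h2 : ((r : ℤ) - 1) % q = 0 := by
    refine Int.emod_eq_zero_of_dvd ⟨c * r - d * (q - 1) - 1, ?_⟩
    have h1' : (q : ℤ) * (c * r) = r + ((q : ℤ) * d + 1) * ((q : ℤ) - 1) := by
      have := congrArg (fun z : ℕ => (z : ℤ)) h1
      simp only [Nat.cast_mul, Nat.cast_add, Nat.cast_one, hd] at this
      rw [Nat.cast_sub (by omega)] at this
      simpa using this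
    linear_combination -h1'
  have h3 : (r : ℤ) % q = 1 := by
    rw [show (r : ℤ) = (r - 1) + 1 by ring, Int.add_emod, h2, zero_add, Int.emod_emod_of_dvd _ dvd_rfl,
      Int.emod_eq_of_lt (by norm_num) (by omega)]
  exact_mod_cast h3

end Cfsg.Agent.Lib.Crit5.CountsB
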