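import Cfsg.Agent.Lib.Crit5.CountsBasic
import Cfsg.Agent.Lib.Crit5.CountsArith

/-!
# The single fixed point criterion, section B

`counts`: `PropCounts` from `PropCentral` and the shape of the action of the centraliser of a bad
involution on its fixed points (`PropFixShape`, section S).
-/

set_option autoImplicit false
set_option linter.style.haveILetI false
set_option linter.unusedSectionVars false

namespace Cfsg.Agent.Lib.Crit5

open scoped Classical

open MulAction Cfsg.Agent.Lib.Involutions.Basic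
open Cfsg.Agent.Lib.Crit8 (Action Pre Bad memAt memSwap loc)

universe u

/-- Section S: the centraliser of a bad involution with a four group at `a` is transitive on its
other fixed points, whose number is a power `q ^ e`, `e ≤ 3`, `q - 1` members at `a` centralising
it. -/
def PropFixShape.{w} : Prop :=
  ∀ (X : Type w) [Group X] [Finite X] (Δ : Type w) [MulAction X Δ] (E : Set X), Min X Δ E →
    ∀ (x : X) (a : Δ), Bad X Δ x → x • a = a → FourAt E x a →
      (∀ d ∈ memCent E x a, ∀ e ∈ memCent E x a, Commute d e) →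
      (∀ b c : Δ, x • b = b → x • c = c → b ≠ a → c ≠ a →
        ∃ g : X, Commute g x ∧ g • a = a ∧ g • b = c) ∧
      ∃ e : ℕ, (e = 1 ∨ e = 2 ∨ e = 3) ∧
        Nat.card {p : Δ // x • p = p} = (Nat.card (memCent E x a) + 1) ^ e + 1

namespace CountsB

variable {G Ω : Type u} [Group G] [MulAction G Ω] [Finite G] {D : Set G}
variable (hM : Min G Ω D) (hC : CommCent G Ω D)
  (hfour : ∀ (x : G) (a : Ω), Bad G Ω x → x • a = a → FourAt D x a)

include hM hC hfour in
/-- The order of `G_a` is divisible by `Q ^ (f + 1)` times that of the centraliser of `v` in the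
two point stabiliser. -/
theorem dvd_card_stabilizer (hS : PropFixShape.{u}) {v : G} {a y : Ω} (hv : Bad G Ω v)
    (hva : v • a = a) (hvy : v • y = y) (hya : y ≠ a) :
    (Nat.card (memCent D v a) + 1) * (Nat.card {p : Ω // v • p = p} - 1) *
        Nat.card ↥(stabilizer G a ⊓ stabilizer G y ⊓ Subgroup.centralizer {v}) ∣
      Nat.card (stabilizer G a) := by
  haveI := finite_points hM
  obtain ⟨htr, -⟩ := hS G Ω D hM v a hv hva (hfour v a hv hva) (hC v a hv hva)
  obtain ⟨E, hE, hEc, -⟩ := exists_sub hM hC hv hva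
  set B := memCent D v a
  set T : Set G := {g | v * g ∈ E} with hT
  have hvv := invol_mul_self hv.invol
  let N : Subgroup G :=
    { carrier := {g | g • a = a ∧ ∀ z, z ∈ T → g * z * g⁻¹ ∈ T}
      one_mem' := ⟨one_smul _ _, fun z hz => by simpa using hz⟩
      mul_mem' := fun {g g'} hg hg' => ⟨by rw [mul_smul, hg'.1, hg.1], fun z hz => by
        rw [show g * g' * z * (g * g')⁻¹ = g * (g' * z * g'⁻¹) * g⁻¹ by group]
        exact hg.2 _ (hg'.2 z hz)⟩
      inv_mem' := fun {g} hg => ⟨inv_smul_eq_iff.2 hg.1.symm, fun z hz => by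
        let f : T → T := fun w => ⟨g * w.1 * g⁻¹, hg.2 w.1 w.2⟩
        have hf : Function.Injective f := fun w w' e => Subtype.ext
          (by simpa [f] using congrArg Subtype.val e)
        obtain ⟨⟨w, hw⟩, hw'⟩ := (Finite.injective_iff_surjective.1 hf) ⟨z, hz⟩
        have e : g * w * g⁻¹ = z := congrArg Subtype.val hw'
        rw [← e]
        simpa [mul_assoc] using hw⟩ }
  set C := stabilizer G a ⊓ Subgroup.centralizer {v}
  have hvT : v ∈ T := by show v * v ∈ E; rw [hvv]; exact one_mem E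
  -- `C` normalises the products
  have hCN : C ≤ N := by
    rintro g ⟨hga, hgv⟩
    have hgv' : Commute g v := Subgroup.mem_centralizer_singleton_iff.1 hgv
    refine ⟨hga, fun z hz => ?_⟩
    show v * (g * z * g⁻¹) ∈ E
    have h1 : v * (g * z * g⁻¹) = g * (v * z) * g⁻¹ := by
      rw [← mul_assoc, ← mul_assoc, ← hgv'.eq]; group
    rw [h1]
    rcases (hE _).1 hz with h | h
    · rw [h]; simp
    · refine (hE _).2 (Or.inr ?_)
      have h2 := conj_memCent hM (g := g) h
      rwa [hgv'.eq, mul_inv_cancel_right, hga] at h2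
  -- `N` is transitive on the products with stabiliser `C`
  have hN : (Nat.card B + 1) * Nat.card C ∣ Nat.card (stabilizer G a) := by
    refine dvd_trans (dvd_of_eq ?_) (Subgroup.card_dvd_of_le (fun g hg => hg.1 : N ≤ stabilizer G a))
    letI : MulAction N T :=
      { smul := fun g z => ⟨g.1 * z.1 * g.1⁻¹, g.2.2 z.1 z.2⟩
        one_smul := fun z => Subtype.ext (by show (1 : G) * z.1 * 1⁻¹ = z.1; group)
        mul_smul := fun g g' z => Subtype.ext (by
          show (g.1 * g'.1) * z.1 * (g.1 * g'.1)⁻¹ = g.1 * (g'.1 * z.1 * g'.1⁻¹) * g.1⁻¹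
          group) }
    have hto : ∀ z : T, ∃ g : N, g • (⟨v, hvT⟩ : T) = z := by
      rintro ⟨z, hz⟩
      rcases (hE _).1 hz with h | h
      · refine ⟨1, Subtype.ext ?_⟩
        show (1 : G) * v * 1⁻¹ = z
        rw [eq_inv_of_mul_eq_one_right h, invol_inv hv.invol]
        group
      · obtain ⟨s, hsa, hsB, hsx⟩ := translate hM hC hv hva (hfour v a hv hva) h
        have hsN : s ∈ N := by
          refine ⟨hsa, fun z' hz' => ?_⟩
          show v * (s * z' * s⁻¹) ∈ E
          have e1 : v * (s * z' * s⁻¹) = v * (s * v * s⁻¹) * (s * (v * z') * s⁻¹) := by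
            rw [show s * v * s⁻¹ = s * v⁻¹ * s⁻¹ by rw [invol_inv hv.invol]]
            group
          rw [e1, hsx, ← mul_assoc v v, hvv, one_mul]
          refine mul_mem ((hE _).2 (Or.inr h)) ?_
          rcases (hE _).1 hz' with h' | h'
          · rw [h']; simp
          · exact (hE _).2 (Or.inr (hsB _ h'))
        refine ⟨⟨s, hsN⟩, Subtype.ext ?_⟩
        show s * v * s⁻¹ = z
        rw [hsx, ← mul_assoc, hvv, one_mul]
    haveI : IsPretransitive N T := ⟨fun z w => by
      obtain ⟨g, hg⟩ := hto z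
      obtain ⟨g', hg'⟩ := hto w
      exact ⟨g' * g⁻¹, by rw [mul_smul, ← hg, inv_smul_smul, hg']⟩⟩
    rw [← Subgroup.index_mul_card (stabilizer N (⟨v, hvT⟩ : T)),
      index_stabilizer_of_transitive N (⟨v, hvT⟩ : T)]
    congr 1
    · rw [← hEc]
      exact Nat.card_congr
        { toFun := fun e => ⟨v * e.1, show v * (v * e.1) ∈ E by
            rw [← mul_assoc, hvv, one_mul]; exact e.2⟩
          invFun := fun z => ⟨v * z.1, z.2⟩
          left_inv := fun e => Subtype.ext (show v * (v * e.1) = e.1 by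
            rw [← mul_assoc, hvv, one_mul])
          right_inv := fun z => Subtype.ext (show v * (v * z.1) = z.1 by
            rw [← mul_assoc, hvv, one_mul]) }
    · exact Nat.card_congr
        { toFun := fun g => ⟨⟨g.1, hCN g.2⟩, Subtype.ext (by
            show g.1 * v * g.1⁻¹ = v
            rw [Subgroup.mem_centralizer_singleton_iff.1 g.2.2, mul_inv_cancel_right])⟩
          invFun := fun g => ⟨g.1.1, Subgroup.mem_inf.2 ⟨g.1.2.1,
            Subgroup.mem_centralizer_singleton_iff.2
              (mul_inv_eq_iff_eq_mul.1 (congrArg Subtype.val g.2))⟩⟩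
          left_inv := fun g => rfl
          right_inv := fun g => rfl }
  refine dvd_trans (dvd_of_eq ?_) hN
  rw [mul_assoc]
  congr 1
  -- `C` is transitive on the other fixed points
  set F := {p : Ω // v • p = p ∧ p ≠ a}
  have hF : Nat.card F = Nat.card {p : Ω // v • p = p} - 1 := by
    rw [show Nat.card F = Nat.card ↥({p : Ω | v • p = p} \ {a}) from rfl, Nat.card_coe_set_eq,
      Set.ncard_diff_singleton_of_mem (show a ∈ {p : Ω | v • p = p} from hva),
      ← Nat.card_coe_set_eq]
    rfl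
  letI : MulAction C F :=
    { smul := fun g p => ⟨(g : G) • p.1, by
        rw [← mul_smul, ← Subgroup.mem_centralizer_singleton_iff.1 g.2.2, mul_smul, p.2.1],
        fun e => p.2.2 (MulAction.injective (g : G)
          (e.trans (show a = (g : G) • a from (g.2.1 : (g : G) • a = a).symm)))⟩
      one_smul := fun p => Subtype.ext (one_smul G p.1)
      mul_smul := fun g g' p => Subtype.ext (mul_smul (g : G) (g' : G) p.1) }
  haveI : IsPretransitive C F := ⟨fun p p' => by
    obtain ⟨g, hgv, hga, hgp⟩ := htr p.1 p'.1 p.2.1 p'.2.1 p.2.2 p'.2.2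
    exact ⟨⟨g, hga, Subgroup.mem_centralizer_singleton_iff.2 hgv.eq⟩, Subtype.ext hgp⟩⟩
  rw [← hF, ← Subgroup.index_mul_card (stabilizer C (⟨y, hvy, hya⟩ : F)),
    index_stabilizer_of_transitive C (⟨y, hvy, hya⟩ : F)]
  congr 1
  exact Nat.card_congr
    { toFun := fun g => ⟨⟨g.1, g.2.1.1, g.2.2⟩, Subtype.ext g.2.1.2⟩
      invFun := fun g => ⟨g.1.1, ⟨g.1.2.1, congrArg Subtype.val g.2⟩, g.1.2.2⟩
      left_inv := fun g => rfl
      right_inv := fun g => rfl }

end CountsB

/-- **Section B.** -/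
theorem counts (hC : PropCentral.{u}) (hS : PropFixShape.{u}) : PropCounts.{u} := by
  intro G _ _ Ω _ D hM hfour
  haveI := hM.faithful
  haveI := CountsB.finite_points hM
  have hCC : CountsB.CommCent G Ω D := fun x a hx ha => hC G Ω D hM x a hx ha (hfour x a hx ha)
  -- a bad involution with fewest members
  obtain ⟨x₀, hx₀⟩ := hM.bad
  obtain ⟨a₀, -, -, ha₀, -⟩ := hx₀.two
  have hex : ∃ j, ∃ (x : G) (a : Ω), Bad G Ω x ∧ x • a = a ∧ Nat.card (memCent D x a) = j :=
    ⟨_, x₀, a₀, hx₀, ha₀, rfl⟩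
  obtain ⟨x, a, hx, ha, hq₀⟩ := Nat.find_spec hex
  have hmin : ∀ (y : G) (b : Ω), Bad G Ω y → y • b = b →
      Nat.card (memCent D x a) ≤ Nat.card (memCent D y b) := fun y b hy hb =>
    hq₀.symm ▸ Nat.find_min' hex ⟨y, b, hy, hb, rfl⟩
  -- the parameters of any bad involution
  have hpar : ∀ (y : G) (b : Ω), Bad G Ω y → y • b = b → ∃ q e r i : ℕ,
      q = 2 ^ i ∧ 4 ≤ q ∧ Nat.card (memCent D y b) + 1 = q ∧ (e = 1 ∨ e = 2 ∨ e = 3) ∧
      Nat.card {p : Ω // y • p = p} = q ^ e + 1 ∧
      Nat.card (memAt G D b) = (q - 1) * r ∧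
      (Nat.card Ω - 1) * r = q ^ e * (r + (q ^ e + 1) * (q - 1)) ∧ Odd r := by
    intro y b hy hb
    obtain ⟨E, hE, hEc, i, hi⟩ := CountsB.exists_sub hM hCC hy hb
    obtain ⟨-, e, he, hk⟩ := hS G Ω D hM y b hy hb (hfour y b hy hb) (hCC y b hy hb)
    obtain ⟨r, hm, hr, hcount⟩ := CountsB.double_count hM hCC hfour hy hb
    refine ⟨_, e, r, i, hEc.symm.trans hi, ?_, rfl, he, hk, by rw [Nat.add_sub_cancel]; exact hm,
      ?_, hr⟩
    · obtain ⟨d, hd, d', hd', hne, -⟩ := hfour y b hy hb
      have h2 : 1 < Nat.card (memCent D y b) := by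
        rw [Nat.card_coe_set_eq, Set.one_lt_ncard (Set.toFinite _)]
        exact ⟨d, hd, d', hd', hne⟩
      rcases Nat.lt_or_ge i 2 with hi2 | hi2
      · interval_cases i <;> omega
      · rw [← hEc, hi]
        exact Nat.pow_le_pow_right (by norm_num : 0 < 2) hi2
    · rw [hk, Nat.add_sub_cancel] at hcount
      rw [hcount, Nat.add_sub_cancel]
  obtain ⟨q, e, r, i, hqi, hq4, hqB, he, hk, hm, hcount, -⟩ := hpar x a hx ha
  refine ⟨x, a, q, e, r, hx,
    { four_le := hq4, two_pow := ⟨i, hqi⟩, type := he, fixes := ha, commute := hCC x a hx ha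
      card_cent := hqB, card_fix := hk, card_mem := hm, count := hcount
      mod_one := CountsB.mod_eq_one hq4 (by omega) ?_ hcount
      translate := fun d hd => CountsB.translate hM hCC hx ha (hfour x a hx ha) hd
      minimal := hmin }⟩
  -- the orbits of a Sylow subgroup of `G_a`
  haveI : Fact (Nat.Prime 2) := ⟨Nat.prime_two⟩
  set P : Sylow 2 (stabilizer G a) := default
  set S := (P : Subgroup (stabilizer G a)).map (stabilizer G a).subtype with hSdef
  have hSp : IsPGroup 2 S := P.2.map _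
  have hSle : S ≤ stabilizer G a := Subgroup.map_subtype_le _
  have hScard : Nat.card S = 2 ^ (Nat.card (stabilizer G a)).factorization 2 := by
    rw [hSdef, Subgroup.card_map_of_injective (stabilizer G a).subtype_injective,
      P.card_eq_multiplicity]
  have hqe : ∀ {Q f : ℕ}, (∃ l, Q = 2 ^ l) → q ^ (e + 1) ≤ Q ^ (f + 1) →
      q ^ (e + 1) ∣ Q ^ (f + 1) := by
    rintro Q f ⟨l, rfl⟩ hle
    rw [hqi, ← pow_mul, ← pow_mul] at hle ⊢
    exact pow_dvd_pow 2 ((Nat.pow_le_pow_iff_right (by norm_num)).1 hle)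
  have hdiv : ∀ (v : G) (y : Ω), Bad G Ω v → v • a = a → v • y = y → y ≠ a → ∀ j : ℕ,
      2 ^ j ∣ Nat.card ↥(stabilizer G a ⊓ stabilizer G y ⊓ Subgroup.centralizer {v}) →
      q ^ (e + 1) * 2 ^ j ∣ Nat.card S := by
    intro v y hv hva hvy hya j hj
    obtain ⟨Q, f, R, l, hQl, -, hQB, hf, hkv, hmv, hcv, -⟩ := hpar v a hv hva
    have hle : q ^ (e + 1) ≤ Q ^ (f + 1) := by
      have hqQ : q ≤ Q := by rw [← hqB, ← hQB]; exact Nat.add_le_add_right (hmin v a hv hva) 1
      have e1 : (Nat.card Ω - 1) * Nat.card (memAt G D a) =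
          q ^ e * (Nat.card (memAt G D a) + (q ^ e + 1) * (q - 1) ^ 2) := by
        rw [hm]; linear_combination (q - 1) * hcount
      have e2 : (Nat.card Ω - 1) * Nat.card (memAt G D a) =
          Q ^ f * (Nat.card (memAt G D a) + (Q ^ f + 1) * (Q - 1) ^ 2) := by
        rw [hmv]; linear_combination (Q - 1) * hcv
      rw [pow_succ, pow_succ]
      exact CountsB.pow_le_pow_of_counts hqi hQl hqQ hq4 ⟨i * e, by rw [hqi, ← pow_mul]⟩
        ⟨l * f, by rw [hQl, ← pow_mul]⟩ e1 e2
    refine (mul_dvd_mul_right (hqe ⟨l, hQl⟩ hle) _).trans ?_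
    have h := CountsB.dvd_card_stabilizer hM hCC hfour hS hv hva hvy hya
    rw [hQB, hkv, Nat.add_sub_cancel, ← pow_succ'] at h
    have h' := (mul_dvd_mul_left (Q ^ (f + 1)) hj).trans h
    rw [hQl, ← pow_mul, ← pow_add] at h' ⊢
    rw [hScard]
    exact pow_dvd_pow 2 ((Nat.prime_two.pow_dvd_iff_le_factorization Nat.card_pos.ne').1 h')
  let O : Type u := {y : Ω // y ≠ a}
  letI : MulAction S O :=
    { smul := fun g y => ⟨(g : G) • y.1, fun h => y.2 (MulAction.injective (g : G)
        (h.trans (show a = (g : G) • a from (hSle g.2 : (g : G) • a = a).symm)))⟩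
      one_smul := fun y => Subtype.ext (one_smul G y.1)
      mul_smul := fun g g' y => Subtype.ext (mul_smul (g : G) (g' : G) y.1) }
  have horb : ∀ y : O, q ^ (e + 1) ∣ Nat.card (orbit S y) := by
    intro y
    obtain ⟨j, hj⟩ := IsPGroup.iff_card.1 (hSp.to_subgroup (stabilizer S y))
    have hmul : Nat.card (orbit S y) * 2 ^ j = Nat.card S := by
      rw [← hj, Nat.card_coe_set_eq, ← index_stabilizer, Subgroup.index_mul_card]
    refine Nat.dvd_of_mul_dvd_mul_right (Nat.two_pow_pos j) (hmul.symm ▸ ?_)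
    by_cases hj0 : j = 0
    · subst hj0
      obtain ⟨b, c, hbc, hb, hc⟩ := hx.two
      obtain ⟨y', hy'a, hy'⟩ : ∃ y' : Ω, y' ≠ a ∧ x • y' = y' := by
        by_cases hba : b = a
        · exact ⟨c, hba ▸ hbc.symm, hc⟩
        · exact ⟨b, hba, hb⟩
      exact hdiv x y' hx ha hy' hy'a 0 (one_dvd _)
    · set Sy := (stabilizer S y).map S.subtype with hSy
      have hSyp : IsPGroup 2 Sy := (hSp.to_subgroup _).map _
      have hSyc : Nat.card Sy = 2 ^ j := by
        rw [hSy, Subgroup.card_map_of_injective S.subtype_injective, hj]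
      haveI : Nontrivial Sy := by
        rw [← Finite.one_lt_card_iff_nontrivial, hSyc]
        exact Nat.one_lt_two_pow hj0
      haveI := hSyp.center_nontrivial
      obtain ⟨l, hl, hl'⟩ := (hSyp.to_subgroup (Subgroup.center Sy)).nontrivial_iff_card.1 inferInstance
      obtain ⟨z, hz⟩ := exists_prime_orderOf_dvd_card' (G := Subgroup.center Sy) 2
        (hl' ▸ dvd_pow_self 2 hl.ne')
      set v : G := ((z : Sy) : G) with hvdef
      have hvo : orderOf v = 2 := by rw [hvdef, Subgroup.orderOf_coe, Subgroup.orderOf_coe, hz]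
      obtain ⟨w, hw, hwv⟩ := (z : Sy).2
      have hva : v • a = a := by rw [hvdef, ← hwv]; exact hSle w.2
      have hvy : v • y.1 = y.1 := by rw [hvdef, ← hwv]; exact congrArg Subtype.val hw
      have hv : Bad G Ω v := ⟨hvo, a, y.1, Ne.symm y.2, hva, hvy⟩
      refine hdiv v y.1 hv hva hvy y.2 j (hSyc ▸ Subgroup.card_dvd_of_le ?_)
      intro g hg
      refine ⟨?_, Subgroup.mem_centralizer_singleton_iff.2
        (congrArg Subtype.val (Subgroup.mem_center_iff.1 z.2 ⟨g, hg⟩))⟩
      obtain ⟨w', hw', rfl⟩ := hg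
      exact ⟨hSle w'.2, congrArg Subtype.val hw'⟩
  haveI : Finite O := Subtype.finite
  have hO : Nat.card O = Nat.card Ω - 1 := by
    haveI : Fintype Ω := Fintype.ofFinite Ω
    classical
    rw [Nat.card_eq_fintype_card, Nat.card_eq_fintype_card, Fintype.card_subtype_compl,
      Fintype.card_subtype_eq]
  haveI : Fintype (Quotient (orbitRel S O)) := Fintype.ofFinite _
  rw [← hO, Nat.card_congr (MulAction.selfEquivSigmaOrbits S O), Nat.card_sigma]
  exact Finset.dvd_sum fun o _ => horb o.out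

end Cfsg.Agent.Lib.Crit5
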