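import Cfsg.Agent.Lib.Crit5.Interface

/-!
# The single fixed point criterion, section B: partition and double count

For a bad involution `x` whose members at a fixed point commute: translations, the partition of the
members at a moved point and the double count of `notes/crit_helper5.md`, section B.
-/

set_option autoImplicit false
set_option linter.style.haveILetI false
set_option linter.unusedSectionVars false

namespace Cfsg.Agent.Lib.Crit5.CountsB

open MulAction Cfsg.Agent.Lib.Involutions.Basic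
open Cfsg.Agent.Lib.Crit8 (Action Pre Bad memAt memSwap loc)

universe u

variable {G Ω : Type u} [Group G] [MulAction G Ω] [Finite G] {D : Set G}

/-- The members at every fixed point of a bad involution centralising it commute. -/
def CommCent (G Ω : Type u) [Group G] [MulAction G Ω] (D : Set G) : Prop :=
  ∀ (x : G) (a : Ω), Bad G Ω x → x • a = a →
    ∀ d ∈ memCent D x a, ∀ e ∈ memCent D x a, Commute d e

theorem finite_points (hM : Min G Ω D) : Finite Ω := by
  haveI := hM.act.trans
  haveI := hM.act.nontrivial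
  obtain ⟨a⟩ := (inferInstance : Nonempty Ω)
  exact Finite.of_surjective (fun g : G => g • a) (fun z => exists_smul_eq G a z)

variable (hM : Min G Ω D)
include hM

theorem exists_commute (x : G) (hx : Bad G Ω x) {a : Ω} (ha : x • a = a) :
    ∃ d, d ∈ memCent D x a := by
  obtain ⟨d, hd, hdx⟩ := hM.act.toPre.smul_conj_memAt hx.invol ha
  exact ⟨d, hd, hdx⟩

theorem conj_memCent {g x d : G} {a : Ω} (hd : d ∈ memCent D x a) :
    g * d * g⁻¹ ∈ memCent D (g * x * g⁻¹) (g • a) := by
  refine ⟨hM.act.toPre.conj_mem_memAt hd.1, ?_⟩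
  show g * d * g⁻¹ * (g * x * g⁻¹) = g * x * g⁻¹ * (g * d * g⁻¹)
  calc g * d * g⁻¹ * (g * x * g⁻¹) = g * (d * x) * g⁻¹ := by group
    _ = g * (x * d) * g⁻¹ := by rw [hd.2.eq]
    _ = g * x * g⁻¹ * (g * d * g⁻¹) := by group

theorem card_memCent_conj (g x : G) (a : Ω) :
    Nat.card (memCent D (g * x * g⁻¹) (g • a)) = Nat.card (memCent D x a) := by
  refine (Nat.card_eq_of_bijective (fun d : memCent D x a =>
    (⟨g * d.1 * g⁻¹, conj_memCent hM d.2⟩ : memCent D (g * x * g⁻¹) (g • a))) ⟨fun d e h => ?_,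
    fun d => ?_⟩).symm
  · exact Subtype.ext (by simpa using congrArg Subtype.val h)
  · have h := conj_memCent hM (g := g⁻¹) d.2
    rw [inv_smul_smul, show g⁻¹ * (g * x * g⁻¹) * g⁻¹⁻¹ = x by group, inv_inv] at h
    exact ⟨⟨_, h⟩, Subtype.ext (by group)⟩

/-- A bad involution is centralised by equally many members at each of its fixed points. -/
theorem card_memCent_point {x : G} (hx : Bad G Ω x) {a b : Ω} (ha : x • a = a) (hb : x • b = b) :
    Nat.card (memCent D x a) = Nat.card (memCent D x b) := by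
  rcases eq_or_ne a b with rfl | hab
  · rfl
  obtain ⟨f, hf, hfx⟩ := hM.act.toPre.exists_swap_commute hx.invol hab (Or.inl ⟨ha, hb⟩)
  have h := card_memCent_conj hM f x a
  rw [hf.2, hfx.eq, mul_inv_cancel_right] at h
  exact h.symm

variable (hC : CommCent G Ω D)
include hC

theorem mul_mem_memCent {x d e : G} {a : Ω} (hx : Bad G Ω x) (ha : x • a = a)
    (hd : d ∈ memCent D x a) (he : e ∈ memCent D x a) (hne : d ≠ e) :
    d * e ∈ memCent D x a := by
  haveI := hM.faithful
  exact ⟨⟨hM.act.mul_mem_D hd.1.1 he.1.1 hne (hC x a hx ha d hd e he),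
    by rw [mul_smul, he.1.2, hd.1.2]⟩, hd.2.mul_left he.2⟩

/-- The members at `a` centralising `x` form a subgroup together with `1`. -/
theorem exists_sub {x : G} {a : Ω} (hx : Bad G Ω x) (ha : x • a = a) :
    ∃ E : Subgroup G, (∀ g, g ∈ E ↔ g = 1 ∨ g ∈ memCent D x a) ∧
      Nat.card E = Nat.card (memCent D x a) + 1 ∧ ∃ i : ℕ, Nat.card E = 2 ^ i := by
  let E : Subgroup G :=
    { carrier := insert 1 (memCent D x a)
      one_mem' := Set.mem_insert _ _
      mul_mem' := by
        rintro d e (rfl | hd) (rfl | he)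
        · exact Or.inl (one_mul 1)
        · exact Or.inr (by rwa [one_mul])
        · exact Or.inr (by rwa [mul_one])
        · rcases eq_or_ne d e with rfl | hne
          · exact Or.inl (invol_mul_self (hM.act.invol d hd.1.1))
          · exact Or.inr (mul_mem_memCent hM hC hx ha hd he hne)
      inv_mem' := by
        rintro d (rfl | hd)
        · exact Or.inl inv_one
        · exact Or.inr (by rwa [invol_inv (hM.act.invol d hd.1.1)]) }
  refine ⟨E, fun g => Iff.rfl, ?_, ?_⟩
  · have h1 : (1 : G) ∉ memCent D x a := fun h => invol_ne_one (hM.act.invol 1 h.1.1) rfl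
    show Nat.card ↥(insert 1 (memCent D x a)) = _
    rw [Nat.card_coe_set_eq, Nat.card_coe_set_eq, Set.ncard_insert_of_notMem h1 (Set.toFinite _)]
  · haveI : Fact (Nat.Prime 2) := ⟨Nat.prime_two⟩
    have hE : IsPGroup 2 E := fun g => ⟨1, Subtype.ext (by
      show (g : G) ^ (2 ^ 1) = 1
      rcases g.2 with h | h
      · rw [h, one_pow]
      · rw [pow_one, pow_two, invol_mul_self (hM.act.invol _ h.1.1)])⟩
    exact IsPGroup.iff_card.1 hE

/-- The members centralising `x g`, for a member `g` at `a` centralising `x`, are those of `x`. -/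
theorem memCent_mul {x g : G} {a : Ω} (hx : Bad G Ω x) (ha : x • a = a)
    (hg : g ∈ memCent D x a) : memCent D (x * g) a = memCent D x a := by
  haveI := hM.faithful
  have hgg := invol_mul_self (hM.act.invol g hg.1.1)
  have hv : Bad G Ω (x * g) := hM.act.toPre.bad_mul hx hg.1.1 hg.2
  have hva : (x * g) • a = a := by rw [mul_smul, hg.1.2, ha]
  have hgv : g ∈ memCent D (x * g) a := ⟨hg.1, hg.2.mul_right (Commute.refl g)⟩
  ext d
  refine ⟨fun hd => ⟨hd.1, ?_⟩, fun hd => ⟨hd.1, hd.2.mul_right (hC x a hx ha d hd g hg)⟩⟩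
  have := hd.2.mul_right (hC (x * g) a hv hva d hd g hgv)
  rwa [mul_assoc, hgg, mul_one] at this

/-- **Translations.**  The products of `x` with the members at `a` centralising it are conjugate to
`x` under elements fixing `a` and normalising these members. -/
theorem translate {x : G} {a : Ω} (hx : Bad G Ω x) (ha : x • a = a) (hfour : FourAt D x a)
    {d : G} (hd : d ∈ memCent D x a) : ∃ s : G, s • a = a ∧
      (∀ f ∈ memCent D x a, s * f * s⁻¹ ∈ memCent D x a) ∧ s * x * s⁻¹ = x * d := by
  haveI := hM.faithful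
  obtain ⟨g, hg, hgd⟩ : ∃ g ∈ memCent D x a, g ≠ d := by
    obtain ⟨e₁, he₁, e₂, he₂, hne, -⟩ := hfour
    rcases eq_or_ne e₁ d with rfl | h
    · exact ⟨e₂, he₂, hne.symm⟩
    · exact ⟨e₁, he₁, h⟩
  have hd' : g * d ∈ memCent D x a := mul_mem_memCent hM hC hx ha hg hd hgd
  have hgg := invol_mul_self (hM.act.invol g hg.1.1)
  have hv : Bad G Ω (x * g) := hM.act.toPre.bad_mul hx hg.1.1 hg.2
  obtain ⟨s, hs, hs'⟩ := hM.act.toPre.loc_transitive hv hg.1.1
    (hg.2.mul_right (Commute.refl g)) hd'.1.1
    (hd'.2.mul_right (hC x a hx ha _ hd' g hg))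
  have hsa : s • a = a := by
    refine hM.act.toPre.eq_of_fix (x := s • a) hd'.1.1 ?_ hd'.1.2
    rw [← hs', mul_smul, mul_smul, inv_smul_smul, hg.1.2]
  refine ⟨s, hsa, fun f hf => ?_, ?_⟩
  · rw [← memCent_mul hM hC hx ha hg] at hf ⊢
    have h := conj_memCent hM (g := s) hf
    rwa [hs.eq, mul_inv_cancel_right, hsa] at h
  · calc s * x * s⁻¹ = s * (x * g) * s⁻¹ * (s * g * s⁻¹)⁻¹ := by group
      _ = x * g * (g * d)⁻¹ := by rw [hs.eq, mul_inv_cancel_right, hs']
      _ = x * d⁻¹ := by rw [(hC x a hx ha g hg d hd).eq]; group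
      _ = x * d := by rw [invol_inv (hM.act.invol d hd.1.1)]

/-- `x g` fixes as many points as `x`. -/
theorem card_fix_mul {x g : G} {a : Ω} (hx : Bad G Ω x) (ha : x • a = a) (hfour : FourAt D x a)
    (hg : g ∈ memCent D x a) :
    Nat.card {p : Ω // (x * g) • p = p} = Nat.card {p : Ω // x • p = p} := by
  obtain ⟨s, -, -, hs⟩ := translate hM hC hx ha hfour hg
  rw [← hs]
  refine Nat.card_congr (Equiv.subtypeEquiv (MulAction.toPerm s⁻¹) fun p => ?_)
  show (s * x * s⁻¹) • p = p ↔ x • s⁻¹ • p = s⁻¹ • p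
  rw [mul_smul, mul_smul, ← eq_inv_smul_iff]

omit hC in
/-- An element inverted by a member and centralised by a member at another point has square one. -/
theorem sq_eq_one_of_inverted {w d k : G} {p q : Ω} (hw : w ∈ memAt G D p) (hd : d ∈ memAt G D q)
    (hpq : q ≠ p) (hinv : w * k * w⁻¹ = k⁻¹) (hc : Commute d k) : k * k = 1 := by
  obtain ⟨g, hg, hgd⟩ := exists_conj_of_odd (invol_mul_self (hM.act.invol d hd.1))
    (invol_mul_self (hM.act.invol w hw.1)) (hM.act.toPre.odd_mul hd.1 hd.2 hw.1 hw.2 hpq)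
  set Z := Subgroup.zpowers k
  have hN : g ∈ Subgroup.normalizer (Z : Set G) := by
    refine (Subgroup.closure_le _).2 ?_ hg
    have hmap : ∀ z : G, (z * k * z⁻¹ = k ∨ z * k * z⁻¹ = k⁻¹) →
        z ∈ Subgroup.normalizer (Z : Set G) := fun z hz => by
      rw [Subgroup.mem_normalizer_iff_map_conj_eq, MonoidHom.map_zpowers]
      show Subgroup.zpowers (z * k * z⁻¹) = Z
      rcases hz with hz | hz <;> rw [hz]
      exact Subgroup.zpowers_inv
    rintro z (rfl | rfl)
    · exact hmap _ (Or.inl (by rw [hc.eq, mul_inv_cancel_right]))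
    · exact hmap _ (Or.inr hinv)
  obtain ⟨i, hi⟩ := (Subgroup.mem_normalizer_iff''.1 hN k).1 (Subgroup.mem_zpowers k)
  have hi' : (g * k * g⁻¹) ^ i = k := by
    rw [conj_zpow]
    simp only at hi
    rw [hi]; group
  have hwk : Commute w k := by
    rw [← hi']
    refine Commute.zpow_right ?_ i
    rw [← hgd]
    show g * d * g⁻¹ * (g * k * g⁻¹) = g * k * g⁻¹ * (g * d * g⁻¹)
    calc g * d * g⁻¹ * (g * k * g⁻¹) = g * (d * k) * g⁻¹ := by group
      _ = g * (k * d) * g⁻¹ := by rw [hc.eq]
      _ = _ := by group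
  rw [hwk.eq, mul_inv_cancel_right] at hinv
  exact mul_eq_one_iff_eq_inv.2 hinv

variable (hfour : ∀ (x : G) (a : Ω), Bad G Ω x → x • a = a → FourAt D x a)
include hfour

/-- The swappers of a moved pair commuting with `x` partition the members at the moved point. -/
theorem card_memAt_eq {x : G} {a c : Ω} (hx : Bad G Ω x) (ha : x • a = a) (hc : x • c ≠ c) :
    Nat.card (memAt G D c) = Nat.card {g : G // g ∈ memSwap G D c (x • c) ∧ Commute g x} *
      Nat.card (memCent D x a) := by
  haveI := hM.faithful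
  have P := hM.act.toPre
  have hxx := invol_mul_self hx.invol
  set W := {g : G // g ∈ memSwap G D c (x • c) ∧ Commute g x}
  have hfix : ∀ g : W, (x * g.1) • c = c := fun g => by
    rw [mul_smul, g.2.1.2, smul_smul, hxx, one_smul]
  have hcard : ∀ g : W, Nat.card (memCent D (x * g.1) c) = Nat.card (memCent D x a) := by
    intro g
    obtain ⟨p, hp⟩ := (P.one g.1 g.2.1.1).exists
    have hxp : x • p = p := P.smul_eq_of_commute g.2.1.1 hp g.2.2
    have hgp : g.1 ∈ memCent D x p := ⟨⟨g.2.1.1, hp⟩, g.2.2⟩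
    rw [card_memCent_point hM (P.bad_mul hx g.2.1.1 g.2.2) (hfix g)
      (show (x * g.1) • p = p by rw [mul_smul, hp, hxp]),
      memCent_mul hM hC hx hxp hgp, card_memCent_point hM hx hxp ha]
  let σ : (Σ g : W, memCent D (x * g.1) c) → memAt G D c := fun p => ⟨p.2.1, p.2.2.1⟩
  have hσ : Function.Bijective σ := by
    constructor
    · rintro ⟨⟨g, hg, hgx⟩, d, hd⟩ ⟨⟨g', hg', hgx'⟩, d', hd'⟩ h
      obtain rfl : d = d' := congrArg Subtype.val h
      have key : ∀ {v : G}, v ∈ memSwap G D c (x • c) → d ∈ memCent D (x * v) c →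
          v * d * v⁻¹ = x * d * x⁻¹ := by
        intro v hv hdv
        have h1 : x * v * d = d * (x * v) := hdv.2.symm.eq
        rw [invol_inv hx.invol]
        calc v * d * v⁻¹ = x * x * (v * d * v⁻¹) := by rw [hxx, one_mul]
          _ = x * (x * v * d) * v⁻¹ := by group
          _ = x * d * x := by rw [h1]; group
      obtain rfl : g = g' := P.swap_unique (Ne.symm hc) hd.1 hg hg'
        ((key hg hd).trans (key hg' hd').symm)
      rfl
    · rintro ⟨d, hd⟩
      have hd' : x * d * x⁻¹ ∈ memAt G D (x • c) := P.conj_mem_memAt hd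
      obtain ⟨w, hwD, hwc, hwd⟩ := P.exists_swap hd hd' (Ne.symm hc)
      obtain ⟨p, hp⟩ := (P.one w hwD).exists
      have hcp : c ≠ p := fun e => hc (by rw [← hwc, e, hp])
      set k := w * x with hk
      have hdk : Commute d k := by
        have h1 : x * d * x⁻¹ = w * d * w⁻¹ := hwd.symm
        show d * (w * x) = w * x * d
        calc d * (w * x) = w * (w * d * w⁻¹) * x := by
              rw [invol_inv (P.invol w hwD)]
              calc d * (w * x) = (w * w) * d * (w * x) := by rw [invol_mul_self (P.invol w hwD), one_mul]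
                _ = _ := by group
          _ = w * (x * d * x⁻¹) * x := by rw [h1]
          _ = w * x * d := by group
      have hinv : w * k * w⁻¹ = k⁻¹ := by
        rw [hk, mul_inv_rev, invol_inv (P.invol w hwD), invol_inv hx.invol, ← mul_assoc,
          invol_mul_self (P.invol w hwD), one_mul]
      have hkk := sq_eq_one_of_inverted hM ⟨hwD, hp⟩ hd hcp hinv hdk
      have hwx : Commute w x := by
        show w * x = x * w
        rw [← hk, eq_inv_of_mul_eq_one_left hkk, hk, mul_inv_rev, invol_inv (P.invol w hwD),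
          invol_inv hx.invol]
      exact ⟨⟨⟨w, ⟨hwD, hwc⟩, hwx⟩, d, hd, by rw [← hwx.eq]; exact hdk⟩, rfl⟩
  haveI : Fintype W := Fintype.ofFinite W
  rw [← Nat.card_eq_of_bijective σ hσ, Nat.card_sigma, Finset.sum_congr rfl fun g _ => hcard g,
    Finset.sum_const, Finset.card_univ, smul_eq_mul, ← Nat.card_eq_fintype_card]

/-- **The double count.** -/
theorem double_count {x : G} {a : Ω} (hx : Bad G Ω x) (ha : x • a = a) :
    ∃ r : ℕ, Nat.card (memAt G D a) = Nat.card (memCent D x a) * r ∧ Odd r ∧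
      (Nat.card Ω - 1) * r = (Nat.card {p : Ω // x • p = p} - 1) *
        (r + Nat.card {p : Ω // x • p = p} * Nat.card (memCent D x a)) := by
  haveI := hM.faithful
  haveI := finite_points hM
  have P := hM.act.toPre
  haveI : Fintype Ω := Fintype.ofFinite Ω
  set B := Nat.card (memCent D x a) with hB
  set k := Nat.card {p : Ω // x • p = p} with hk
  obtain ⟨c₀, hc₀⟩ := Pre.exists_moved (invol_ne_one hx.invol) hM.faithful
  set r := Nat.card {g : G // g ∈ memSwap G D c₀ (x • c₀) ∧ Commute g x} with hr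
  have hm : Nat.card (memAt G D a) = B * r := by
    rw [P.card_memAt a c₀, card_memAt_eq hM hC hfour hx ha hc₀, mul_comm]
  have hodd : Odd (Nat.card (memAt G D a)) := P.odd a
  have hr' : ∀ c : Ω, x • c ≠ c →
      Nat.card {g : G // g ∈ memSwap G D c (x • c) ∧ Commute g x} = r := by
    intro c hc
    have h1 := card_memAt_eq hM hC hfour hx ha hc
    rw [← P.card_memAt a c, hm, mul_comm] at h1
    refine (Nat.eq_of_mul_eq_mul_right ?_ h1).symm
    exact Nat.pos_of_ne_zero fun e => by
      rw [hm] at hodd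
      exact (Nat.odd_mul.1 hodd).1.pos.ne' e
  set S := {g : G // g ∈ D ∧ Commute g x}
  set M := {c : Ω // x • c ≠ c}
  let T := {p : M × S // p.2.1 • p.1.1 = x • p.1.1}
  haveI : Fintype M := Fintype.ofFinite M
  haveI : Fintype S := Fintype.ofFinite S
  haveI : Fintype {p : Ω // x • p = p} := Fintype.ofFinite _
  -- by points
  have hT1 : Nat.card T = Nat.card M * r := by
    rw [Nat.card_congr (show T ≃ Σ c : M, {g : S // g.1 • c.1 = x • c.1} from
      { toFun := fun t => ⟨t.1.1, t.1.2, t.2⟩
        invFun := fun t => ⟨(t.1, t.2.1), t.2.2⟩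
        left_inv := fun t => rfl
        right_inv := fun t => rfl }), Nat.card_sigma,
      Finset.sum_congr rfl fun c _ => (Nat.card_congr
        (show {g : S // g.1 • c.1 = x • c.1} ≃
          {g : G // g ∈ memSwap G D c.1 (x • c.1) ∧ Commute g x} from
          { toFun := fun g => ⟨g.1.1, ⟨g.1.2.1, g.2⟩, g.1.2.2⟩
            invFun := fun g => ⟨⟨g.1, g.2.1.1, g.2.2⟩, g.2.1.2⟩
            left_inv := fun g => rfl
            right_inv := fun g => rfl })).trans (hr' c.1 c.2),
      Finset.sum_const, Finset.card_univ, smul_eq_mul, ← Nat.card_eq_fintype_card]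
  -- by members
  have hS : Nat.card S = k * B := by
    choose pt hpt using fun g : S => (P.one g.1 g.2.1).exists
    rw [Nat.card_congr (show S ≃ Σ p : {p : Ω // x • p = p}, memCent D x p.1 from
      { toFun := fun g => ⟨⟨pt g, P.smul_eq_of_commute g.2.1 (hpt g) g.2.2⟩, g.1,
          ⟨g.2.1, hpt g⟩, g.2.2⟩
        invFun := fun q => ⟨q.2.1, q.2.2.1.1, q.2.2.2⟩
        left_inv := fun g => rfl
        right_inv := fun ⟨⟨p, hp⟩, d, hd⟩ => by
          have hmem : d ∈ D ∧ Commute d x := ⟨hd.1.1, hd.2⟩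
          have e : pt ⟨d, hmem⟩ = p := P.eq_of_fix hmem.1 (hpt ⟨d, hmem⟩) hd.1.2
          subst e
          rfl }), Nat.card_sigma,
      Finset.sum_congr rfl fun p _ => (card_memCent_point hM hx p.2 ha), Finset.sum_const,
      Finset.card_univ, smul_eq_mul, hk, ← Nat.card_eq_fintype_card]
  have hT2 : Nat.card T = Nat.card S * (k - 1) := by
    rw [Nat.card_congr (show T ≃ Σ g : S, {c : M // g.1 • c.1 = x • c.1} from
      { toFun := fun t => ⟨t.1.2, t.1.1, t.2⟩
        invFun := fun t => ⟨(t.2.1, t.1), t.2.2⟩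
        left_inv := fun t => rfl
        right_inv := fun t => rfl }), Nat.card_sigma]
    have hfib : ∀ g : S, Nat.card {c : M // g.1 • c.1 = x • c.1} = k - 1 := by
      rintro ⟨g, hgD, hgx⟩
      obtain ⟨p, hp⟩ := (P.one g hgD).exists
      have hxp : x • p = p := P.smul_eq_of_commute hgD hp hgx
      have hvp : (x * g) • p = p := by rw [mul_smul, hp, hxp]
      rw [hk, ← card_fix_mul hM hC hx hxp (hfour x p hx hxp) ⟨⟨hgD, hp⟩, hgx⟩,
        Nat.card_congr (show {c : M // g • c.1 = x • c.1} ≃
          ↥({c : Ω | (x * g) • c = c} \ {p}) from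
          { toFun := fun c => ⟨c.1.1, by
              show (x * g) • c.1.1 = c.1.1
              rw [mul_smul, c.2, smul_smul, invol_mul_self hx.invol, one_smul],
              fun e : c.1.1 = p => c.1.2 (by rw [e, hxp])⟩
            invFun := fun c => ⟨⟨c.1, fun e => c.2.2 (by
              have h1 : (x * g) • c.1 = c.1 := c.2.1
              refine P.eq_of_fix hgD ?_ hp
              rw [mul_smul, ← eq_inv_smul_iff, invol_inv hx.invol, e] at h1
              exact h1)⟩, by
                have h1 : (x * g) • c.1 = c.1 := c.2.1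
                rwa [mul_smul, ← eq_inv_smul_iff, invol_inv hx.invol] at h1⟩
            left_inv := fun c => rfl
            right_inv := fun c => rfl }), Nat.card_coe_set_eq,
        Set.ncard_diff_singleton_of_mem (show p ∈ {c : Ω | (x * g) • c = c} from hvp),
        ← Nat.card_coe_set_eq]
      rfl
    rw [Finset.sum_congr rfl fun g _ => hfib g, Finset.sum_const, Finset.card_univ, smul_eq_mul,
      ← Nat.card_eq_fintype_card]
  have hM' : Nat.card M + k = Nat.card Ω := by
    classical
    rw [hk, Nat.card_eq_fintype_card, Nat.card_eq_fintype_card, Nat.card_eq_fintype_card,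
      Fintype.card_subtype_compl, Nat.sub_add_cancel (Fintype.card_subtype_le _)]
  have hk1 : 1 ≤ k := by
    haveI : Nonempty {p : Ω // x • p = p} := ⟨⟨a, ha⟩⟩
    exact Nat.card_pos
  refine ⟨r, hm, ?_, ?_⟩
  · rw [hm] at hodd
    exact (Nat.odd_mul.1 hodd).2
  · rw [show Nat.card Ω - 1 = Nat.card M + (k - 1) by omega, add_mul, ← hT1, hT2, hS]
    ring

end Cfsg.Agent.Lib.Crit5.CountsB
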