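import Cfsg.Agent.Lib.Crit5.Facts
import Cfsg.Agent.Lib.IsolatedInvolution.InvariantSylow
import Cfsg.Agent.Lib.Cores.Pi

/-!
# The single fixed point criterion: swappers and odd cores (section F)

`pairCore` (F4), the triangle lemma F5, and the kernel of the action has odd order (with no
faithfulness): a member is isolated in `K⟨d⟩`, so by Z* the local group of an involution `t` of the
kernel `K` covers `G` modulo `O(K)` and contains `t`.
-/

set_option autoImplicit false
set_option linter.style.haveILetI false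

namespace Cfsg.Agent.Lib.Crit5.Facts

open MulAction Subgroup Cfsg.Agent.Lib.Involutions.Basic
open Cfsg.Agent.Lib.Crit8 (Pre Action Bad memAt memSwap loc part)

universe u

variable {G Ω : Type*} [Group G] [MulAction G Ω] [Finite G]

/-- The odd core of a subgroup, as a subgroup of `G`. -/
abbrev oddC (K : Subgroup G) : Subgroup G := (Cfsg.oddCore ↥K).map K.subtype

omit [MulAction G Ω] in
theorem oddC_odd (K : Subgroup G) : Odd (Nat.card (oddC K)) := by
  rw [card_map_of_injective K.subtype_injective]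
  exact Cores.oddCore_odd

omit [MulAction G Ω] in
/-- A subgroup of `K` normalised by `K` of odd order is in the odd core. -/
theorem le_oddC {K N : Subgroup G} (hNK : N ≤ K) (hN : ∀ k ∈ K, ∀ n ∈ N, k * n * k⁻¹ ∈ N)
    (hodd : Odd (Nat.card N)) : N ≤ oddC K := by
  intro n hn
  haveI : (N.subgroupOf K).Normal := ⟨fun x hx g => hN g g.2 x hx⟩
  exact ⟨⟨n, hNK hn⟩, Cores.le_oddCore (N := N.subgroupOf K)
    (by rwa [Nat.card_congr (subgroupOfEquivOfLe hNK).toEquiv]) hn, rfl⟩

omit [MulAction G Ω] in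
theorem conj_mem_oddC {K : Subgroup G} {k x : G} (hk : k ∈ K) (hx : x ∈ oddC K) :
    k * x * k⁻¹ ∈ oddC K := by
  obtain ⟨y, hy, rfl⟩ := hx
  haveI : (Cfsg.oddCore ↥K).Normal := by unfold Cfsg.oddCore; infer_instance
  exact ⟨⟨k, hk⟩ * y * ⟨k, hk⟩⁻¹, (inferInstance : (Cfsg.oddCore ↥K).Normal).conj_mem y hy _, rfl⟩

omit [MulAction G Ω] in
/-- An isolated involution normalising `K` is central modulo the odd core of `K`. -/
theorem commutator_mem_oddC {X K : Subgroup G} (hKX : K ≤ X) {w : G} (hw : orderOf w = 2)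
    (hwX : w ∈ X) (hnorm : ∀ x ∈ X, ∀ k ∈ K, x * k * x⁻¹ ∈ K)
    (hiso : ∀ x ∈ X, Commute w (x * w * x⁻¹) → x * w * x⁻¹ = w) {k : G} (hk : k ∈ K) :
    w * k * w⁻¹ * k⁻¹ ∈ oddC K := by
  have hwz : Cfsg.IsIsolatedInvolution (⟨w, hwX⟩ : X) :=
    ⟨by rw [orderOf_mk, hw], fun x hx => Subtype.ext (hiso x x.2 (congrArg Subtype.val hx.eq))⟩
  have h1 := IsolatedInvolution.InvariantSylow.commutator_mem hwz ⟨k, hKX hk⟩
  have h2 : w * k * w⁻¹ * k⁻¹ ∈ oddC X ⊓ K :=
    mem_inf.2 ⟨⟨_, h1, rfl⟩, mul_mem (hnorm w hwX k hk) (inv_mem hk)⟩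
  exact le_oddC inf_le_right
    (fun x hx n hn => mem_inf.2
      ⟨conj_mem_oddC (hKX hx) hn.1, mul_mem (mul_mem hx (mem_inf.1 hn).2) (inv_mem hx)⟩)
    ((oddC_odd X).of_dvd_nat (card_dvd_of_le inf_le_left)) h2

/-- The elements preserving the pair. -/
def pairGrp (G : Type*) {Ω : Type*} [Group G] [MulAction G Ω] (a b : Ω) : Subgroup G where
  carrier := {g | (g • a = a ∧ g • b = b) ∨ (g • a = b ∧ g • b = a)}
  one_mem' := Or.inl ⟨one_smul _ _, one_smul _ _⟩
  mul_mem' := by
    rintro x y (⟨hx, hx'⟩ | ⟨hx, hx'⟩) (⟨hy, hy'⟩ | ⟨hy, hy'⟩) <;>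
      simp only [Set.mem_ofPred_eq, mul_smul, hy, hy', hx, hx', and_self, true_or, or_true]
  inv_mem' := by
    rintro x (⟨hx, hx'⟩ | ⟨hx, hx'⟩)
    · exact Or.inl ⟨by rw [inv_smul_eq_iff, hx], by rw [inv_smul_eq_iff, hx']⟩
    · exact Or.inr ⟨by rw [inv_smul_eq_iff, hx'], by rw [inv_smul_eq_iff, hx]⟩

section Pair

variable [FaithfulSMul G Ω] {D : Set G} (h : Action G Ω D) {a b : Ω} (hab : a ≠ b)
include h hab

/-- Two swappers of a pair do not commute. -/
theorem swap_eq_of_commute {v w : G} (hv : v ∈ memSwap G D a b) (hw : w ∈ memSwap G D a b)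
    (hc : Commute v w) : v = w := by
  by_contra hne
  have hD := h.mul_mem_D hv.1 hw.1 hne hc
  refine hab (h.eq_of_fix hD ?_ ?_)
  · rw [mul_smul, hw.2, h.memSwap_smul hv]
  · rw [mul_smul, h.memSwap_smul hw, hv.2]

/-- Two swappers of a pair have product of odd order. -/
theorem odd_mul_swap {v w : G} (hv : v ∈ memSwap G D a b) (hw : w ∈ memSwap G D a b) :
    Odd (orderOf (v * w)) := by
  by_contra hev
  rw [Nat.not_odd_iff_even] at hev
  obtain ⟨hz, hzv, -⟩ := central_invol (h.invol v hv.1) (h.invol w hw.1) hev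
  have hvz := Crit8.exists_mul_invol h.conj hv.1 hw.1 (h.invol v hv.1) (h.invol w hw.1) hev
  have hfix : ∀ x : Ω, (v * w) • x = x → ((v * w) ^ (orderOf (v * w) / 2)) • x = x :=
    fun x hx => (stabilizer G x).pow_mem hx _
  refine invol_ne_one hz (mul_left_cancel (a := v) ?_)
  rw [mul_one]
  refine (swap_eq_of_commute h hab ⟨hvz, ?_⟩ hv ((Commute.refl v).mul_left hzv))
  rw [mul_smul, hfix a (by rw [mul_smul, hw.2, h.memSwap_smul hv]), hv.2]

/-- A swapper centralises the pair stabiliser modulo its odd core. -/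
theorem swap_commutator {w : G} (hw : w ∈ memSwap G D a b) {k : G}
    (hk : k ∈ stabilizer G a ⊓ stabilizer G b) :
    w * k * w⁻¹ * k⁻¹ ∈ oddC (stabilizer G a ⊓ stabilizer G b) := by
  have hwb := h.memSwap_smul hw
  refine commutator_mem_oddC (X := pairGrp G a b) (K := stabilizer G a ⊓ stabilizer G b)
    (fun x hx => Or.inl ⟨hx.1, hx.2⟩) (h.invol w hw.1)
    (Or.inr ⟨hw.2, hwb⟩) ?_ ?_ hk
  · rintro x hx y ⟨hy, hy'⟩
    have hya : y • a = a := hy
    have hyb : y • b = b := hy'
    rcases hx with ⟨hxa, hxb⟩ | ⟨hxa, hxb⟩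
    · refine ⟨?_, ?_⟩
      · show (x * y * x⁻¹) • a = a
        rw [mul_smul, mul_smul, inv_smul_eq_iff.2 hxa.symm, hya, hxa]
      · show (x * y * x⁻¹) • b = b
        rw [mul_smul, mul_smul, inv_smul_eq_iff.2 hxb.symm, hyb, hxb]
    · refine ⟨?_, ?_⟩
      · show (x * y * x⁻¹) • a = a
        rw [mul_smul, mul_smul, inv_smul_eq_iff.2 hxb.symm, hyb, hxb]
      · show (x * y * x⁻¹) • b = b
        rw [mul_smul, mul_smul, inv_smul_eq_iff.2 hxa.symm, hya, hxa]
  · intro x hx hc
    refine (swap_eq_of_commute h hab hw ⟨h.conj x w hw.1, ?_⟩ hc).symm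
    rcases hx with ⟨hxa, hxb⟩ | ⟨hxa, hxb⟩
    · rw [mul_smul, mul_smul, inv_smul_eq_iff.2 hxa.symm, hw.2, hxb]
    · rw [mul_smul, mul_smul, inv_smul_eq_iff.2 hxb.symm, hwb, hxa]

/-- Swappers are conjugate under the odd core of the pair stabiliser. -/
theorem swap_conj {v w : G} (hv : v ∈ memSwap G D a b) (hw : w ∈ memSwap G D a b) :
    ∃ k ∈ oddC (stabilizer G a ⊓ stabilizer G b), k * w * k⁻¹ = v := by
  set O := oddC (stabilizer G a ⊓ stabilizer G b) with hO
  have hww := invol_mul_self (h.invol w hw.1)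
  have hvv := invol_mul_self (h.invol v hv.1)
  have hrK : w * v ∈ stabilizer G a ⊓ stabilizer G b := by
    refine ⟨?_, ?_⟩
    · show (w * v) • a = a
      rw [mul_smul, hv.2, h.memSwap_smul hw]
    · show (w * v) • b = b
      rw [mul_smul, h.memSwap_smul hv, hw.2]
  obtain ⟨n, hn⟩ := odd_mul_swap h hab hw hv
  have hr1 : (w * v) ^ (2 * n + 1) = 1 := by rw [← hn, pow_orderOf_eq_one]
  have hr2 : (w * v) ^ 2 ∈ O := by
    have h1 := swap_commutator h hab hw hrK
    have e : w * (w * v) * w⁻¹ * (w * v)⁻¹ = ((w * v) ^ 2)⁻¹ := by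
      rw [invol_inv (h.invol w hw.1), invert_mul hww hvv, pow_two, mul_inv_rev (w * v) (w * v)]
    rw [e] at h1
    exact inv_mem_iff.1 h1
  have hr : w * v ∈ O := by
    have h1 := pow_mem hr2 (n + 1)
    rwa [← pow_mul, show 2 * (n + 1) = 2 * n + 1 + 1 by ring, pow_succ, hr1, one_mul] at h1
  refine ⟨(w * v) ^ (n : ℤ), zpow_mem hr _, ?_⟩
  have hflip := invert_comm hww (invert_mul hww hvv) (n : ℤ)
  rw [hflip, mul_assoc, ← zpow_neg, ← zpow_add,
    show -(n : ℤ) + -(n : ℤ) = 1 + -((2 * n + 1 : ℕ) : ℤ) by push_cast; ring, zpow_add, zpow_one,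
    zpow_neg, zpow_natCast, hr1, inv_one, mul_one, ← mul_assoc, hww, one_mul]

/-- F5: the pair stabiliser is its odd core times the stabiliser of the fixed point of a
swapper. -/
theorem triangle {w : G} (hw : w ∈ memSwap G D a b) {c : Ω} (hc : w • c = c) {k : G}
    (hk : k ∈ stabilizer G a ⊓ stabilizer G b) :
    ∃ o ∈ oddC (stabilizer G a ⊓ stabilizer G b),
      o⁻¹ * k ∈ stabilizer G a ⊓ stabilizer G b ∧ o⁻¹ * k ∈ stabilizer G c ∧
        Commute (o⁻¹ * k) w := by
  have hv : k * w * k⁻¹ ∈ memSwap G D a b := by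
    refine ⟨h.conj k w hw.1, ?_⟩
    rw [mul_smul, mul_smul, inv_smul_eq_iff.2 (hk.1 : k • a = a).symm, hw.2]
    exact hk.2
  obtain ⟨o, ho, hoe⟩ := swap_conj h hab hv hw
  have hcomm : Commute (o⁻¹ * k) w := by
    refine mul_inv_eq_iff_eq_mul.1 ?_
    calc o⁻¹ * k * w * (o⁻¹ * k)⁻¹ = o⁻¹ * (k * w * k⁻¹) * o := by group
      _ = o⁻¹ * (o * w * o⁻¹) * o := by rw [hoe]
      _ = w := by group
  refine ⟨o, ho, mul_mem (inv_mem (map_subtype_le _ ho)) hk, ?_, hcomm⟩
  exact h.smul_eq_of_commute hw.1 hc hcomm.symm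

/-- F5: the odd core of the three point stabiliser is in that of the pair stabiliser. -/
theorem oddC_triple_le {w : G} (hw : w ∈ memSwap G D a b) {c : Ω} (hc : w • c = c) :
    oddC (stabilizer G a ⊓ stabilizer G b ⊓ stabilizer G c) ≤
      oddC (stabilizer G a ⊓ stabilizer G b) := by
  set K := stabilizer G a ⊓ stabilizer G b with hK
  set L := K ⊓ stabilizer G c with hL
  have hONK : oddC L ⊔ oddC K ≤ K :=
    sup_le ((map_subtype_le _).trans inf_le_left) (map_subtype_le _)
  have hNnorm : oddC L ≤ normalizer (oddC K : Set G) := by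
    intro x hx
    have hxK : x ∈ K := ((map_subtype_le _) hx).1
    exact mem_normalizer_iff.2 fun y => ⟨conj_mem_oddC hxK,
      fun hy => by simpa [mul_assoc] using conj_mem_oddC (inv_mem hxK) hy⟩
  refine le_sup_left.trans (le_oddC hONK (fun k hk n hn => ?_) ?_)
  · obtain ⟨o, ho, hoK, hoc, -⟩ := triangle h hab hw hc hk
    set l := o⁻¹ * k with hl
    have hlL : l ∈ L := ⟨hoK, hoc⟩
    rw [← SetLike.mem_coe, coe_mul_of_left_le_normalizer_right _ _ hNnorm, Set.mem_mul] at hn
    obtain ⟨x, hx, y, hy, rfl⟩ := hn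
    have e : k * (x * y) * k⁻¹ = o * (l * x * l⁻¹) * (l * y * l⁻¹) * o⁻¹ := by rw [hl]; group
    rw [e]
    exact mul_mem (mul_mem (mul_mem (mem_sup_right ho) (mem_sup_left (conj_mem_oddC hlL hx)))
      (mem_sup_right (conj_mem_oddC hoK hy))) (inv_mem (mem_sup_right ho))
  · haveI : ((oddC K).subgroupOf K).Normal := ⟨fun x hx g => conj_mem_oddC g.2 hx⟩
    have h1 := Cores.card_sup_dvd_mul ((oddC L).subgroupOf K) ((oddC K).subgroupOf K)
    rw [← subgroupOf_sup ((map_subtype_le _).trans inf_le_left) (map_subtype_le _),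
      Nat.card_congr (subgroupOfEquivOfLe hONK).toEquiv,
      Nat.card_congr (subgroupOfEquivOfLe ((map_subtype_le _).trans inf_le_left)).toEquiv,
      Nat.card_congr (subgroupOfEquivOfLe (map_subtype_le _)).toEquiv] at h1
    exact ((oddC_odd L).mul (oddC_odd K)).of_dvd_nat h1

/-- F5: the odd core of the next pair of the triangle fixing the first pair is in its odd core. -/
theorem oddC_next_le {w : G} (hw : w ∈ memSwap G D a b) {c : Ω} (hc : w • c = c) :
    oddC (stabilizer G c ⊓ stabilizer G a) ⊓ stabilizer G b ≤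
      oddC (stabilizer G a ⊓ stabilizer G b) ⊓ stabilizer G c := by
  intro x hx
  have hxK := map_subtype_le _ hx.1
  refine ⟨oddC_triple_le h hab hw hc (le_oddC
    (K := stabilizer G a ⊓ stabilizer G b ⊓ stabilizer G c)
    (N := oddC (stabilizer G c ⊓ stabilizer G a) ⊓ stabilizer G b)
    (fun y hy => ⟨⟨(map_subtype_le _ hy.1).2, hy.2⟩, (map_subtype_le _ hy.1).1⟩)
    (fun k hk y hy => mem_inf.2 ⟨conj_mem_oddC (mem_inf.2 ⟨hk.2, hk.1.1⟩) hy.1,
      mul_mem (mul_mem hk.1.2 (mem_inf.1 hy).2) (inv_mem (show k ∈ stabilizer G b from hk.1.2))⟩)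
    ((oddC_odd _).of_dvd_nat (card_dvd_of_le inf_le_left)) hx), hxK.1⟩

end Pair

/-- The kernel of the action has no involution (faithfulness is not assumed). -/
theorem exists_moved_of_top {D : Set G} (h : Action G Ω D) (htop : closure D = ⊤) {t : G}
    (ht : orderOf t = 2) : ∃ x : Ω, t • x ≠ x := by
  by_contra hall
  push Not at hall
  set K : Subgroup G := (toPermHom G Ω).ker with hK
  have hmem : ∀ {g : G}, g ∈ K ↔ ∀ x : Ω, g • x = x := fun {g} => by
    rw [hK, MonoidHom.mem_ker]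
    exact ⟨fun e x => by simpa using Equiv.congr_fun e x, fun e => Equiv.ext fun x => by simpa using e x⟩
  haveI := h.nontrivial
  obtain ⟨p, q, hpq⟩ := exists_pair_ne Ω
  have hbad : ∀ y ∈ K, orderOf y = 2 → Bad G Ω y :=
    fun y hy hy2 => ⟨hy2, p, q, hpq, hmem.1 hy p, hmem.1 hy q⟩
  have htK : t ∈ K := hmem.2 hall
  have hnK : ∀ g : G, ∀ k ∈ K, g * k * g⁻¹ ∈ K :=
    fun g k hk => (inferInstance : (toPermHom G Ω).ker.Normal).conj_mem k hk g
  -- a member is isolated in `K ⟨d⟩`
  have hcomm : ∀ d ∈ D, ∀ k ∈ K, d * k * d⁻¹ * k⁻¹ ∈ oddC K := by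
    intro d hd k hk
    refine commutator_mem_oddC (X := K ⊔ zpowers d) le_sup_left (h.invol d hd)
      (mem_sup_right (mem_zpowers d)) (fun x _ y hy => hnK x y hy) (fun x hx hc => ?_) hk
    set π := QuotientGroup.mk' (toPermHom G Ω).ker with hπ
    have hxd : Commute (π x) (π d) := by
      have hle : K ⊔ zpowers d ≤ (centralizer {π d}).comap π :=
        sup_le (fun y hy => mem_centralizer_singleton_iff.2 (by
            rw [show π y = 1 from (QuotientGroup.eq_one_iff y).2 hy, one_mul, mul_one]))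
          (zpowers_le.2 (mem_centralizer_singleton_iff.2 rfl))
      exact mem_centralizer_singleton_iff.1 (hle hx)
    have hcd : x * d * x⁻¹ * d ∈ K := by
      refine (QuotientGroup.eq_one_iff _).1 ?_
      show π (x * d * x⁻¹ * d) = 1
      rw [map_mul, map_mul, map_mul, map_inv, hxd.eq, mul_inv_cancel_right, ← map_mul,
        invol_mul_self (h.invol d hd), map_one]
    by_contra hne
    have he2 : orderOf (x * d * x⁻¹ * d) = 2 := by
      have hee := invol_mul_self (h.invol _ (h.conj x d hd))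
      have hdd := invol_mul_self (h.invol d hd)
      refine invol_iff.2 ⟨?_, fun h1 => hne ?_⟩
      · generalize x * d * x⁻¹ = e at hc hee ⊢
        calc e * d * (e * d) = e * (d * e) * d := by group
          _ = e * (e * d) * d := by rw [hc.eq]
          _ = (e * e) * (d * d) := by group
          _ = 1 := by rw [hee, hdd, one_mul]
      · exact (eq_inv_of_mul_eq_one_left h1).trans (invol_inv (h.invol d hd))
    refine h.bad_not_mem_loc (hbad _ hcd he2) (mul_mem ?_ ?_)
    · exact subset_closure ⟨h.conj x d hd, (Commute.refl _).mul_right hc.symm⟩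
    · exact subset_closure ⟨hd, hc.mul_right (Commute.refl d)⟩
  -- a member centralising `t` in every coset of `O(K)`
  have hOK : oddC K ≤ K := map_subtype_le _
  have hfib : ∀ d ∈ D, d ∈ loc D t ⊔ oddC K := by
    intro d hd
    have hdd := invol_mul_self (h.invol d hd)
    set S := {x : G | x ∈ D ∧ x * d ∈ oddC K} with hS
    have hSodd : Odd (Nat.card S) := by
      refine Crit8.odd_card_of_unique_fix
        (fun x : S => (⟨d * x.1 * d⁻¹, h.conj d _ x.2.1, ?_⟩ : S)) (fun x => Subtype.ext ?_)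
        (a := ⟨d, hd, by rw [hdd]; exact one_mem _⟩) (Subtype.ext (by simp)) fun x hx => ?_
      · have h1 : d * (x.1 * d) * d⁻¹ ∈ oddC K := by
          have h2 := hcomm d hd _ (hOK x.2.2)
          have h3 := mul_mem h2 x.2.2
          rwa [inv_mul_cancel_right] at h3
        rwa [show d * (x.1 * d) * d⁻¹ = d * x.1 * (d * d⁻¹) by group, mul_inv_cancel, mul_one,
          ← show d * x.1 * d⁻¹ * d = d * x.1 by group] at h1
      · show d * (d * x.1 * d⁻¹) * d⁻¹ = x.1
        calc d * (d * x.1 * d⁻¹) * d⁻¹ = (d * d) * x.1 * (d * d)⁻¹ := by group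
          _ = x.1 := by rw [hdd]; simp
      · refine Subtype.ext ?_
        by_contra hne
        have hc : d * x.1 = x.1 * d := mul_inv_eq_iff_eq_mul.1 (congrArg Subtype.val hx)
        have h2 : orderOf (x.1 * d) = 2 := by
          refine invol_iff.2 ⟨?_, fun h1 => hne
            ((eq_inv_of_mul_eq_one_left h1).trans (invol_inv (h.invol d hd)))⟩
          calc x.1 * d * (x.1 * d) = x.1 * (d * x.1) * d := by group
            _ = x.1 * (x.1 * d) * d := by rw [hc]
            _ = (x.1 * x.1) * (d * d) := by group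
            _ = 1 := by rw [invol_mul_self (h.invol _ x.2.1), hdd, one_mul]
        exact (odd_card_iff_no_invol _).1 (oddC_odd K) _ x.2.2 h2
    have hmem : ∀ x ∈ S, t * x * t⁻¹ ∈ S := by
      rintro x ⟨hxD, hx⟩
      refine ⟨h.conj t x hxD, ?_⟩
      have h1 : t * d * t⁻¹ * d ∈ oddC K := by
        have h2 := inv_mem (hcomm d hd t htK)
        rw [mul_inv_rev, mul_inv_rev, mul_inv_rev, inv_inv, inv_inv, invol_inv (h.invol d hd),
          invol_inv ht] at h2
        rw [invol_inv ht]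
        simpa [mul_assoc] using h2
      have h3 := mul_mem (conj_mem_oddC htK hx) h1
      have e : t * (x * d) * t⁻¹ * (t * d * t⁻¹ * d) = t * x * t⁻¹ * d := by
        calc t * (x * d) * t⁻¹ * (t * d * t⁻¹ * d) = t * x * (d * d) * t⁻¹ * d := by group
          _ = t * x * t⁻¹ * d := by rw [hdd, mul_one]
      rwa [e] at h3
    obtain ⟨x, hxS, hxt⟩ := Pre.exists_commute_of_odd (invol_mul_self ht) hmem hSodd
    have e : d = x * (x * d) := by rw [← mul_assoc, invol_mul_self (h.invol x hxS.1), one_mul]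
    rw [e]
    exact mul_mem (mem_sup_left (subset_closure ⟨hxS.1, hxt⟩)) (mem_sup_right hxS.2)
  have htop' : loc D t ⊔ oddC K = ⊤ := eq_top_iff.2 (htop ▸ (closure_le _).2 hfib)
  have hnorm : loc D t ≤ normalizer (oddC K : Set G) := by
    refine (closure_le _).2 fun x hx => ?_
    have key : ∀ y ∈ oddC K, x * y * x⁻¹ ∈ oddC K := fun y hy => by
      simpa using mul_mem (hcomm x hx.1 y (hOK hy)) hy
    refine mem_normalizer_iff.2 fun y => ⟨key y, fun hy => ?_⟩
    have h1 := key _ hy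
    have hxx := invol_mul_self (h.invol x hx.1)
    rwa [show x * (x * y * x⁻¹) * x⁻¹ = (x * x) * y * (x * x)⁻¹ by group, hxx, one_mul, inv_one,
      mul_one] at h1
  have ht' : t ∈ loc D t ⊔ oddC K := htop' ▸ mem_top t
  rw [← SetLike.mem_coe, coe_mul_of_left_le_normalizer_right _ _ hnorm, Set.mem_mul] at ht'
  obtain ⟨l, hl, o, ho, hlo⟩ := ht'
  have hlt : Commute l t := by
    have hle : loc D t ≤ centralizer {t} := (closure_le _).2 fun x hx =>
      mem_centralizer_singleton_iff.2 hx.2.eq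
    exact mem_centralizer_singleton_iff.1 (hle hl)
  have hot : Commute t o := by
    have e : o = l⁻¹ * t := by rw [← hlo]; group
    rw [e]
    exact (hlt.symm.inv_right).mul_right (Commute.refl t)
  obtain ⟨m, hm⟩ : Odd (orderOf o) :=
    (oddC_odd K).of_dvd_nat (Subgroup.orderOf_dvd_natCard _ ho)
  refine h.bad_not_mem_loc (hbad t htK ht) ?_
  have hpow := pow_mem hl (orderOf o)
  have e : l = t * o⁻¹ := by rw [← hlo]; group
  rwa [e, (hot.inv_right).mul_pow, inv_pow, pow_orderOf_eq_one, inv_one, mul_one, hm, pow_succ,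
    pow_mul, pow_two, invol_mul_self ht, one_pow, one_mul] at hpow

omit [MulAction G Ω] [Finite G]

/-- F: the pair core statement. -/
theorem pairCore : PropPairCore.{u} := by
  intro X _ _ Δ _ E hM a b hab w hw
  haveI := hM.faithful
  exact ⟨fun k hk => swap_commutator hM.act hab hw hk, fun v hv => swap_conj hM.act hab hv hw⟩

end Cfsg.Agent.Lib.Crit5.Facts
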