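import Cfsg.Agent.Lib.Crit5.FactsCore
import Cfsg.Agent.Lib.BenderOne67.Local
import Cfsg.Agent.Lib.BenderOne.NodeA.ZJ
import Cfsg.Agent.Lib.ZJ.StableFree

/-!
# The single fixed point criterion: tools for section A1

(NV) the normaliser of an inverted part fixes the point of the four group, (Chain) invariant
`p'`-subgroups fix it (ports of `BenderOne67`), and `Z(J)` in solvable groups with abelian
Sylow `2`-subgroups.

Owner: helper76.
-/

set_option autoImplicit false
set_option linter.style.haveILetI false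

namespace Cfsg.Agent.Lib.Crit5.Full

open Subgroup MulAction Cfsg.Agent.Lib.Involutions.Basic
open Cfsg.Agent.Lib.Crit8 (Pre Action memAt memSwap part)
open Cfsg.Agent.Lib.BenderOne20 (SylowIn)
open Cfsg.Agent.Lib.BenderOne.NoBadProof (invGen mem_invGen invGen_le invGen_normalizer
  trivial_mul)

universe u

variable {G Ω : Type u} [Group G] [MulAction G Ω] [Finite G]

/-- An invariant `p'`-subgroup moving the point has an element fixed by the inverted part moving
it. -/
theorem exists_centralizer_moves {c : Ω} {u : G} (hu : orderOf u = 2)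
    (huc : u • c = c) (hcen : ∀ y : G, Commute u y → y • c = c)
    {p : ℕ} [hp : Fact p.Prime] {P W : Subgroup G} (hPp : IsPGroup p P) (hPc : P ≤ stabilizer G c)
    (hW : Odd (Nat.card W)) (hcop : ¬ p ∣ Nat.card W)
    (huW : u ∈ Subgroup.normalizer (W : Set G))
    (hVW : invGen P u ≤ Subgroup.normalizer (W : Set G)) (hmove : ¬ W ≤ stabilizer G c)
    (hp2 : p ≠ 2) :
    ∃ w ∈ W, w ∈ Subgroup.centralizer (invGen P u : Set G) ∧ w • c ≠ c := by
  set V := invGen P u with hVdef
  have huu : u * u = 1 := invol_mul_self hu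
  have hui : u⁻¹ = u := invol_inv hu
  have huV : u ∈ normalizer (V : Set G) := by
    have hsub : ∀ z ∈ V, u * z * u⁻¹ ∈ V := by
      intro z hz
      refine closure_induction (p := fun z _ => u * z * u⁻¹ ∈ V) ?_ ?_ ?_ ?_ hz
      · rintro x ⟨hx, hxi⟩
        rw [hxi]
        exact inv_mem (mem_invGen hx hxi)
      · simp
      · intro x y _ _ hx hy
        have := mul_mem hx hy
        simpa [mul_assoc] using this
      · intro x _ hx
        have := inv_mem hx
        simpa [mul_assoc] using this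
    rw [mem_normalizer_iff]
    intro z
    refine ⟨hsub z, fun hz => ?_⟩
    have := hsub _ hz
    rwa [hui, show u * (u * z * u) * u = (u * u) * z * (u * u) by group, huu, one_mul,
      mul_one] at this
  have hVp : IsPGroup p ↥V := hPp.to_le (invGen_le P u)
  set A := zpowers u ⊔ V with hA
  have hAsolv : Group.IsSolvable ↥A ∨ Group.IsSolvable ↥W :=
    Or.inr (BenderOne.LocalTools.isSolvable_odd hW)
  have hVcop : (Nat.card ↥V).Coprime (Nat.card W) := by
    obtain ⟨n, hn⟩ := IsPGroup.iff_card.1 hVp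
    rw [hn]
    exact (hp.out.coprime_iff_not_dvd.2 hcop).pow_left n
  have hAcop : (Nat.card ↥A).Coprime (Nat.card W) := by
    refine Nat.Coprime.coprime_dvd_left (Dvd.intro _ (OffenderComp.Aux.card_sup_inf
      (zpowers_le.2 huV))) (Nat.Coprime.mul_left ?_ hVcop)
    exact BenderOne.LocalTools.coprime_zpowers hu hW
  have hAW : A ≤ normalizer (W : Set G) := sup_le (zpowers_le.2 huW) hVW
  -- an invariant Sylow subgroup of `W` moving `c`
  obtain ⟨q, hq, Q, hQ, hAQ, hQc⟩ : ∃ q : ℕ, q.Prime ∧ ∃ Q : Subgroup G, SylowIn q Q W ∧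
      A ≤ normalizer (Q : Set G) ∧ ¬ Q ≤ stabilizer G c := by
    by_contra hall
    push Not at hall
    refine hmove (le_trans (le_of_eq (Subgroup.eq_of_le_of_card_ge inf_le_left ?_).symm)
      (inf_le_right : W ⊓ stabilizer G c ≤ stabilizer G c))
    refine Nat.le_of_dvd Nat.card_pos ?_
    rw [← Nat.factorization_le_iff_dvd Nat.card_pos.ne' Nat.card_pos.ne']
    intro q
    by_cases hq : q.Prime
    · haveI := Fact.mk hq
      obtain ⟨S, hS⟩ := Coprime.exists_invariant_sylow hAW hAcop hAsolv q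
      have hle := hall q hq _ ⟨map_subtype_le _, Coprime.card_sylow_map S⟩ hS
      have hd := card_dvd_of_le (le_inf (map_subtype_le (S : Subgroup W)) hle)
      rw [Coprime.card_sylow_map S] at hd
      exact (hq.pow_dvd_iff_le_factorization Nat.card_pos.ne').1 hd
    · rw [Nat.factorization_eq_zero_of_not_prime _ hq]; exact Nat.zero_le _
  haveI := Fact.mk hq
  haveI := hQ.isPGroup.isNilpotent
  set S := Q ⊓ stabilizer G c with hS
  have hlt : S.subgroupOf Q < ⊤ := by
    rw [lt_top_iff_ne_top, ne_eq, subgroupOf_eq_top]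
    exact fun h => hQc (h.trans inf_le_right)
  obtain ⟨⟨x, hxQ⟩, hxN, hxS⟩ := SetLike.exists_of_lt
    (Group.normalizerCondition_of_isNilpotent _ hlt)
  set N := Q ⊓ normalizer (S : Set G) with hNdef
  have hSN : S ≤ N := le_inf inf_le_left le_normalizer
  have hxN' : x ∈ N := mem_inf.2 ⟨hxQ, mem_normalizer_iff.2 fun y => by
    constructor
    · intro hy
      exact mem_subgroupOf.1 ((mem_normalizer_iff.1 hxN ⟨y, (mem_inf.1 hy).1⟩).1
        (mem_subgroupOf.2 hy))
    · intro hy
      have hyQ : y ∈ Q := by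
        have := mul_mem (mul_mem (inv_mem hxQ) (mem_inf.1 hy).1) hxQ
        simpa [mul_assoc] using this
      exact mem_subgroupOf.1 ((mem_normalizer_iff.1 hxN ⟨y, hyQ⟩).2 (mem_subgroupOf.2 hy))⟩
  have hAc : A ≤ stabilizer G c := sup_le (zpowers_le.2 huc) ((invGen_le P u).trans hPc)
  have hAS : A ≤ normalizer (S : Set G) :=
    le_trans (le_inf hAQ (hAc.trans le_normalizer)) inf_normalizer_le_normalizer_inf
  have hAN : A ≤ normalizer (N : Set G) :=
    le_trans (le_inf hAQ (hAS.trans le_normalizer)) inf_normalizer_le_normalizer_inf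
  have hcN : ∀ g ∈ A, ∀ y ∈ N, g * y * g⁻¹ ∈ N := fun g hg y hy =>
    (mem_normalizer_iff.1 (hAN hg) y).1 hy
  have hcS : ∀ g ∈ A, ∀ y ∈ S, g * y * g⁻¹ ∈ S := fun g hg y hy =>
    (mem_normalizer_iff.1 (hAS hg) y).1 hy
  have huA : u ∈ A := mem_sup_left (mem_zpowers u)
  have hVA : V ≤ A := le_sup_right
  have hNS : ∀ y ∈ N, ∀ s ∈ S, y * s * y⁻¹ ∈ S := fun y hy s hs =>
    (mem_normalizer_iff.1 hy.2 s).1 hs
  have hoddW : ∀ {X : Subgroup G}, X ≤ W → Odd (Nat.card X) := fun h =>
    hW.of_dvd_nat (card_dvd_of_le h)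
  have hinvN : ∀ y ∈ N, y * (u * y * u) ∈ S :=
    BenderOne.inverts_mod hSN (hoddW (inf_le_left.trans hQ.1)) huu
      (fun y hy => by have := hcN u huA y hy; rwa [hui] at this)
      (fun y hy => by have := hcS u huA y hy; rwa [hui] at this) hNS
      fun y hy hy' => mem_inf.2 ⟨hy.1, hcen y (show u * y = y * u from by
        calc u * y = u * y * (u * u) := by rw [huu, mul_one]
          _ = u * y * u * u := by group
          _ = y * u := by rw [hy'])⟩
  -- an inverted element acts trivially on `N / S`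
  have hgen : ∀ j ∈ P, u * j * u⁻¹ = j⁻¹ → ∀ y ∈ N, j * y * j⁻¹ * y⁻¹ ∈ S := by
    intro j hjP hji
    have hjA : j ∈ A := hVA (mem_invGen hjP hji)
    have hjS : ∀ y ∈ S, j⁻¹ * y * j ∈ S := fun y hy => by
      have := hcS _ (inv_mem hjA) y hy
      rwa [inv_inv] at this
    have hsq : ∀ y ∈ N, j * j * y * (j * j)⁻¹ * y⁻¹ ∈ S := by
      intro y hy
      set z := j * y * j⁻¹ with hz
      have hzN : z ∈ N := hcN j hjA y hy
      set z' := j * z * j⁻¹ with hz'
      have hz'N : z' ∈ N := hcN j hjA z hzN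
      have hA1 := hinvN z' hz'N
      have hB1 := hinvN z hzN
      have hjv : u * j * u = j⁻¹ := by rw [← hji, hui]
      have hjv' : u * j⁻¹ * u = j := by
        calc u * j⁻¹ * u = u * (u * j * u) * u := by rw [hjv]
          _ = (u * u) * j * (u * u) := by group
          _ = j := by rw [huu, one_mul, mul_one]
      have hconj : u * z' * u = j⁻¹ * (u * z * u) * j := by
        rw [hz']
        calc u * (j * z * j⁻¹) * u = u * j * (u * u) * z * (u * u) * j⁻¹ * u := by
              rw [huu]; group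
          _ = (u * j * u) * (u * z * u) * (u * j⁻¹ * u) := by group
          _ = _ := by rw [hjv, hjv']
      have h1 : z' * y⁻¹ = z' * (u * z' * u) * (j⁻¹ * (z * (u * z * u))⁻¹ * j) := by
        rw [hconj, hz]
        group
      have h2 := mul_mem hA1 (hjS _ (inv_mem hB1))
      rw [← h1] at h2
      convert h2 using 1
      rw [hz', hz]
      group
    have hpow : ∀ n : ℕ, ∀ y ∈ N, (j * j) ^ n * y * ((j * j) ^ n)⁻¹ * y⁻¹ ∈ S := by
      intro n
      induction n with
      | zero => intro y _; simp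
      | succ n ih =>
        rw [pow_succ]
        exact trivial_mul (fun y hy => hcS _ (pow_mem (mul_mem hjA hjA) n) y hy) ih hsq
    obtain ⟨k, hk⟩ : Odd (orderOf j) := by
      obtain ⟨n, hn⟩ := IsPGroup.iff_orderOf.1 hPp ⟨j, hjP⟩
      rw [Subgroup.orderOf_mk] at hn
      rw [hn]
      exact (hp.out.odd_of_ne_two hp2).pow
    have hroot : (j * j) ^ (k + 1) = j := by
      rw [← pow_two, ← pow_mul, show 2 * (k + 1) = orderOf j + 1 by omega, pow_succ,
        pow_orderOf_eq_one, one_mul]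
    intro y hy
    have := hpow (k + 1) y hy
    rwa [hroot] at this
  have hall : ∀ v ∈ V, ∀ y ∈ N, v * y * v⁻¹ * y⁻¹ ∈ S := by
    intro v hv
    refine closure_induction (p := fun v _ => ∀ y ∈ N, v * y * v⁻¹ * y⁻¹ ∈ S) ?_ ?_ ?_ ?_ hv
    · exact fun j hj => hgen j hj.1 hj.2
    · intro y _; simp
    · intro g h hg _ hg' hh'
      exact trivial_mul (fun y hy => hcS g (hVA hg) y hy) hg' hh'
    · intro g hg hg' y hy
      have hzN := hcN _ (inv_mem (hVA hg)) y hy
      have := inv_mem (hg' _ hzN)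
      convert this using 1
      group
  obtain ⟨n, hn, hnx⟩ := Coprime.exists_fixed_mul (A := V) (N := S) (k := x) (hVA.trans hAS)
    (hVcop.coprime_dvd_right (card_dvd_of_le (inf_le_left.trans hQ.1)))
    (Or.inr (BenderOne.LocalTools.isSolvable_odd (hoddW (inf_le_left.trans hQ.1))))
    (fun v hv => hall v hv x hxN')
  refine ⟨n * x, mul_mem (hQ.1 (mem_inf.1 hn).1) (hQ.1 hxQ), hnx, fun h => hxS ?_⟩
  refine mem_subgroupOf.2 (mem_inf.2 ⟨hxQ, ?_⟩)
  have h' : n * x ∈ stabilizer G c := h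
  have := mul_mem (inv_mem (mem_inf.1 hn).2) h'
  rwa [inv_mul_cancel_left] at this


variable {p : ℕ} [hp : Fact p.Prime]

/-- (L) the normaliser of the inverted part fixes the fixed point of the four group. -/
theorem normalizer_invGen_le [FaithfulSMul G Ω] {D₀ : Set G} (h : Action G Ω D₀) {c : Ω} {u e : G}
    (hu : u ∈ memAt G D₀ c) (he : e ∈ memAt G D₀ c) (hne : u ≠ e) (hue : u * e = e * u) {P : Subgroup G}
    (hPp : IsPGroup p P) (hp2 : p ≠ 2) (heP : e ∈ Subgroup.normalizer (P : Set G))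
    (hbad : ∃ j ∈ P, j ≠ 1 ∧ u * j * u⁻¹ = j⁻¹) :
    Subgroup.normalizer (invGen P u : Set G) ≤ stabilizer G c := by
  intro g hg
  have hu2 := h.invol u hu.1
  have he2 := h.invol e he.1
  rw [mem_stabilizer_iff]
  by_contra hgc
  set V := invGen P u
  set N := Subgroup.normalizer (V : Set G) with hN
  set D := (⁅V, V⁆ : Subgroup G)
  have huN : u ∈ N := invGen_normalizer hu2
  have heN : e ∈ N := BenderOne67.invGen_normalizer_of_commute heP hue
  have hueD : u * e ∈ D₀ := h.mul_mem_D hu.1 he.1 hne hue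
  -- every involution of `N` inverts `V` modulo `D`
  have hA := Facts.subAction h hu huN ⟨g, hg, hgc⟩
  have key : ∀ f ∈ N, f ∈ D₀ → ∀ v ∈ V, f * v * f⁻¹ * v ∈ D := by
    intro f hf hfD v hv
    obtain ⟨⟨h, hh⟩, hhe⟩ := isConj_iff.1
      (hA.isConj_mem (d := ⟨u, huN⟩) (e := ⟨f, hf⟩) hu.1 hfD)
    obtain rfl : h * u * h⁻¹ = f := congrArg Subtype.val hhe
    have hv' : h⁻¹ * v * h ∈ V := (Subgroup.mem_normalizer_iff''.1 hh v).1 hv
    have h1 := (Subgroup.mem_normalizer_iff.1
      (BenderOne67.normalizer_le_commutator V hh : h ∈ Subgroup.normalizer (D : Set G)) _).1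
      (BenderOne67.invGen_inverts hv')
    convert h1 using 1
    group
  -- hence the product of two of them centralises `V` modulo `D`
  have hsq : ∀ v ∈ V, v * v ∈ D := by
    intro v hv
    have h1 := key u huN hu.1
    have h2 := key e heN he.1 v hv
    have h3 := key (u * e) (mul_mem huN heN) hueD v hv
    have hv' : e * v * e⁻¹ ∈ V := (Subgroup.mem_normalizer_iff.1 heN v).1 hv
    have h4 := h1 _ hv'
    -- `u e v e⁻¹ u⁻¹ v` and `u e v e⁻¹ u⁻¹ e v e⁻¹`
    have h5 := mul_mem (inv_mem h3) h4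
    have h6 : v⁻¹ * (e * v * e⁻¹) ∈ D := by
      convert h5 using 1
      group
    have hn : V ≤ Subgroup.normalizer (D : Set G) :=
      le_normalizer.trans (BenderOne67.normalizer_le_commutator V)
    have h7 := mul_mem (inv_mem ((Subgroup.mem_normalizer_iff.1 (hn hv) _).1 h6)) h2
    convert h7 using 1
    group
  obtain ⟨j, hj, hj1, hinv⟩ := hbad
  have hVp : IsPGroup p V := hPp.to_le (invGen_le P u)
  have hVne : V ≠ ⊥ := fun h => hj1 (by
    have := mem_invGen hj hinv
    rwa [show invGen P u = ⊥ from h, Subgroup.mem_bot] at this)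
  haveI : Group.IsNilpotent V := hVp.isNilpotent
  have hlt : D < V := by
    refine lt_of_le_of_ne (Subgroup.commutator_le_self V) fun h => ?_
    have hcomm : (commutator ↥V).map V.subtype = V := by
      rw [_root_.commutator_def, Subgroup.map_commutator, ← MonoidHom.range_eq_map,
        Subgroup.range_subtype]
      exact h
    have htop : commutator ↥V = ⊤ := by
      apply Subgroup.map_injective V.subtype_injective
      rw [hcomm, ← MonoidHom.range_eq_map, Subgroup.range_subtype]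
    haveI := (Subgroup.nontrivial_iff_ne_bot V).2 hVne
    exact absurd htop (Group.IsSolvable.commutator_lt_top_of_nontrivial ↥V).ne
  obtain ⟨v, hv, hvD⟩ := SetLike.exists_of_lt hlt
  refine hvD ?_
  obtain ⟨k, hk⟩ : Odd (orderOf v) := by
    obtain ⟨n, hn⟩ := IsPGroup.iff_orderOf.1 hVp ⟨v, hv⟩
    rw [Subgroup.orderOf_mk] at hn
    rw [hn]
    exact (hp.out.odd_of_ne_two hp2).pow
  have h8 := pow_mem (hsq v hv) (k + 1)
  rwa [← pow_two, ← pow_mul, show 2 * (k + 1) = orderOf v + 1 by omega, pow_succ,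
    pow_orderOf_eq_one, one_mul] at h8

/-- (C) invariant `p'`-subgroups of odd order fix the fixed point of the four group. -/
theorem invariant_le_stabilizer [FaithfulSMul G Ω] {D₀ : Set G} (h : Action G Ω D₀) {c : Ω} {u e : G}
    (hu : u ∈ memAt G D₀ c) (he : e ∈ memAt G D₀ c) (hne : u ≠ e) (hue : u * e = e * u) {P : Subgroup G}
    (hPp : IsPGroup p P) (hp2 : p ≠ 2) (hPc : P ≤ stabilizer G c)
    (huP : u ∈ Subgroup.normalizer (P : Set G)) (heP : e ∈ Subgroup.normalizer (P : Set G))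
    (hbad : ∃ j ∈ P, j ≠ 1 ∧ u * j * u⁻¹ = j⁻¹) {W : Subgroup G} (hW : Odd (Nat.card W))
    (hcop : ¬ p ∣ Nat.card W) (huW : u ∈ Subgroup.normalizer (W : Set G))
    (hPW : P ≤ Subgroup.normalizer (W : Set G)) : W ≤ stabilizer G c := by
  by_contra hmove
  obtain ⟨w, -, hw, hwc⟩ := exists_centralizer_moves (h.invol u hu.1) hu.2
    (fun y hy => h.smul_eq_of_commute hu.1 hu.2 hy) hPp hPc hW hcop huW
    ((invGen_le P u).trans hPW) hmove hp2
  exact hwc (normalizer_invGen_le h hu he hne hue hPp hp2 heP hbad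
    (Subgroup.centralizer_le_normalizer _ hw))

omit [MulAction G Ω] in
/-- `Z(J)` in a solvable subgroup with commutative `2`-subgroups, `p` odd. -/
theorem zj_cover {H R : Subgroup G} [Group.IsSolvable H] (hp2 : p ≠ 2) (hR : SylowIn p R H)
    (hab : ∀ T : Subgroup G, T ≤ H → IsPGroup 2 T → ∀ x ∈ T, ∀ y ∈ T, Commute x y) :
    H ≤ Balance.coreIn p H ⊔ H ⊓ normalizer (Cfsg.centerThompsonAOf R : Set G) := by
  obtain ⟨S, rfl⟩ := BenderOne.LocalTools.exists_sylow hR
  haveI : Fact (Nat.Prime 2) := ⟨Nat.prime_two⟩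
  set M := Cfsg.pPrimeCore p ↥H with hMdef
  set f := QuotientGroup.mk' M
  have hfs : Function.Surjective f := QuotientGroup.mk'_surjective M
  have hM : ¬ p ∣ Nat.card M := Cores.not_dvd_card_pPrimeCore p
  have hinj : ∀ z ∈ (S : Subgroup H), f z = 1 → z = 1 := fun z hz h1 =>
    BenderOne.NodeA.ZJAux.eq_one_of_coprime S.2 hM hz ((QuotientGroup.eq_one_iff z).1 h1)
  obtain ⟨T⟩ : Nonempty (Sylow 2 ↥H) := inferInstance
  have hT : IsMulCommutative T := ⟨⟨fun x y => Subtype.ext (Subtype.ext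
    (hab _ (map_subtype_le _) (T.2.map H.subtype) _ ⟨_, x.2, rfl⟩ _ ⟨_, y.2, rfl⟩).eq)⟩⟩
  have hn := ZJ.centerThompsonAOf_normal hp2
    (PSolvable.isPConstrained_iff.1
      (PSolvable.isPConstrained_of_isPSolvable PSolvable.isPSolvable_of_isSolvable))
    (ZJ.stable_of_noSLTwo hp2 (PLocal.noSLTwo_of_surjective
      (PLocal.noSLTwo_of_abelian_sylow_two hp2 T hT) f hfs)) (S.mapSurjective hfs)
  rw [Sylow.coe_mapSurjective,
    ← BenderOne.NodeA.ZJAux.map_centerThompsonAOf_injOn f _ hinj] at hn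
  have h1 := Balance.map_normalizer_eq hfs (by rwa [QuotientGroup.ker_mk'])
    (S.2.to_le (ZJ.centerThompsonAOf_le (S : Subgroup H)))
  rw [normalizer_eq_top_iff.2 hn] at h1
  intro g hg
  obtain ⟨n, hnn, hng⟩ : f ⟨g, hg⟩ ∈
      (normalizer (Cfsg.centerThompsonAOf (S : Subgroup H) : Set H)).map f :=
    h1.symm ▸ mem_top _
  have h2 : (⟨g, hg⟩ : H) * n⁻¹ ∈ M := (QuotientGroup.eq_one_iff _).1
    (show f (⟨g, hg⟩ * n⁻¹) = 1 by rw [map_mul, map_inv, hng, mul_inv_cancel])
  have h3 : (n : G) ∈ normalizer (Cfsg.centerThompsonAOf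
      ((S : Subgroup H).map H.subtype) : Set G) := by
    rw [← ZJ.map_centerThompsonAOf _ H.subtype_injective]
    exact le_normalizer_map H.subtype ⟨n, hnn, rfl⟩
  rw [show g = g * (n : G)⁻¹ * n by group]
  exact mul_mem (mem_sup_left ⟨_, h2, rfl⟩) (mem_sup_right (mem_inf.2 ⟨n.2, h3⟩))

end Cfsg.Agent.Lib.Crit5.Full
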