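import Cfsg.Agent.Lib.Crit5.FullShape
import Cfsg.Agent.Lib.Crit5.FullChain
import Cfsg.Agent.Lib.PrimePowerClass.Radical
import Cfsg.Agent.Lib.CNReduce32.Basic

/-!
# The single fixed point criterion, section A1: `Z(J(R))` is fixed by the members at `a`

`R` is Sylow in `O_ab ⊓ N(Y)` and `P` is its part in the kernel.  Members replaced inside `N(P)`
keep their action on the orbit, and Glauberman's theorem in `⟨members at a⟩ · N(P)` puts `Z(J(R))`
into `P` and makes it invariant under those members.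

Owner: helper76.
-/

set_option autoImplicit false
set_option linter.style.haveILetI false

namespace Cfsg.Agent.Lib.Crit5.Full

open Subgroup MulAction Cfsg.Agent.Lib.Involutions.Basic
open Cfsg.Agent.Lib.Crit8 (Pre Action memAt memSwap part)
open Cfsg.Agent.Lib.Crit5.Facts (oddC)
open Cfsg.Agent.Lib.BenderOne20 (SylowIn)

universe u

variable {G Ω : Type u} [Group G] [MulAction G Ω]

/-- The kernel part normalising `Y`. -/
abbrev kerIn (Y : Subgroup G) (a b : Ω) : Subgroup G :=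
  kerPair Y a a b ⊓ normalizer (Y : Set G)

/-- The odd core of the pair stabiliser, cut down to the normaliser of `Y`. -/
abbrev coreNorm (Y : Subgroup G) (a b : Ω) : Subgroup G :=
  oddC (stabilizer G a ⊓ stabilizer G b) ⊓ normalizer (Y : Set G)

variable [Finite G] [FaithfulSMul G Ω] {D : Set G} (h : Action G Ω D) {Y : Subgroup G} {a b : Ω}
  {p : ℕ} (hab : a ≠ b) (hC : Cand D a b p Y)

omit [FaithfulSMul G Ω] in
theorem kerIn_odd : Odd (Nat.card (kerIn Y a b)) :=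
  (Facts.oddC_odd _).of_dvd_nat (card_dvd_of_le (inf_le_left.trans inf_le_left))

omit [Finite G] [FaithfulSMul G Ω] in
theorem kerIn_le : kerIn Y a b ≤ coreNorm Y a b := inf_le_inf_right _ inf_le_left

omit [Finite G] [FaithfulSMul G Ω] in
theorem kerIn_fix {k : G} (hk : k ∈ kerIn Y a b) {x : Ω} (hx : x ∈ orbit Y a) : k • x = x :=
  (mem_fixingSubgroup_iff G).1 hk.1.2 x hx

variable [hp : Fact p.Prime] {P : Subgroup G}

include h hab hC

/-- A member of `Y` has a conjugate in `N(P)` with the same action on the orbit. -/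
theorem exists_replace (hS : Sh D Y a b) (hP : SylowIn p P (kerIn Y a b)) {d : G} (hd : d ∈ D)
    (hdY : d ∈ Y) : ∃ d' ∈ D, d' ∈ Y ∧ d' ∈ normalizer (P : Set G) ∧
      (∀ c : Ω, c ∈ orbit Y a → d • c = c → d' • c = c) ∧
      ∀ x ∈ orbit Y a, d' • x = d • x := by
  obtain ⟨S, hSy, -, hdS⟩ := BenderOne.LocalTools.exists_invariant (p := p) (h.invol d hd)
    (hC.normalizer_le_inf h hab hS (le_normalizer hdY)) kerIn_odd (bot_le : ⊥ ≤ kerIn Y a b)
    IsPGroup.of_bot (mem_normalizer_iff.2 fun x => by simp)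
  obtain ⟨k, hk, hkS⟩ := hSy.conj_eq hP
  have hfix : ∀ x ∈ orbit Y a, (k * d * k⁻¹) • x = d • x := fun x hx => by
    rw [mul_smul, mul_smul, kerIn_fix (inv_mem hk) hx,
      kerIn_fix hk (hC.smul_orbit h hab (le_normalizer hdY) hx)]
  refine ⟨k * d * k⁻¹, h.conj k d hd, (mem_normalizer_iff.1 hk.2 d).1 hdY, ?_,
    fun c hc hdc => by rw [hfix c hc, hdc], hfix⟩
  rw [← hkS]
  exact le_normalizer_map _ ⟨d, hdS, rfl⟩

theorem exists_replace_at (hS : Sh D Y a b) (hP : SylowIn p P (kerIn Y a b)) {d : G} {c : Ω}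
    (hd : d ∈ memAt G D c) (hc : c ∈ orbit Y a) (hdY : d ∈ Y) :
    ∃ d' ∈ memAt G D c, d' ∈ Y ⊓ normalizer (P : Set G) ∧ ∀ x ∈ orbit Y a, d' • x = d • x := by
  obtain ⟨d', hd', h1, h2, h3, h4⟩ := exists_replace h hab hC hS hP hd.1 hdY
  exact ⟨d', ⟨hd', h3 c hc hd.2⟩, mem_inf.2 ⟨h1, h2⟩, h4⟩

/-- A member at `a` in `N(P)` inverts a nontrivial element of `P`. -/
theorem exists_inverting (hS : Sh D Y a b) (hP : SylowIn p P (kerIn Y a b)) :
    ∃ d ∈ memAt G D a, d ∈ Y ⊓ normalizer (P : Set G) ∧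
      ∃ x ∈ P, x ≠ 1 ∧ d * x * d⁻¹ = x⁻¹ := by
  obtain ⟨d, hd, hdY, j, hj, hjp, hdj⟩ := hC.moved
  have hjA : j ∈ kerIn Y a b := mem_inf.2
    ⟨hC.inverted_mem_ker h hab hS hd.1 hdY hj hdj, le_normalizer (map_subtype_le _ hj)⟩
  obtain ⟨S, hSy, hjS, hdS⟩ := BenderOne.LocalTools.exists_invariant (p := p) (h.invol d hd.1)
    (hC.normalizer_le_inf h hab hS (le_normalizer hdY)) kerIn_odd (zpowers_le.2 hjA)
    (IsPGroup.of_card (n := 1) (by rw [Nat.card_zpowers, hjp, pow_one]))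
    (by
      rw [mem_normalizer_iff_map_conj_eq, MonoidHom.map_zpowers]
      show zpowers (d * j * d⁻¹) = zpowers j
      rw [hdj, zpowers_inv])
  obtain ⟨k, hk, hkS⟩ := hSy.conj_eq hP
  have hka : k • a = a := kerIn_fix hk (mem_orbit_self a)
  have hd' := h.conj_mem_memAt (g := k) hd
  rw [hka] at hd'
  refine ⟨_, hd', mem_inf.2 ⟨(mem_normalizer_iff.1 hk.2 d).1 hdY, ?_⟩, k * j * k⁻¹,
    hkS ▸ ⟨j, hjS (mem_zpowers j), rfl⟩, fun e => ?_, ?_⟩
  · rw [← hkS]
    exact le_normalizer_map _ ⟨d, hdS, rfl⟩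
  · have : j = 1 := by simpa using e
    rw [this, orderOf_one] at hjp
    exact hp.out.one_lt.ne hjp
  · calc k * d * k⁻¹ * (k * j * k⁻¹) * (k * d * k⁻¹)⁻¹ = k * (d * j * d⁻¹) * k⁻¹ := by group
      _ = (k * j * k⁻¹)⁻¹ := by rw [hdj]; group

/-- Two commuting members at `a` in `N(P)`. -/
theorem exists_four_norm (hS : Sh D Y a b) (hP : SylowIn p P (kerIn Y a b)) :
    ∃ d ∈ memAt G D a, ∃ e ∈ memAt G D a, d ∈ Y ⊓ normalizer (P : Set G) ∧
      e ∈ Y ⊓ normalizer (P : Set G) ∧ d ≠ e ∧ Commute d e := by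
  haveI : Fact (Nat.Prime 2) := ⟨Nat.prime_two⟩
  obtain ⟨d, hd, e, he, hdY, heY, hne, hc⟩ := hC.four
  have h2 : ∀ {f : G}, f ∈ memAt G D a → IsPGroup 2 (zpowers f) := fun hf =>
    IsPGroup.of_card (n := 1) (by rw [Nat.card_zpowers, h.invol _ hf.1, pow_one])
  set E := zpowers d ⊔ zpowers e with hE
  have hE2 : IsPGroup 2 E := by
    refine (h2 hd).to_sup_of_normal_left' (h2 he) (zpowers_le.2 ?_)
    refine centralizer_le_normalizer _ (mem_centralizer_iff.2 fun x hx => ?_)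
    obtain ⟨i, rfl⟩ := mem_zpowers_iff.1 hx
    exact (hc.zpow_left i).eq
  have hEA : E ≤ normalizer (kerIn Y a b : Set G) :=
    sup_le (zpowers_le.2 (hC.normalizer_le_inf h hab hS (le_normalizer hdY)))
      (zpowers_le.2 (hC.normalizer_le_inf h hab hS (le_normalizer heY)))
  have hcop : (Nat.card E).Coprime (Nat.card (kerIn Y a b)) := by
    obtain ⟨n, hn⟩ := IsPGroup.iff_card.1 hE2
    rw [hn]
    exact (Nat.coprime_two_left.2 kerIn_odd).pow_left n
  obtain ⟨S, hS'⟩ := Coprime.exists_invariant_sylow hEA hcop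
    (Or.inr (BenderOne.LocalTools.isSolvable_odd kerIn_odd)) p
  obtain ⟨k, hk, hkS⟩ :=
    SylowIn.conj_eq (⟨map_subtype_le _, Coprime.card_sylow_map S⟩ : SylowIn p _ (kerIn Y a b)) hP
  have hka : k • a = a := kerIn_fix hk (mem_orbit_self a)
  have hmem : ∀ {f : G}, f ∈ memAt G D a → f ∈ Y → f ∈ E →
      k * f * k⁻¹ ∈ memAt G D a ∧ k * f * k⁻¹ ∈ Y ⊓ normalizer (P : Set G) := by
    intro f hf hfY hfE
    have h1 := h.conj_mem_memAt (g := k) hf
    rw [hka] at h1
    refine ⟨h1, mem_inf.2 ⟨(mem_normalizer_iff.1 hk.2 f).1 hfY, ?_⟩⟩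
    rw [← hkS]
    exact le_normalizer_map _ ⟨f, hS' hfE, rfl⟩
  obtain ⟨hd1, hd2⟩ := hmem hd hdY (mem_sup_left (mem_zpowers d))
  obtain ⟨he1, he2⟩ := hmem he heY (mem_sup_right (mem_zpowers e))
  exact ⟨_, hd1, _, he1, hd2, he2, by simpa using hne, (Commute.conj_iff k).2 hc⟩

omit hC in
/-- Members of a subgroup with members at two points are conjugate in it. -/
theorem conj_in {S : Subgroup G} (hS₂ : (∃ d ∈ memAt G D a, d ∈ S) ∧ ∃ e ∈ memAt G D b, e ∈ S)
    {d e : G} (hd : d ∈ D) (hdS : d ∈ S) (he : e ∈ D) (heS : e ∈ S) :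
    ∃ g ∈ S, g * d * g⁻¹ = e := by
  obtain ⟨⟨x, hx, hxS⟩, y, hy, hyS⟩ := hS₂
  have hA := Facts.subAction h hx hxS ⟨y, hyS, fun e => hab (h.eq_of_fix hy.1 e hy.2)⟩
  obtain ⟨⟨g, hg⟩, hge⟩ := isConj_iff.1 (hA.isConj_mem (d := ⟨d, hdS⟩) (e := ⟨e, heS⟩) hd he)
  exact ⟨g, hg, congrArg Subtype.val hge⟩

theorem two_points_norm (hS : Sh D Y a b) (hP : SylowIn p P (kerIn Y a b)) :
    (∃ d ∈ memAt G D a, d ∈ Y ⊓ normalizer (P : Set G)) ∧
      ∃ e ∈ memAt G D b, e ∈ Y ⊓ normalizer (P : Set G) := by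
  obtain ⟨d, hd, hdY⟩ := hC.exists_atA h hab
  obtain ⟨e, he, heY⟩ := hC.atB
  obtain ⟨d', hd', hd'S, -⟩ := exists_replace_at h hab hC hS hP hd (mem_orbit_self a) hdY
  obtain ⟨e', he', he'S, -⟩ := exists_replace_at h hab hC hS hP he (hC.b_mem h hab) heY
  exact ⟨⟨d', hd', hd'S⟩, e', he', he'S⟩

/-- Every member of `Y` in `N(P)` inverts a nontrivial element of `P`. -/
theorem all_inverting (hS : Sh D Y a b) (hP : SylowIn p P (kerIn Y a b)) {e : G} (he : e ∈ D)
    (heS : e ∈ Y ⊓ normalizer (P : Set G)) : ∃ x ∈ P, x ≠ 1 ∧ e * x * e⁻¹ = x⁻¹ := by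
  obtain ⟨d, hd, hdS, x, hx, hx1, hdx⟩ := exists_inverting h hab hC hS hP
  obtain ⟨g, hg, rfl⟩ := conj_in h hab (two_points_norm h hab hC hS hP) hd.1 hdS he heS
  refine ⟨g * x * g⁻¹, (mem_normalizer_iff.1 hg.2 x).1 hx, by simpa using hx1, ?_⟩
  calc g * d * g⁻¹ * (g * x * g⁻¹) * (g * d * g⁻¹)⁻¹ = g * (d * x * d⁻¹) * g⁻¹ := by group
    _ = (g * x * g⁻¹)⁻¹ := by rw [hdx]; group

/-- `Z(J(R))` is in `P` and is normalised by the members at `a` in `N(P)`. -/
theorem zj_step (hS : Sh D Y a b) (hp2 : p ≠ 2) {R : Subgroup G}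
    (hR : SylowIn p R (coreNorm Y a b)) :
    Cfsg.centerThompsonAOf R ≤ R ⊓ kerIn Y a b ∧
      ∀ d ∈ memAt G D a, d ∈ Y ⊓ normalizer ((R ⊓ kerIn Y a b : Subgroup G) : Set G) →
        d ∈ normalizer (Cfsg.centerThompsonAOf R : Set G) := by
  set A := kerIn Y a b with hAdef
  set Mo := coreNorm Y a b with hMo
  set X := Cfsg.centerThompsonAOf R with hXdef
  have hAN := hC.normalizer_le_inf h hab hS
  have hP : SylowIn p (R ⊓ A) A :=
    BenderOne.NodeA.ZJAux.sylowIn_inf hR kerIn_le (inf_le_right.trans hAN)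
  set P := R ⊓ A with hPdef
  set N := normalizer (Y : Set G) ⊓ normalizer (P : Set G) with hN
  set H := Mo ⊓ normalizer (P : Set G) with hH
  set A₁ := A ⊓ normalizer (P : Set G) with hA₁
  set B := {d : G | d ∈ memAt G D a ∧ d ∈ Y ⊓ normalizer (P : Set G)} with hB
  set J := closure B with hJ
  have hJY : J ≤ Y ⊓ normalizer (P : Set G) := (closure_le _).2 fun x hx => hx.2
  have hJN : J ≤ N := hJY.trans (inf_le_inf_right _ le_normalizer)
  have hNA₁ : N ≤ normalizer (A₁ : Set G) :=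
    (le_inf (inf_le_left.trans hAN) (inf_le_right.trans le_normalizer)).trans
      inf_normalizer_le_normalizer_inf
  have hA₁fix : ∀ {k}, k ∈ A₁ → ∀ {x}, x ∈ orbit Y a → k • x = x :=
    fun hk _ hx => kerIn_fix (mem_inf.1 hk).1 hx
  have horb : ∀ {g : G}, g ∈ normalizer (Y : Set G) → ∀ {x}, x ∈ orbit Y a → g • x ∈ orbit Y a :=
    fun hg _ hx => hC.smul_orbit h hab hg hx
  -- members of `B` commute modulo `A₁`
  have hcomm : ∀ d ∈ B, ∀ e ∈ B, d * e * d⁻¹ * e⁻¹ ∈ A₁ := by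
    intro d hd e he
    have hdeY : d * e * d⁻¹ ∈ Y := mul_mem (mul_mem hd.2.1 he.2.1) (inv_mem hd.2.1)
    have hsame : ∀ x ∈ orbit Y a, (d * e * d⁻¹) • x = e • x := fun x hx => by
      rw [mul_smul, hS.comm d hd.1 hd.2.1 e he.1 he.2.1 _
        (horb (inv_mem (le_normalizer hd.2.1)) hx), mul_smul, smul_inv_smul]
    have h1 := hC.mul_mem_ker h hab hS (h.conj d e he.1.1) hdeY he.1.1 he.2.1 hsame
    rw [show d * e * d⁻¹ * e = d * e * d⁻¹ * e⁻¹ by rw [invol_inv (h.invol e he.1.1)]] at h1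
    exact mem_inf.2 ⟨mem_inf.2 ⟨h1, mul_mem (le_normalizer hdeY)
      (inv_mem (le_normalizer he.2.1))⟩,
      mul_mem (mul_mem (mul_mem hd.2.2 he.2.2) (inv_mem hd.2.2)) (inv_mem he.2.2)⟩
  haveI : (A₁.subgroupOf N).Normal :=
    (normal_subgroupOf_iff_le_normalizer
      (le_inf (inf_le_left.trans inf_le_right) inf_le_right)).2 hNA₁
  set π := QuotientGroup.mk' (A₁.subgroupOf N) with hπ
  have hπ1 : ∀ (x y : N), π x = π y ↔ (x : G) * (y : G)⁻¹ ∈ A₁ := fun x y => by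
    rw [← mul_inv_eq_one, ← map_inv, ← map_mul]
    exact QuotientGroup.eq_one_iff _
  set K₀ := (J.subgroupOf N).map π with hK₀
  have hK₀comm : ∀ u ∈ K₀, ∀ v ∈ K₀, u * v = v * u := by
    have hgen : K₀ = closure (π '' {x : N | (x : G) ∈ B}) := by
      rw [hK₀, ← MonoidHom.map_closure]
      congr 1
      apply map_injective N.subtype_injective
      rw [subgroupOf_map_subtype, inf_eq_left.2 hJN, MonoidHom.map_closure, hJ]
      congr 1
      ext x
      exact ⟨fun hx => ⟨⟨x, hJN (subset_closure hx)⟩, hx, rfl⟩,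
        by rintro ⟨y, hy, rfl⟩; exact hy⟩
    intro u hu v hv
    rw [hgen] at hu hv
    induction hu, hv using Subgroup.closure_induction₂ with
    | mem x y hx hy =>
      obtain ⟨x, hx, rfl⟩ := hx
      obtain ⟨y, hy, rfl⟩ := hy
      rw [← map_mul, ← map_mul, hπ1]
      push_cast
      rw [mul_inv_rev, ← mul_assoc]
      exact hcomm _ hx _ hy
    | one_left x hx => simp
    | one_right x hx => simp
    | mul_left x y z _ _ _ h1 h2 =>
      exact ((show Commute x z from h1).mul_left (show Commute y z from h2)).eq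
    | mul_right y z x _ _ _ h1 h2 =>
      exact ((show Commute x y from h1).mul_right (show Commute x z from h2)).eq
    | inv_left x y _ _ h1 => exact (show Commute x y from h1).inv_left.eq
    | inv_right x y _ _ h1 => exact (show Commute x y from h1).inv_right.eq
  have hJcomm : ∀ x ∈ J, ∀ y ∈ J, x * y * x⁻¹ * y⁻¹ ∈ A₁ := by
    intro x hx y hy
    have h1 := (hπ1 (⟨x, hJN hx⟩ * ⟨y, hJN hy⟩) (⟨y, hJN hy⟩ * ⟨x, hJN hx⟩)).1 (by
      rw [map_mul, map_mul]
      exact hK₀comm _ (mem_map_of_mem π hx) _ (mem_map_of_mem π hy))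
    push_cast at h1
    rwa [mul_inv_rev, ← mul_assoc] at h1
  have hJsq : ∀ x ∈ J, x * x ∈ A₁ := by
    intro x hx
    induction hx using Subgroup.closure_induction with
    | mem y hy => rw [invol_mul_self (h.invol y hy.1.1)]; exact one_mem _
    | one => simp
    | mul y z hy hz ihy ihz =>
      have h1 := hJcomm z hz y hy
      have hyN := hNA₁ (hJN hy)
      have h2 := (mem_normalizer_iff.1 hyN _).1 h1
      have h3 := (mem_normalizer_iff.1 (mul_mem hyN hyN) _).1 ihz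
      convert mul_mem (mul_mem h2 h3) ihy using 1
      group
    | inv y hy ih =>
      rw [← mul_inv_rev]
      exact inv_mem ih
  have hA₁odd : Odd (Nat.card A₁) := kerIn_odd.of_dvd_nat (card_dvd_of_le inf_le_left)
  have hodd_mem : ∀ x ∈ J, Odd (orderOf x) → x ∈ A₁ := by
    intro x hx hxo
    obtain ⟨n, hn⟩ := hxo
    have h1 := pow_mem (hJsq x hx) (n + 1)
    rwa [← pow_two, ← pow_mul, show 2 * (n + 1) = orderOf x + 1 by omega, pow_succ,
      pow_orderOf_eq_one, one_mul] at h1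
  -- the subgroup `H₁`
  have hHN : H ≤ N := inf_le_inf_right _ inf_le_right
  have hA₁H : A₁ ≤ H := inf_le_inf_right _ kerIn_le
  have hHodd : Odd (Nat.card H) :=
    (Facts.oddC_odd _).of_dvd_nat (card_dvd_of_le (inf_le_left.trans inf_le_left))
  have hMoab : ∀ {g : G}, g ∈ Mo → g • a = a ∧ g • b = b := fun hg =>
    map_subtype_le _ (mem_inf.1 hg).1
  have hHJ : H ≤ normalizer (J : Set G) := by
    have key : ∀ g ∈ H, ∀ x ∈ J, g * x * g⁻¹ ∈ J := by
      intro g hg x hx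
      induction hx using Subgroup.closure_induction with
      | mem y hy =>
        refine subset_closure ⟨?_, mem_inf.2 ⟨(mem_normalizer_iff.1 (hHN hg).1 y).1 hy.2.1,
          mul_mem (mul_mem hg.2 hy.2.2) (inv_mem hg.2)⟩⟩
        have h1 := h.conj_mem_memAt (g := g) hy.1
        rwa [(hMoab hg.1).1] at h1
      | one => simp
      | mul y z _ _ hy hz =>
        have := mul_mem hy hz
        rwa [show g * y * g⁻¹ * (g * z * g⁻¹) = g * (y * z) * g⁻¹ by group] at this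
      | inv y _ hy =>
        have := inv_mem hy
        rwa [show (g * y * g⁻¹)⁻¹ = g * y⁻¹ * g⁻¹ by group] at this
    intro g hg
    refine mem_normalizer_iff.2 fun x => ⟨key g hg x, fun hx => ?_⟩
    simpa [mul_assoc] using key g⁻¹ (inv_mem hg) _ hx
  set H₁ := H ⊔ J with hH₁
  have hH₁a : ∀ {g : G}, g ∈ H₁ → g • a = a := fun hg =>
    (sup_le (fun x hx => (hMoab (mem_inf.1 hx).1).1)
      ((closure_le _).2 fun x hx => hx.1.2) : H₁ ≤ stabilizer G a) hg
  have hH₁N : H₁ ≤ N := sup_le hHN hJN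
  -- the index of `H` is a power of two
  haveI : Fact (Nat.Prime 2) := ⟨Nat.prime_two⟩
  haveI : (J.subgroupOf H₁).Normal :=
    (normal_subgroupOf_iff_le_normalizer le_sup_right).2 (sup_le hHJ le_normalizer)
  have hidx : ∃ k, Nat.card H₁ = Nat.card H * 2 ^ k := by
    haveI : ((A₁ ⊓ J).subgroupOf J).Normal :=
      (normal_subgroupOf_iff_le_normalizer inf_le_right).2
        ((le_inf (hJN.trans hNA₁) le_normalizer).trans inf_normalizer_le_normalizer_inf)
    have h2 : IsPGroup 2 (J ⧸ (A₁ ⊓ J).subgroupOf J) := fun z => by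
      obtain ⟨x, rfl⟩ := QuotientGroup.mk_surjective z
      refine ⟨1, ?_⟩
      rw [← QuotientGroup.mk_pow, QuotientGroup.eq_one_iff, mem_subgroupOf, pow_one, pow_two]
      exact mem_inf.2 ⟨hJsq x x.2, mul_mem x.2 x.2⟩
    obtain ⟨n, hn⟩ := IsPGroup.iff_card.1 h2
    have hd : (H ⊓ J).relIndex J ∣ 2 ^ n :=
      hn ▸ relIndex_dvd_of_le_left J (inf_le_inf_right J hA₁H)
    obtain ⟨k, -, hk⟩ := (Nat.dvd_prime_pow Nat.prime_two).1 hd
    refine ⟨k, ?_⟩
    have h3 := OffenderComp.Aux.card_sup_inf hHJ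
    have h4 := relIndex_mul_relIndex (⊥ : Subgroup G) (H ⊓ J) J bot_le inf_le_right
    rw [relIndex_bot_left, relIndex_bot_left, hk] at h4
    refine Nat.eq_of_mul_eq_mul_right (m := Nat.card (H ⊓ J : Subgroup G)) Nat.card_pos ?_
    rw [h3, ← h4]
    ring
  haveI hsolvJ : Group.IsSolvable J := by
    haveI : (A₁.subgroupOf J).Normal := ⟨fun x hx g => mem_subgroupOf.2 (by
      push_cast
      exact (mem_normalizer_iff.1 (hNA₁ (hJN g.2)) _).1 hx)⟩
    refine CNReduce32.isSolvable_of_quotient (A₁.subgroupOf J) ?_ ?_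
    · exact OddOrder.FeitThompson.isSolvable_of_odd_card
        (hA₁odd.of_dvd_nat (Subgroup.card_comap_dvd_of_injective A₁ J.subtype J.subtype_injective))
    · refine Group.isSolvable_of_comm fun x y => ?_
      obtain ⟨x, rfl⟩ := QuotientGroup.mk_surjective x
      obtain ⟨y, rfl⟩ := QuotientGroup.mk_surjective y
      rw [← QuotientGroup.mk_mul, ← QuotientGroup.mk_mul, eq_comm, QuotientGroup.eq,
        mem_subgroupOf]
      push_cast
      have := hJcomm _ (inv_mem x.2) _ (inv_mem y.2)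
      simpa [mul_assoc] using this
  haveI : Group.IsSolvable H₁ := by
    haveI : Group.IsSolvable H := BenderOne.LocalTools.isSolvable_odd hHodd
    haveI : Group.IsSolvable (J.subgroupOf H₁) := Group.isSolvable_of_isSolvable_injective
      (f := (subgroupOfEquivOfLe (le_sup_right : J ≤ H₁)).toMonoidHom)
      (subgroupOfEquivOfLe _).injective
    haveI : Group.IsSolvable (H.subgroupOf H₁) := Group.isSolvable_of_isSolvable_injective
      (f := (subgroupOfEquivOfLe (le_sup_left : H ≤ H₁)).toMonoidHom)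
      (subgroupOfEquivOfLe _).injective
    have h1 := PrimePowerClass.Radical.isSolvable_sup (H := J.subgroupOf H₁) (K := H.subgroupOf H₁)
      inferInstance inferInstance
    rw [← subgroupOf_sup le_sup_right le_sup_left, sup_comm J H, subgroupOf_self] at h1
    exact Group.isSolvable_of_surjective (f := (topEquiv : (⊤ : Subgroup H₁) ≃* H₁).toMonoidHom)
      (topEquiv).surjective
  have htwoJ : ∀ x ∈ H₁, (∃ k, orderOf x = 2 ^ k) → x ∈ J := by
    intro x hx hk
    obtain ⟨k, hk⟩ := hk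
    have h1 : orderOf (QuotientGroup.mk' (J.subgroupOf H₁) ⟨x, hx⟩) ∣ 2 ^ k :=
      hk ▸ (orderOf_map_dvd _ _).trans (dvd_of_eq (Subgroup.orderOf_mk x hx))
    have hodd : Odd (J.subgroupOf H₁).index := by
      refine hHodd.of_dvd_nat ?_
      show J.relIndex (H ⊔ J) ∣ Nat.card H
      have h3 := OffenderComp.Aux.card_sup_inf hHJ
      have h4 := relIndex_mul_relIndex (⊥ : Subgroup G) J (H ⊔ J) bot_le le_sup_right
      rw [relIndex_bot_left, relIndex_bot_left] at h4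
      refine ⟨Nat.card (H ⊓ J : Subgroup G),
        Nat.eq_of_mul_eq_mul_right (m := Nat.card J) Nat.card_pos ?_⟩
      rw [← h3, ← h4]
      ring
    have h2 : orderOf (QuotientGroup.mk' (J.subgroupOf H₁) ⟨x, hx⟩) ∣ (J.subgroupOf H₁).index :=
      orderOf_dvd_natCard _
    have h5 := Nat.Coprime.eq_one_of_dvd
      ((Nat.Coprime.pow_right k (Nat.coprime_two_right.2 (hodd.of_dvd_nat h2)))) h1
    exact mem_subgroupOf.1 ((QuotientGroup.eq_one_iff _).1 (orderOf_eq_one_iff.1 h5))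
  have hab2 : ∀ T : Subgroup G, T ≤ H₁ → IsPGroup 2 T → ∀ x ∈ T, ∀ y ∈ T, Commute x y := by
    intro T hT hT2 x hx y hy
    have ho : ∀ z ∈ T, ∃ k, orderOf z = 2 ^ k := fun z hz => by
      obtain ⟨k, hk⟩ := IsPGroup.iff_orderOf.1 hT2 ⟨z, hz⟩
      exact ⟨k, by rwa [Subgroup.orderOf_mk] at hk⟩
    have h1 := hJcomm x (htwoJ x (hT hx) (ho x hx)) y (htwoJ y (hT hy) (ho y hy))
    obtain ⟨k, hk⟩ := ho _ (mul_mem (mul_mem (mul_mem hx hy) (inv_mem hx)) (inv_mem hy))
    have h2 : Odd (2 ^ k) := hk ▸ hA₁odd.of_dvd_nat (Subgroup.orderOf_dvd_natCard _ h1)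
    rcases k with - | k
    · exact mul_inv_eq_iff_eq_mul.1 (mul_inv_eq_one.1 (orderOf_eq_one_iff.1 hk))
    · exact absurd h2 (Nat.not_odd_iff_even.2 (Nat.even_pow.2 ⟨even_two, k.succ_ne_zero⟩))
  have hRH : R ≤ H := le_inf hR.1 ((le_inf le_normalizer
    ((hR.1.trans inf_le_right).trans hAN)).trans inf_normalizer_le_normalizer_inf)
  have hRH₁ : SylowIn p R H₁ := by
    obtain ⟨k, hk⟩ := hidx
    obtain ⟨R', hR', hRR'⟩ := SylowIn.exists_ge (p := p) hR.isPGroup hRH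
    have hR'' : SylowIn p R H := by
      rwa [hR.eq_of_le hRR' (hR'.1.trans inf_le_left) hR'.isPGroup] at hR'
    refine ⟨hRH.trans le_sup_left, ?_⟩
    rw [hk, Nat.factorization_mul Nat.card_pos.ne' (pow_ne_zero _ two_ne_zero),
      Nat.Prime.factorization_pow Nat.prime_two, Finsupp.add_apply,
      Finsupp.single_eq_of_ne hp2, add_zero]
    exact hR''.2
  have hZJ := zj_cover hp2 hRH₁ hab2
  set W := Balance.coreIn p H₁ with hW
  have hWn : H₁ ≤ normalizer (W : Set G) := Balance.le_normalizer_coreIn _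
  have hWp : ¬ p ∣ Nat.card W := Balance.not_dvd_card_coreIn _
  have hPH : P ≤ H := inf_le_left.trans hRH
  have hPW : ∀ w ∈ W, ∀ x ∈ P, Commute w x := by
    intro w hw x hx
    have hwN : w ∈ N := hH₁N (Balance.coreIn_le _ hw)
    have h1 : w * x * w⁻¹ * x⁻¹ ∈ P :=
      mul_mem ((mem_normalizer_iff.1 hwN.2 x).1 hx) (inv_mem hx)
    have h2 : w * x * w⁻¹ * x⁻¹ ∈ W := by
      rw [show w * x * w⁻¹ * x⁻¹ = w * (x * w⁻¹ * x⁻¹) by group]
      exact mul_mem hw ((mem_normalizer_iff.1 (hWn (mem_sup_left (hPH hx))) _).1 (inv_mem hw))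
    exact mul_inv_eq_iff_eq_mul.1 (mul_inv_eq_one.1
      (BenderOne.NodeA.ZJAux.eq_one_of_coprime hP.isPGroup hWp h1 h2))
  have hWodd : Odd (Nat.card W) := by
    refine (odd_card_iff_no_invol _).2 fun s hs hs2 => ?_
    have hsJ := htwoJ s (Balance.coreIn_le _ hs) ⟨1, by rw [hs2, pow_one]⟩
    have hsY := hJY hsJ
    have hsD : s ∈ D := hS.invol s hsY.1 hs2
    obtain ⟨x, hx, hx1, hsx⟩ := all_inverting h hab hC hS hP hsD hsY
    refine hx1 ?_
    rw [(hPW s hs x hx).eq, mul_inv_cancel_right] at hsx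
    have h2 : orderOf x ∣ 2 :=
      orderOf_dvd_of_pow_eq_one (by rw [pow_two]; exact mul_eq_one_iff_eq_inv.2 hsx)
    exact orderOf_eq_one_iff.1 (Nat.Coprime.eq_one_of_dvd
      (Nat.coprime_two_right.2 (kerIn_odd.of_dvd_nat
        (Subgroup.orderOf_dvd_natCard _ (mem_inf.1 hx).2))) h2)
  have hXR : X ≤ R := ZJ.centerThompsonAOf_le R
  have hXH₁ : X ≤ H₁ := hXR.trans (hRH.trans le_sup_left)
  have hXW : X ≤ normalizer (W : Set G) := hXH₁.trans hWn
  have hXWodd : Odd (Nat.card (X ⊔ W : Subgroup G)) :=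
    (((hHodd.of_dvd_nat (card_dvd_of_le (hXR.trans hRH)))).mul hWodd).of_dvd_nat
      (Dvd.intro _ (OffenderComp.Aux.card_sup_inf hXW))
  have hdXW : ∀ g ∈ H₁, ∀ x ∈ X, g * x * g⁻¹ ∈ X ⊔ W := by
    intro g hg x hx
    obtain ⟨n, hn, w, hw, rfl⟩ := Coprime.exists_mul_of_mem_sup
      (inf_le_left.trans hWn) (sup_comm W _ ▸ hZJ hg)
    have h1 : w * x * w⁻¹ ∈ X ⊔ W :=
      mul_mem (mul_mem (mem_sup_right hw) (mem_sup_left hx)) (inv_mem (mem_sup_right hw))
    rw [← SetLike.mem_coe, coe_mul_of_left_le_normalizer_right _ _ hXW, Set.mem_mul] at h1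
    obtain ⟨x', hx', w', hw', he⟩ := h1
    rw [show n * w * x * (n * w)⁻¹ = n * x' * n⁻¹ * (n * w' * n⁻¹) by
      calc n * w * x * (n * w)⁻¹ = n * (w * x * w⁻¹) * n⁻¹ := by group
        _ = n * (x' * w') * n⁻¹ := by rw [he]
        _ = _ := by group]
    exact mul_mem (mem_sup_left ((mem_normalizer_iff.1 hn.2 x').1 hx'))
      (mem_sup_right ((mem_normalizer_iff.1 (hWn hn.1) w').1 hw'))
  have hXfix : X ≤ P := by
    intro x hx
    have hxH : x ∈ H := hRH (hXR hx)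
    have hxY : x ∈ normalizer (Y : Set G) := (hHN hxH).1
    have hfix : ∀ z ∈ orbit Y a, x • z = z := by
      refine hS.trivial x hxY (hMoab hxH.1).1 (hMoab hxH.1).2 fun d hd hdY z hz => ?_
      obtain ⟨d', hd', hd'S, hsame⟩ :=
        exists_replace_at h hab hC hS hP hd (mem_orbit_self a) hdY
      have hd'J : d' ∈ J := subset_closure ⟨hd', hd'S⟩
      have hd'H : d' ∈ H₁ := mem_sup_right hd'J
      set k := x * d' * x⁻¹ * d'⁻¹ with hk
      have hkJ : k ∈ J :=
        mul_mem ((mem_normalizer_iff.1 (hHJ hxH) d').1 hd'J) (inv_mem hd'J)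
      have hkXW : k ∈ X ⊔ W := by
        rw [hk, show x * d' * x⁻¹ * d'⁻¹ = x * (d' * x⁻¹ * d'⁻¹) by group]
        exact mul_mem (mem_sup_left hx) (hdXW d' hd'H _ (inv_mem hx))
      have hkA := hodd_mem k hkJ (hXWodd.of_dvd_nat (Subgroup.orderOf_dvd_natCard _ hkXW))
      calc (x * d) • z = (x * d') • z := by rw [mul_smul, mul_smul, hsame z hz]
        _ = (k * (d' * x)) • z := by rw [hk]; congr 1; group
        _ = (d' * x) • z := by
          rw [mul_smul, hA₁fix hkA (horb (mul_mem (le_normalizer hd'S.1) hxY) hz)]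
        _ = (d * x) • z := by rw [mul_smul, mul_smul, hsame _ (horb hxY hz)]
    exact mem_inf.2 ⟨hXR hx, mem_inf.2 ⟨mem_inf.2
      ⟨(mem_inf.1 hxH.1).1, (mem_fixingSubgroup_iff G).2 hfix⟩, hxY⟩⟩
  refine ⟨hXfix, fun d hd hdS => ?_⟩
  obtain ⟨w, hw, n, hn, hdn⟩ := Coprime.exists_mul_of_mem_sup
    (A := H₁ ⊓ normalizer (X : Set G)) (K := W) (inf_le_left.trans hWn)
    (sup_comm W _ ▸ hZJ (mem_sup_right (subset_closure ⟨hd, hdS⟩) : d ∈ H₁))
  rw [hdn]
  refine mul_mem hw.2 (centralizer_le_normalizer _ (mem_centralizer_iff.2 fun x hx => ?_))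
  exact (hPW n hn x (hXfix hx)).eq.symm

end Cfsg.Agent.Lib.Crit5.Full
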