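import Cfsg.Agent.Lib.Crit5.FactsCore
import Cfsg.Agent.Lib.BenderOne.LocalTools
import Cfsg.Agent.Lib.BenderOne.NodeA.ZJ

/-!
# The single fixed point criterion, section A1: the kernel of a candidate

`Sh` lists what section S gives for a proper `Y = pairSub D Y a b` with commuting members at `a`.
`core K` is the part of the odd core of the pair stabiliser fixing the orbit `Δ` of `a` under `Y`.
It is normal in `N(Y)`, and contains every element of `O(Y)` inverted by a member of `Y`.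

Owner: helper76.
-/

set_option autoImplicit false
set_option linter.style.haveILetI false

namespace Cfsg.Agent.Lib.Crit5.Full

open Subgroup MulAction Cfsg.Agent.Lib.Involutions.Basic
open Cfsg.Agent.Lib.Crit8 (Pre Action memAt memSwap part)
open Cfsg.Agent.Lib.Crit5.Facts (oddC)
open Cfsg.Agent.Lib.BenderOne20 (SylowIn)

universe u

variable {G Ω : Type u} [Group G] [MulAction G Ω]

/-- What section S gives for `Y`, on the orbit of `a`. -/
structure Sh (D : Set G) (Y : Subgroup G) (a b : Ω) : Prop where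
  ker_le : ∀ y ∈ Y, (∀ x ∈ orbit Y a, y • x = x) → y ∈ oddC Y
  le_ker : ∀ y ∈ oddC Y, ∀ x ∈ orbit Y a, y • x = x
  comm : ∀ d ∈ memAt G D a, d ∈ Y → ∀ e ∈ memAt G D a, e ∈ Y →
    ∀ x ∈ orbit Y a, (d * e) • x = (e * d) • x
  invol : ∀ s ∈ Y, orderOf s = 2 → s ∈ D
  two_trans : ∀ x ∈ orbit Y a, ∀ y ∈ orbit Y a, x ≠ y → ∃ g ∈ Y, g • a = x ∧ g • b = y
  cover : ∀ W : Subgroup G, (∀ y ∈ Y, y • a = a → y • b = b → y ∈ W) →
    ∀ g ∈ Y, g ∈ W → g • b = a → g • a ≠ a → g • a ≠ b →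
      ∀ d ∈ memAt G D a, d ∈ Y → d ∈ W
  trivial : ∀ x ∈ normalizer (Y : Set G), x • a = a → x • b = b →
    (∀ d ∈ memAt G D a, d ∈ Y → ∀ z ∈ orbit Y a, (x * d) • z = (d * x) • z) →
    ∀ z ∈ orbit Y a, x • z = z

/-- A proper subgroup generated by members at `a` and `b`, with commuting members at `a`. -/
structure Big (D : Set G) (a b : Ω) (Y : Subgroup G) : Prop where
  gen : pairSub D Y a b = Y
  ne_top : Y ≠ ⊤
  atB : ∃ x ∈ memAt G D b, x ∈ Y
  four : ∃ d ∈ memAt G D a, ∃ e ∈ memAt G D a, d ∈ Y ∧ e ∈ Y ∧ d ≠ e ∧ Commute d e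

/-- The candidates of the maximal choice. -/
structure Cand (D : Set G) (a b : Ω) (p : ℕ) (Y : Subgroup G) : Prop extends Big D a b Y where
  moved : ∃ d ∈ memAt G D a, d ∈ Y ∧ ∃ j ∈ oddC Y, orderOf j = p ∧ d * j * d⁻¹ = j⁻¹

/-- The odd core of the pair stabiliser cut down to the kernel on the orbit. -/
def kerPair (Y : Subgroup G) (a x y : Ω) : Subgroup G :=
  oddC (stabilizer G x ⊓ stabilizer G y) ⊓ fixingSubgroup G (orbit Y a)

theorem pairSub_le (D : Set G) (M : Subgroup G) (a b : Ω) : pairSub D M a b ≤ M :=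
  (closure_le _).2 fun _ hx => hx.2

theorem mem_pairSub {D : Set G} {M : Subgroup G} {a b : Ω} {d : G}
    (hd : d ∈ memAt G D a ∨ d ∈ memAt G D b) (hdM : d ∈ M) : d ∈ pairSub D M a b :=
  subset_closure ⟨hd, hdM⟩

theorem pairSub_idem (D : Set G) (M : Subgroup G) (a b : Ω) :
    pairSub D (pairSub D M a b) a b = pairSub D M a b :=
  le_antisymm (pairSub_le D _ a b)
    ((closure_le _).2 fun _ hx => mem_pairSub hx.1 (mem_pairSub hx.1 hx.2))

/-- Conjugation carries odd cores into odd cores. -/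
theorem conj_oddC [Finite G] {K K' : Subgroup G} {g : G} (hg : ∀ k ∈ K, g * k * g⁻¹ ∈ K')
    (hg' : ∀ k ∈ K', g⁻¹ * k * g ∈ K) {x : G} (hx : x ∈ oddC K) : g * x * g⁻¹ ∈ oddC K' := by
  refine Facts.le_oddC (K := K') (N := (oddC K).map (MulAut.conj g).toMonoidHom) ?_ ?_ ?_
    ⟨x, hx, rfl⟩
  · rintro _ ⟨y, hy, rfl⟩
    exact hg y (map_subtype_le _ hy)
  · rintro k hk _ ⟨y, hy, rfl⟩
    refine ⟨g⁻¹ * k * g * y * (g⁻¹ * k * g)⁻¹, Facts.conj_mem_oddC (hg' k hk) hy, ?_⟩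
    show g * (g⁻¹ * k * g * y * (g⁻¹ * k * g)⁻¹) * g⁻¹ = k * (g * y * g⁻¹) * k⁻¹
    group
  · rw [card_map_of_injective (MulAut.conj g).injective]
    exact Facts.oddC_odd K

/-- Conjugation carries a point stabiliser pair to the image pair. -/
theorem conj_mem_pair {g k : G} {x y : Ω} (hk : k ∈ stabilizer G x ⊓ stabilizer G y) :
    g * k * g⁻¹ ∈ stabilizer G (g • x) ⊓ stabilizer G (g • y) := by
  refine mem_inf.2 ⟨?_, ?_⟩ <;> rw [mem_stabilizer_iff, mul_smul, mul_smul, inv_smul_smul]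
  · rw [show k • x = x from hk.1]
  · rw [show k • y = y from hk.2]

theorem conj_oddC_pair [Finite G] {g k : G} {x y : Ω}
    (hk : k ∈ oddC (stabilizer G x ⊓ stabilizer G y)) :
    g * k * g⁻¹ ∈ oddC (stabilizer G (g • x) ⊓ stabilizer G (g • y)) :=
  conj_oddC (fun l hl => conj_mem_pair hl) (fun l hl => by
    have := conj_mem_pair (g := g⁻¹) hl
    rwa [inv_smul_smul, inv_smul_smul, inv_inv] at this) hk

variable [Finite G] [FaithfulSMul G Ω] {D : Set G} (h : Action G Ω D) {Y : Subgroup G} {a b : Ω}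
include h

/-- The points of the members of `Y` are in the orbit. -/
theorem mem_orbit_fix {d e : G} (hd : d ∈ memAt G D a) (hdY : d ∈ Y)
    (hmove : ∃ y ∈ Y, y • a ≠ a) (he : e ∈ D) (heY : e ∈ Y) {c : Ω} (hc : e • c = c) :
    c ∈ orbit Y a := by
  obtain ⟨⟨z, hz⟩, hz', -⟩ := (Facts.subAction h hd hdY hmove).one ⟨e, heY⟩ he
  rwa [h.eq_of_fix he hc (congrArg Subtype.val hz')]

variable {p : ℕ} (hab : a ≠ b) (hC : Cand D a b p Y)
include hab hC

theorem Cand.exists_atA : ∃ d ∈ memAt G D a, d ∈ Y :=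
  let ⟨d, hd, _, _, hdY, _⟩ := hC.four
  ⟨d, hd, hdY⟩

theorem Cand.move : ∃ y ∈ Y, y • a ≠ a :=
  let ⟨x, hx, hxY⟩ := hC.atB
  ⟨x, hxY, fun e => hab (h.eq_of_fix hx.1 e hx.2)⟩

theorem Cand.b_mem : b ∈ orbit Y a := by
  obtain ⟨d, hd, hdY⟩ := hC.exists_atA h hab
  obtain ⟨x, hx, hxY⟩ := hC.atB
  exact mem_orbit_fix h hd hdY (hC.move h hab) hx.1 hxY hx.2

/-- A normalising element preserves the orbit. -/
theorem Cand.smul_orbit {g : G} (hg : g ∈ normalizer (Y : Set G)) {x : Ω} (hx : x ∈ orbit Y a) :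
    g • x ∈ orbit Y a := by
  obtain ⟨d, hd, hdY⟩ := hC.exists_atA h hab
  obtain ⟨⟨y, hy⟩, rfl⟩ := hx
  have h1 : g • a ∈ orbit Y a := mem_orbit_fix h hd hdY (hC.move h hab) (h.conj g d hd.1)
    ((mem_normalizer_iff.1 hg d).1 hdY) (h.conj_mem_memAt (g := g) hd).2
  obtain ⟨⟨z, hz⟩, hz'⟩ := h1
  refine ⟨⟨g * y * g⁻¹ * z, mul_mem ((mem_normalizer_iff.1 hg y).1 hy) hz⟩, ?_⟩
  show (g * y * g⁻¹ * z) • a = g • y • a
  rw [mul_smul, show z • a = g • a from hz', mul_smul, mul_smul, inv_smul_smul]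

theorem Cand.conj_fix {g k : G} (hg : g ∈ normalizer (Y : Set G))
    (hk : k ∈ fixingSubgroup G (orbit Y a)) : g * k * g⁻¹ ∈ fixingSubgroup G (orbit Y a) := by
  rw [mem_fixingSubgroup_iff] at hk ⊢
  intro x hx
  rw [mul_smul, mul_smul, hk _ (hC.smul_orbit h hab (inv_mem hg) hx), smul_inv_smul]

theorem Cand.normalizer_le_fix :
    normalizer (Y : Set G) ≤ normalizer (fixingSubgroup G (orbit Y a) : Set G) := by
  intro g hg
  refine mem_normalizer_iff.2 fun k => ⟨hC.conj_fix h hab hg, fun hk => ?_⟩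
  have := hC.conj_fix h hab (inv_mem hg) hk
  simpa [mul_assoc] using this

theorem Cand.conj_kerPair {g k : G} (hg : g ∈ normalizer (Y : Set G)) {x y : Ω}
    (hk : k ∈ kerPair Y a x y) : g * k * g⁻¹ ∈ kerPair Y a (g • x) (g • y) :=
  mem_inf.2 ⟨conj_oddC_pair hk.1, hC.conj_fix h hab hg hk.2⟩

theorem Cand.exists_swap : ∃ w ∈ Y, w ∈ memSwap G D a b := by
  obtain ⟨d, hd, hdY⟩ := hC.exists_atA h hab
  obtain ⟨x, hx, hxY⟩ := hC.atB
  have hA := Facts.subAction h hd hdY (hC.move h hab)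
  obtain ⟨f, hf, hfa, -⟩ := hA.exists_swap (d := ⟨d, hdY⟩) (e := ⟨x, hxY⟩)
    (a := ⟨a, mem_orbit_self a⟩) (b := ⟨b, hC.b_mem h hab⟩)
    ⟨hd.1, Subtype.ext hd.2⟩ ⟨hx.1, Subtype.ext hx.2⟩ fun e => hab (congrArg Subtype.val e)
  exact ⟨f, f.2, hf, congrArg Subtype.val hfa⟩

/-- The kernel is normalised by `N(Y)`. -/
theorem Cand.normalizer_le_ker (hS : Sh D Y a b) :
    normalizer (Y : Set G) ≤ normalizer (kerPair Y a a b : Set G) := by
  set K := kerPair Y a a b
  obtain ⟨d, hd, hdY⟩ := hC.exists_atA h hab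
  obtain ⟨w, hwY, hw⟩ := hC.exists_swap h hab
  obtain ⟨c, hwc⟩ := (h.one w hw.1).exists
  have hca : c ≠ a := fun e => hab ((e ▸ hwc).symm.trans hw.2)
  have hcb : c ≠ b := fun e => hab ((h.memSwap_smul hw).symm.trans (e ▸ hwc))
  have hcY : c ∈ orbit Y a := mem_orbit_fix h hd hdY (hC.move h hab) hw.1 hwY hwc
  have hN : ∀ g ∈ normalizer (Y : Set G),
      (∀ k ∈ K, g * k * g⁻¹ ∈ K) → g ∈ normalizer (K : Set G) := by
    intro g _ hg
    refine mem_normalizer_iff_map_conj_eq.2 (eq_of_le_of_card_ge ?_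
      (le_of_eq (card_map_of_injective (MulAut.conj g).injective).symm))
    rintro _ ⟨k, hk, rfl⟩
    exact hg k hk
  have hfixN : ∀ g ∈ normalizer (Y : Set G), g • a = a → g • b = b →
      g ∈ normalizer (K : Set G) := fun g hg ha hb => hN g hg fun k hk => by
    have := hC.conj_kerPair h hab hg hk
    rwa [ha, hb] at this
  obtain ⟨g, hgY, hga, hgb⟩ := hS.two_trans c hcY a (mem_orbit_self a) hca
  have hgK : g ∈ normalizer (K : Set G) := hN g (le_normalizer hgY) fun k hk => by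
    have h1 := hC.conj_kerPair h hab (le_normalizer hgY) hk
    rw [hga, hgb] at h1
    have h2 := Facts.oddC_next_le h hab hw hwc
      (mem_inf.2 ⟨h1.1, (mem_fixingSubgroup_iff G).1 h1.2 b (hC.b_mem h hab)⟩)
    exact mem_inf.2 ⟨h2.1, h1.2⟩
  have hB : ∀ e ∈ memAt G D a, e ∈ Y → e ∈ normalizer (K : Set G) :=
    hS.cover _ (fun y hy => hfixN y (le_normalizer hy)) g hgY hgK hgb
      (by rw [hga]; exact hca) (by rw [hga]; exact hcb)
  have hwK : w ∈ normalizer (K : Set G) := hN w (le_normalizer hwY) fun k hk => by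
    have h1 := hC.conj_kerPair h hab (le_normalizer hwY) hk
    rw [hw.2, h.memSwap_smul hw, kerPair, inf_comm (stabilizer G b)] at h1
    exact h1
  have hY : Y ≤ normalizer (K : Set G) := by
    conv_lhs => rw [← hC.gen]
    refine (closure_le _).2 ?_
    rintro e ⟨he | he, heY⟩
    · exact hB e he heY
    · have h1 := h.conj_mem_memAt (g := w) he
      rw [h.memSwap_smul hw] at h1
      have h2 := hB _ h1 (mul_mem (mul_mem hwY heY) (inv_mem hwY))
      simpa [mul_assoc] using mul_mem (mul_mem (inv_mem hwK) h2) hwK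
  intro g hg
  obtain ⟨y, hyY, hya, hyb⟩ := hS.two_trans (g • a) (hC.smul_orbit h hab hg (mem_orbit_self a))
    (g • b) (hC.smul_orbit h hab hg (hC.b_mem h hab)) (by simpa using hab)
  have h1 : y⁻¹ * g ∈ normalizer (K : Set G) := by
    refine hfixN _ (mul_mem (inv_mem (le_normalizer hyY)) hg) ?_ ?_
    · rw [mul_smul, inv_smul_eq_iff, hya]
    · rw [mul_smul, inv_smul_eq_iff, hyb]
  simpa using mul_mem (hY hyY) h1

/-- The kernel is the one of every pair of the orbit. -/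
theorem Cand.kerPair_le (hS : Sh D Y a b) {x y : Ω} (hx : x ∈ orbit Y a) (hy : y ∈ orbit Y a)
    (hxy : x ≠ y) : kerPair Y a x y ≤ kerPair Y a a b := by
  obtain ⟨g, hgY, hga, hgb⟩ := hS.two_trans x hx y hy hxy
  intro k hk
  have h1 := hC.conj_kerPair h hab (inv_mem (le_normalizer hgY)) hk
  rw [← hga, ← hgb, inv_smul_smul, inv_smul_smul] at h1
  have h2 := (mem_normalizer_iff.1 (hC.normalizer_le_ker h hab hS (le_normalizer hgY)) _).1 h1
  simpa [mul_assoc] using h2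

/-- An element of `O(Y)` inverted by a member is in the kernel. -/
theorem Cand.inverted_mem_ker (hS : Sh D Y a b) {d j : G} (hd : d ∈ D) (hdY : d ∈ Y)
    (hj : j ∈ oddC Y) (hdj : d * j * d⁻¹ = j⁻¹) : j ∈ kerPair Y a a b := by
  obtain ⟨e, he, heY⟩ := hC.exists_atA h hab
  obtain ⟨x, hx, hdx⟩ : ∃ x ∈ orbit Y a, d • x ≠ x := by
    by_contra hall
    push Not at hall
    exact hab (h.eq_of_fix hd (hall a (mem_orbit_self a)) (hall b (hC.b_mem h hab)))
  have hdxY : d • x ∈ orbit Y a := hC.smul_orbit h hab (le_normalizer hdY) hx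
  have h1 : d * j * d⁻¹ * j⁻¹ ∈ kerPair Y a x (d • x) := by
    refine mem_inf.2 ⟨Facts.swap_commutator h (Ne.symm hdx) ⟨hd, rfl⟩
      (mem_inf.2 ⟨hS.le_ker j hj x hx, hS.le_ker j hj _ hdxY⟩), ?_⟩
    rw [hdj, mem_fixingSubgroup_iff]
    exact fun z hz => hS.le_ker _ (mul_mem (inv_mem hj) (inv_mem hj)) z hz
  have h2 := hC.kerPair_le h hab hS hx hdxY (Ne.symm hdx) h1
  rw [hdj, ← mul_inv_rev, inv_mem_iff] at h2
  obtain ⟨n, hn⟩ : Odd (orderOf j) :=
    (Facts.oddC_odd Y).of_dvd_nat (Subgroup.orderOf_dvd_natCard _ hj)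
  have h3 := pow_mem h2 (n + 1)
  rwa [← pow_two, ← pow_mul, show 2 * (n + 1) = orderOf j + 1 by omega, pow_succ,
    pow_orderOf_eq_one, one_mul] at h3

/-- Members with the same action on the orbit differ by the kernel. -/
theorem Cand.mul_mem_ker (hS : Sh D Y a b) {d e : G} (hd : d ∈ D) (hdY : d ∈ Y) (he : e ∈ D)
    (heY : e ∈ Y) (heq : ∀ x ∈ orbit Y a, d • x = e • x) : d * e ∈ kerPair Y a a b := by
  have hr : d * e ∈ oddC Y := by
    refine hS.ker_le _ (mul_mem hdY heY) fun x hx => ?_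
    rw [mul_smul, ← heq x hx, smul_smul, invol_mul_self (h.invol d hd), one_smul]
  refine hC.inverted_mem_ker h hab hS hd hdY hr ?_
  rw [invol_inv (h.invol d hd)]
  exact invert_mul (invol_mul_self (h.invol d hd)) (invol_mul_self (h.invol e he))

/-- `N(Y)` normalises the part of the kernel normalising `Y`. -/
theorem Cand.normalizer_le_inf (hS : Sh D Y a b) : normalizer (Y : Set G) ≤
    normalizer ((kerPair Y a a b ⊓ normalizer (Y : Set G) : Subgroup G) : Set G) :=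
  (le_inf (hC.normalizer_le_ker h hab hS) le_normalizer).trans inf_normalizer_le_normalizer_inf

end Cfsg.Agent.Lib.Crit5.Full
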