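import Cfsg.Agent.Lib.Crit5.FactsCore

/-!
# The single fixed point criterion: the theorem from the sections

The kernel `K` of the action has odd order (`Facts.exists_moved_of_top`), so the setting passes to
`G / K`, and a smallest counterexample is faithful.
-/

set_option autoImplicit false
set_option linter.style.haveILetI false

namespace Cfsg.Agent.Lib.Crit5.Induct

open MulAction Subgroup Cfsg.Agent.Lib.Involutions.Basic
open Cfsg.Agent.Lib.Crit8 (Pre Action Bad memAt loc)

universe u v

/-- An involution of a quotient by an odd normal subgroup lifts to an involution. -/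
theorem exists_lift {G : Type*} [Group G] [Finite G] {Q : Type*} [Group Q] (f : G →* Q)
    (hodd : Odd (Nat.card f.ker)) {x : G} (hx : orderOf (f x) = 2) :
    ∃ t : G, orderOf t = 2 ∧ f t = f x ∧ t ∈ zpowers x := by
  have h2 : x ^ 2 ∈ f.ker := by
    rw [MonoidHom.mem_ker, map_pow, ← hx, pow_orderOf_eq_one]
  have hn : Odd (orderOf (x ^ 2)) := hodd.of_dvd_nat (Subgroup.orderOf_dvd_natCard _ h2)
  have hft : f (x ^ orderOf (x ^ 2)) = f x := by
    obtain ⟨j, hj⟩ := hn
    rw [map_pow, hj, pow_succ, pow_mul, pow_two, invol_mul_self hx, one_pow, one_mul]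
  refine ⟨x ^ orderOf (x ^ 2), invol_iff.2 ⟨?_, fun h => ?_⟩, hft, pow_mem (mem_zpowers x) _⟩
  · rw [← pow_add, ← two_mul, pow_mul, pow_orderOf_eq_one]
  · rw [h, map_one] at hft
    exact invol_ne_one hx hft.symm

/-- A strongly embedded subgroup containing an odd kernel passes to the quotient. -/
theorem stronglyEmbedded_image {L : Type u} {L' : Type v} [Group L] [Group L'] [Finite L] [Finite L']
    (f : L →* L') (hf : Function.Surjective f) (hodd : Odd (Nat.card f.ker)) {M : Subgroup L'}
    (hM : Cfsg.IsStronglyEmbedded (M.comap f)) : Cfsg.IsStronglyEmbedded M := by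
  refine Involutions.StronglyEmbedded.of_forall_conj ?_ ?_ fun t ht ht2 g hg => ?_
  · intro h
    exact hM.1 (by rw [h, comap_top])
  · obtain ⟨⟨t, htM⟩, ht⟩ := exists_invol (G := ↥(M.comap f)) hM.2.1
    have ht' : orderOf t = 2 := by rw [← Subgroup.orderOf_mk t htM, ht]
    have hne : f t ≠ 1 := fun h => (odd_card_iff_no_invol _).1 hodd t h ht'
    have h2 : orderOf (f t) = 2 :=
      invol_iff.2 ⟨by rw [← map_mul, invol_mul_self ht', map_one], hne⟩
    rw [even_iff_two_dvd, ← h2]
    exact Subgroup.orderOf_dvd_natCard _ htM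
  · obtain ⟨x, rfl⟩ := hf t
    obtain ⟨y, rfl⟩ := hf g
    obtain ⟨s, hs, hfs, -⟩ := exists_lift f hodd ht2
    have h1 : y ∈ M.comap f := Involutions.StronglyEmbedded.mem_of_conj_mem hM hs
      (show f s ∈ M by rw [hfs]; exact ht)
      (show f (y * s * y⁻¹) ∈ M by rw [map_mul, map_mul, map_inv, hfs]; exact hg)
    exact h1

variable {G Ω : Type u} [Group G] [MulAction G Ω] [Finite G] {D : Set G}

omit [Finite G] in
theorem mem_ker {g : G} : g ∈ (toPermHom G Ω).ker ↔ ∀ x : Ω, g • x = x := by
  rw [MonoidHom.mem_ker]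
  exact ⟨fun e x => by simpa using Equiv.congr_fun e x, fun e => Equiv.ext fun x => by simpa using e x⟩

theorem odd_ker (h : Action G Ω D) (htop : closure D = ⊤) :
    Odd (Nat.card (toPermHom G Ω).ker) :=
  (odd_card_iff_no_invol _).2 fun t ht h2 => by
    obtain ⟨x, hx⟩ := Facts.exists_moved_of_top h htop h2
    exact hx (mem_ker.1 ht x)

/-- The action of the quotient by the kernel. -/
@[instance_reducible]
def quotAction : MulAction (G ⧸ (toPermHom G Ω).ker) Ω :=
  MulAction.compHom Ω (QuotientGroup.kerLift (toPermHom G Ω))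

/-- The setting passes to the quotient by the kernel of the action. -/
theorem action_quot (h : Action G Ω D) (htop : closure D = ⊤) :
    letI := quotAction (G := G) (Ω := Ω)
    Action (G ⧸ (toPermHom G Ω).ker) Ω (QuotientGroup.mk' (toPermHom G Ω).ker '' D) := by
  classical
  letI := quotAction (G := G) (Ω := Ω)
  set K := (toPermHom G Ω).ker with hK
  set π := QuotientGroup.mk' K with hπ
  have hsm : ∀ (g : G) (x : Ω), π g • x = g • x := fun g x => rfl
  have hoddK : Odd (Nat.card K) := odd_ker h htop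
  have hdK : ∀ d ∈ D, d ∉ K := by
    intro d hd hdK
    haveI := h.nontrivial
    obtain ⟨p, q, hpq⟩ := exists_pair_ne Ω
    exact hpq (h.eq_of_fix hd (mem_ker.1 hdK p) (mem_ker.1 hdK q))
  have heq : ∀ {d e : G}, d ∈ D → (π d = π e ↔ d * e ∈ K) := fun {d e} hd => by
    show (d : G ⧸ K) = e ↔ _
    rw [QuotientGroup.eq, invol_inv (h.invol d hd)]
  -- the members with one image form a set of odd size
  have hfib : ∀ d ∈ D, Odd (Nat.card {e : G | e ∈ D ∧ π e = π d}) := by
    intro d hd
    have hdd := invol_mul_self (h.invol d hd)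
    refine Crit8.odd_card_of_unique_fix
      (fun e : {e : G | e ∈ D ∧ π e = π d} =>
        (⟨d * e.1 * d⁻¹, h.conj d _ e.2.1, ?_⟩ : {e : G | e ∈ D ∧ π e = π d}))
      (fun e => Subtype.ext ?_) (a := ⟨d, hd, rfl⟩) (Subtype.ext (by simp)) fun e he => ?_
    · rw [map_mul, map_mul, map_inv, e.2.2, mul_inv_cancel_right]
    · show d * (d * e.1 * d⁻¹) * d⁻¹ = e.1
      calc d * (d * e.1 * d⁻¹) * d⁻¹ = (d * d) * e.1 * (d * d)⁻¹ := by group
        _ = e.1 := by rw [hdd]; simp
    · refine Subtype.ext ?_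
      by_contra hne
      have hc : d * e.1 = e.1 * d := mul_inv_eq_iff_eq_mul.1 (congrArg Subtype.val he)
      have h2 : orderOf (d * e.1) = 2 := by
        refine invol_iff.2 ⟨?_, fun h1 => hne ?_⟩
        · calc d * e.1 * (d * e.1) = d * (e.1 * d) * e.1 := by group
            _ = d * (d * e.1) * e.1 := by rw [hc]
            _ = (d * d) * (e.1 * e.1) := by group
            _ = 1 := by rw [hdd, invol_mul_self (h.invol _ e.2.1), one_mul]
        · exact ((eq_inv_of_mul_eq_one_left h1).trans (invol_inv (h.invol _ e.2.1))).symm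
      exact (odd_card_iff_no_invol _).1 hoddK _ ((heq hd).1 e.2.2.symm) h2
  refine { invol := ?_, conj := ?_, one := ?_, trans := ?_, nonempty := ?_,
           nontrivial := h.nontrivial, odd := fun a => ?_, oddMul := ?_, emb := ?_ }
  · rintro _ ⟨d, hd, rfl⟩
    exact invol_iff.2 ⟨by rw [← map_mul, invol_mul_self (h.invol d hd), map_one],
      fun e => hdK d hd ((QuotientGroup.eq_one_iff d).1 e)⟩
  · intro q e he
    obtain ⟨d, hd, rfl⟩ := he
    obtain ⟨g, rfl⟩ := QuotientGroup.mk'_surjective K q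
    exact ⟨g * d * g⁻¹, h.conj g d hd, by rw [map_mul, map_mul, map_inv]⟩
  · rintro _ ⟨d, hd, rfl⟩
    exact h.one d hd
  · haveI := h.trans
    exact ⟨fun x y => let ⟨g, hg⟩ := exists_smul_eq G x y; ⟨π g, hg⟩⟩
  · obtain ⟨d, hd⟩ := h.nonempty
    exact ⟨π d, d, hd, rfl⟩
  · set A := {x : G | x ∈ D ∧ x • a = a}
    set B := {x : G ⧸ K | x ∈ π '' D ∧ x • a = a}
    haveI := Fintype.ofFinite A
    haveI := Fintype.ofFinite B
    let f : A → B := fun x => ⟨π x.1, ⟨x.1, x.2.1, rfl⟩, x.2.2⟩
    have hf : ∀ y, Odd (Finset.univ.filter fun x => f x = y).card := by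
      rintro ⟨_, ⟨d, hd, rfl⟩, hda⟩
      have h1 := hfib d hd
      rwa [Nat.card_congr (β := {x : A // f x = ⟨_, ⟨d, hd, rfl⟩, hda⟩})
        ⟨fun e => ⟨⟨e.1, e.2.1, by
            rw [← hsm, e.2.2]; exact hda⟩, Subtype.ext e.2.2⟩,
          fun x => ⟨x.1.1, x.1.2.1, congrArg Subtype.val x.2⟩,
          fun _ => rfl, fun _ => rfl⟩, Nat.card_eq_fintype_card, Fintype.card_subtype] at h1
    have hA : ((Fintype.card A : ℕ) : ZMod 2) = ((Fintype.card B : ℕ) : ZMod 2) := by
      rw [← Finset.card_univ, Finset.card_eq_sum_card_fiberwise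
        (f := f) (t := Finset.univ) (fun _ _ => Finset.mem_univ _), Nat.cast_sum,
        Finset.sum_congr rfl fun y _ => (ZMod.natCast_eq_one_iff_odd).2 (hf y),
        Finset.sum_const, nsmul_one, Finset.card_univ]
    rw [Nat.card_eq_fintype_card, ← ZMod.natCast_eq_one_iff_odd, ← hA,
      ZMod.natCast_eq_one_iff_odd, ← Nat.card_eq_fintype_card]
    exact h.odd a
  · rintro _ ⟨d, hd, rfl⟩ _ ⟨e, he, rfl⟩ a hda hea
    exact (h.oddMul d hd e he a hda hea).of_dvd_nat (by rw [← map_mul]; exact orderOf_map_dvd π _)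
  · intro q hq _ hd₀ hcd a hda hnot
    obtain ⟨d₀, hd₀D, rfl⟩ := hd₀
    obtain ⟨x, rfl⟩ := QuotientGroup.mk'_surjective K q
    obtain ⟨t, ht, htq, -⟩ := exists_lift π (by rwa [hπ, QuotientGroup.ker_mk']) hq
    rw [← htq] at hcd hnot ⊢
    have hcomm : ∀ d ∈ D, Commute (π d) (π t) → ∃ e ∈ D, π e = π d ∧ Commute e t := by
      intro d hd hc
      obtain ⟨e, ⟨he, hee⟩, hec⟩ := Pre.exists_commute_of_odd (invol_mul_self ht)
        (S := {e : G | e ∈ D ∧ π e = π d}) (fun e he => ⟨h.conj t e he.1, by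
          rw [map_mul, map_mul, map_inv, he.2, ← hc.eq, mul_inv_cancel_right]⟩) (hfib d hd)
      exact ⟨e, he, hee, hec⟩
    obtain ⟨d, hd, hdd₀, hdt⟩ := hcomm d₀ hd₀D hcd
    have hda' : d • a = a := by rw [← hsm, hdd₀]; exact hda
    have hnot' : ¬ centralizer ({t} : Set G) ≤ stabilizer G a := by
      intro hle
      refine hnot fun c hc => ?_
      obtain ⟨y, rfl⟩ := QuotientGroup.mk'_surjective K c
      set t' := y * t * y⁻¹ with ht'
      have hK' : t * t' ∈ K := by
        refine (QuotientGroup.eq_one_iff _).1 ?_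
        show π (t * (y * t * y⁻¹)) = 1
        rw [map_mul, map_mul, map_mul, map_inv, mem_centralizer_singleton_iff.1 hc,
          mul_inv_cancel_right, ← map_mul, invol_mul_self ht, map_one]
      have htt := invol_mul_self ht
      have ht't := invol_mul_self ((orderOf_conj_eq y t).trans ht)
      obtain ⟨g, hg, hgt⟩ := exists_conj_of_odd htt ht't
        (hoddK.of_dvd_nat (Subgroup.orderOf_dvd_natCard _ hK'))
      obtain ⟨k, hk, hkt⟩ : ∃ k ∈ K, k * t * k⁻¹ = t' := by
        obtain ⟨i, rfl | rfl⟩ := (mem_closure_pair htt ht't).1 hg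
        · exact ⟨_, zpow_mem hK' i, hgt⟩
        · refine ⟨t * (t * t') ^ i * t, ?_, ?_⟩
          · have := (inferInstance : (toPermHom G Ω).ker.Normal).conj_mem _ (zpow_mem hK' i) t
            rwa [invol_inv ht] at this
          · refine Eq.trans ?_ hgt
            rw [← ht']
            calc t * (t * t') ^ i * t * t * (t * (t * t') ^ i * t)⁻¹
                = t * (t * t') ^ i * (t * t) * t⁻¹ * ((t * t') ^ i)⁻¹ * t⁻¹ := by group
              _ = t * (t * t') ^ i * t * ((t * t') ^ i)⁻¹ * t⁻¹ := by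
                rw [htt, mul_one, invol_inv ht]
              _ = _ := by group
      have hC : k⁻¹ * y ∈ centralizer ({t} : Set G) := mem_centralizer_singleton_iff.2 (by
        calc k⁻¹ * y * t = k⁻¹ * (y * t * y⁻¹) * y := by group
          _ = k⁻¹ * (k * t * k⁻¹) * y := by rw [← ht', hkt]
          _ = t * (k⁻¹ * y) := by group)
      have h1 : (k⁻¹ * y) • a = a := hle hC
      rw [mul_smul, inv_smul_eq_iff, mem_ker.1 hk a] at h1
      exact h1
    have hSE := h.emb t ht d hd hdt a hda' hnot'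
    have hmap : (loc D t).map π = loc (π '' D) (π t) := by
      refine le_antisymm ?_ ((closure_le _).2 ?_)
      · rw [loc, MonoidHom.map_closure, closure_le]
        rintro _ ⟨e, ⟨he, het⟩, rfl⟩
        exact subset_closure ⟨⟨e, he, rfl⟩, het.map π⟩
      · rintro _ ⟨⟨e, he, rfl⟩, hec⟩
        obtain ⟨e', he', hee', hec'⟩ := hcomm e he hec
        exact ⟨e', subset_closure ⟨he', hec'⟩, hee'⟩
    let f : loc D t →* loc (π '' D) (π t) :=
      (π.comp (loc D t).subtype).codRestrict _ fun g => hmap ▸ mem_map_of_mem π g.2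
    have hsurj : Function.Surjective f := by
      rintro ⟨z, hz⟩
      rw [← hmap] at hz
      obtain ⟨g, hg, rfl⟩ := hz
      exact ⟨⟨g, hg⟩, rfl⟩
    refine stronglyEmbedded_image f hsurj ?_ ?_
    · refine (odd_card_iff_no_invol _).2 fun g hg hg2 => ?_
      have h1 : π g = 1 := congrArg Subtype.val hg
      exact (odd_card_iff_no_invol _).1 hoddK g ((QuotientGroup.eq_one_iff _).1 h1)
        (by rw [Subgroup.orderOf_coe]; exact hg2)
    · have heq' : ((stabilizer (G ⧸ K) a).subgroupOf (loc (π '' D) (π t))).comap f =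
          (stabilizer G a).subgroupOf (loc D t) := by
        ext g
        rfl
      rw [heq']
      exact hSE

omit [Group G] [MulAction G Ω] [Finite G] in
/-- The criterion from a theorem on minimal counterexamples. -/
theorem propCore_of_min
    (hmin : ∀ (X : Type u) [Group X] [Finite X] (Δ : Type u) [MulAction X Δ] (E : Set X),
      ¬ Min X Δ E) : PropCore.{u} := by
  have main : ∀ (n : ℕ) (X : Type u) [Group X] [Finite X] (Δ : Type u) [MulAction X Δ] (E : Set X),
      Nat.card X = n → Action X Δ E → closure E = ⊤ → ∀ x : X, ¬ Bad X Δ x := by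
    intro n
    induction n using Nat.strong_induction_on with
    | _ n ih =>
    intro X _ _ Δ _ E hn hA htop x hx
    have hbelow : Below.{u} (Nat.card X) := fun Y _ _ Γ _ F hlt hAY htopY =>
      ih _ (hn ▸ hlt) Y Γ F rfl hAY htopY
    set K := (toPermHom X Δ).ker with hK
    by_cases hKb : K = ⊥
    · refine hmin X Δ E ⟨hA, ⟨fun {g g'} hgg => ?_⟩, htop, hbelow, x, hx⟩
      exact (MonoidHom.ker_eq_bot_iff _).1 hKb (Equiv.ext hgg)
    · letI := quotAction (G := X) (Ω := Δ)
      have hlt : Nat.card (X ⧸ K) < Nat.card X := by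
        rw [← K.index_eq_card, ← K.card_mul_index]
        exact lt_mul_left (Nat.pos_of_ne_zero FiniteIndex.index_ne_zero)
          (K.one_lt_card_iff_ne_bot.2 hKb)
      have hA' := action_quot hA htop
      have htop' : closure (QuotientGroup.mk' K '' E) = ⊤ := by
        rw [← MonoidHom.map_closure, htop, ← MonoidHom.range_eq_map, MonoidHom.range_eq_top]
        exact QuotientGroup.mk'_surjective K
      refine hbelow (X ⧸ K) Δ _ hlt hA' htop' (QuotientGroup.mk' K x) ⟨invol_iff.2 ⟨?_, ?_⟩, ?_⟩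
      · rw [← map_mul, invol_mul_self hx.invol, map_one]
      · intro e
        obtain ⟨p, hp⟩ := Facts.exists_moved_of_top hA htop hx.invol
        exact hp (mem_ker.1 ((QuotientGroup.eq_one_iff x).1 e) p)
      · obtain ⟨a, b, hab, ha, hb⟩ := hx.two
        exact ⟨a, b, hab, ha, hb⟩
  intro X _ _ Δ _ E hA htop
  exact main _ X Δ E rfl hA htop

omit [Group G] [MulAction G Ω] [Finite G] in
/-- The criterion from the sections. -/
theorem propCore_of_sections (hB : PropCounts.{u}) (h1 : PropKill.{u} 1) (h2 : PropKill.{u} 2)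
    (h3 : PropKill.{u} 3) (hR : PropRankOne.{u}) : PropCore.{u} :=
  propCore_of_min fun _ _ _ _ _ _ hM => hM.absurd_of_sections _ hB h1 h2 h3 hR

end Cfsg.Agent.Lib.Crit5.Induct
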