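import Cfsg.Agent.Lib.Crit8.Basic
import Cfsg.Prelude.Def_PLocal

/-!
# The single fixed point criterion: interface

`notes/crit_helper5.md` has the proofs.  The theorem is `PropCore`: in the setting `Crit8.Action`
with `G` generated by the members there is no bad involution.  The sections below work in a minimal
counterexample `Min`.
-/

set_option autoImplicit false

namespace Cfsg.Agent.Lib.Crit5

open MulAction Subgroup
open Cfsg.Agent.Lib.Crit8 (Action Bad memAt memSwap loc)

universe u

/-- The criterion below order `n`. -/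
def Below.{w} (n : ℕ) : Prop :=
  ∀ (X : Type w) [Group X] [Finite X] (Δ : Type w) [MulAction X Δ] (D : Set X),
    Nat.card X < n → Action X Δ D → closure D = ⊤ → ∀ x : X, ¬ Bad X Δ x

/-- The criterion. -/
def PropCore.{w} : Prop :=
  ∀ (X : Type w) [Group X] [Finite X] (Δ : Type w) [MulAction X Δ] (D : Set X),
    Action X Δ D → closure D = ⊤ → ∀ x : X, ¬ Bad X Δ x

/-- A minimal counterexample. -/
structure Min (G : Type u) (Ω : Type u) [Group G] [MulAction G Ω] (D : Set G) : Prop where
  act : Action G Ω D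
  faithful : FaithfulSMul G Ω
  top : closure D = ⊤
  below : Below.{u} (Nat.card G)
  bad : ∃ x : G, Bad G Ω x

variable {G : Type u} {Ω : Type u} [Group G] [MulAction G Ω] (D : Set G)

/-- The members at `a` centralising `x`. -/
def memCent (x : G) (a : Ω) : Set G := {d | d ∈ memAt G D a ∧ Commute d x}

/-- Two commuting members at `a` centralise `x`. -/
def FourAt (x : G) (a : Ω) : Prop :=
  ∃ d ∈ memCent D x a, ∃ e ∈ memCent D x a, d ≠ e ∧ Commute d e

/-- The subgroup of the members of `M` at `a` and at `b`. -/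
def pairSub (M : Subgroup G) (a b : Ω) : Subgroup G :=
  closure ((memAt G D a ∪ memAt G D b) ∩ (M : Set G))

/-- A proper subgroup of members at two points with a four group and a member not centralising its
odd core. -/
def Viol (a b : Ω) : Prop :=
  a ≠ b ∧ ∃ M : Subgroup G, pairSub D M a b ≠ ⊤ ∧
    (∃ x ∈ memAt G D b, x ∈ M) ∧
    (∃ d ∈ memAt G D a, ∃ e ∈ memAt G D a, d ∈ M ∧ e ∈ M ∧ d ≠ e ∧ Commute d e) ∧
    ∃ d ∈ memAt G D a, d ∈ M ∧
      ∃ k ∈ (Cfsg.oddCore ↥(pairSub D M a b)).map (pairSub D M a b).subtype, ¬ Commute d k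

/-! ## The sections -/

/-- F: parity.  A `2`-subgroup with a member fixes the point and has a central member; members
in a subgroup are odd in number at each point. -/
def PropParity.{w} : Prop :=
  ∀ (X : Type w) [Group X] [Finite X] (Δ : Type w) [MulAction X Δ] (E : Set X), Min X Δ E →
    ∀ a : Δ,
      (∀ P : Subgroup X, IsPGroup 2 P → (∃ d ∈ memAt X E a, d ∈ P) →
        P ≤ stabilizer X a ∧ ∃ z ∈ memAt X E a, z ∈ P ∧ ∀ p ∈ P, Commute z p) ∧
      ∀ M : Subgroup X, (∃ d ∈ memAt X E a, d ∈ M) →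
        Odd (Nat.card {d : X | d ∈ memAt X E a ∧ d ∈ M})

/-- F: swappers of a pair are conjugate under the odd core of the pair stabiliser and centralise it
modulo that core. -/
def PropPairCore.{w} : Prop :=
  ∀ (X : Type w) [Group X] [Finite X] (Δ : Type w) [MulAction X Δ] (E : Set X), Min X Δ E →
    ∀ a b : Δ, a ≠ b → ∀ w ∈ memSwap X E a b,
      (∀ k ∈ stabilizer X a ⊓ stabilizer X b,
        w * k * w⁻¹ * k⁻¹ ∈ (Cfsg.oddCore ↥(stabilizer X a ⊓ stabilizer X b)).map
          (stabilizer X a ⊓ stabilizer X b).subtype) ∧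
      ∀ v ∈ memSwap X E a b, ∃ k ∈ (Cfsg.oddCore ↥(stabilizer X a ⊓ stabilizer X b)).map
        (stabilizer X a ⊓ stabilizer X b).subtype, k * w * k⁻¹ = v

/-- A1: a violation gives a proper subgroup with all members of the pair. -/
def PropFull.{w} : Prop :=
  ∀ (X : Type w) [Group X] [Finite X] (Δ : Type w) [MulAction X Δ] (E : Set X), Min X Δ E →
    ∀ a b : Δ, Viol E a b → closure (memAt X E a ∪ memAt X E b) ≠ ⊤

/-- A2: the members at a fixed point which centralise a bad involution commute pairwise. -/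
def PropCentral.{w} : Prop :=
  ∀ (X : Type w) [Group X] [Finite X] (Δ : Type w) [MulAction X Δ] (E : Set X), Min X Δ E →
    ∀ (x : X) (a : Δ), Bad X Δ x → x • a = a → FourAt E x a →
      ∀ d ∈ memCent E x a, ∀ e ∈ memCent E x a, Commute d e

/-- The numbers of a bad involution `x` with a four group at `a`. -/
structure Counts (x : G) (a : Ω) (q e r : ℕ) : Prop where
  four_le : 4 ≤ q
  two_pow : ∃ i : ℕ, q = 2 ^ i
  type : e = 1 ∨ e = 2 ∨ e = 3
  fixes : x • a = a
  commute : ∀ d ∈ memCent D x a, ∀ d' ∈ memCent D x a, Commute d d'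
  card_cent : Nat.card (memCent D x a) + 1 = q
  card_fix : Nat.card {p : Ω | x • p = p} = q ^ e + 1
  card_mem : Nat.card (memAt G D a) = (q - 1) * r
  count : (Nat.card Ω - 1) * r = q ^ e * (r + (q ^ e + 1) * (q - 1))
  mod_one : r % q = 1
  translate : ∀ d ∈ memCent D x a, ∃ s : G, s • a = a ∧
    (∀ f ∈ memCent D x a, s * f * s⁻¹ ∈ memCent D x a) ∧ s * x * s⁻¹ = x * d
  minimal : ∀ (y : G) (b : Ω), Bad G Ω y → y • b = b →
    Nat.card (memCent D x a) ≤ Nat.card (memCent D y b)

/-- B: counting. -/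
def PropCounts.{w} : Prop :=
  ∀ (X : Type w) [Group X] [Finite X] (Δ : Type w) [MulAction X Δ] (E : Set X), Min X Δ E →
    (∀ (x : X) (a : Δ), Bad X Δ x → x • a = a → FourAt E x a) →
      ∃ (x : X) (a : Δ) (q e r : ℕ), Bad X Δ x ∧ Counts E x a q e r

/-- P: the elements fixing `a` and centralising the members of `x` at `a` are transitive on the
products of `x` with these members. -/
def PropPure.{w} : Prop :=
  ∀ (X : Type w) [Group X] [Finite X] (Δ : Type w) [MulAction X Δ] (E : Set X), Min X Δ E →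
    ∀ (x : X) (a : Δ) (q e r : ℕ), Bad X Δ x → Counts E x a q e r →
      ∀ d ∈ memCent E x a, ∃ s : X, s • a = a ∧ (∀ f ∈ memCent E x a, Commute s f) ∧
        s * x * s⁻¹ = x * d

/-- C: no bad involution of type `e`. -/
def PropKill.{w} (e : ℕ) : Prop :=
  ∀ (X : Type w) [Group X] [Finite X] (Δ : Type w) [MulAction X Δ] (E : Set X), Min X Δ E →
    ∀ (x : X) (a : Δ) (q r : ℕ), Bad X Δ x → Counts E x a q e r → False

/-- R: every bad involution has a four group at each of its fixed points. -/
def PropRankOne.{w} : Prop :=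
  ∀ (X : Type w) [Group X] [Finite X] (Δ : Type w) [MulAction X Δ] (E : Set X), Min X Δ E →
    ∀ (x : X) (a : Δ), Bad X Δ x → x • a = a → FourAt E x a

/-- The sections exclude a minimal counterexample. -/
theorem Min.absurd_of_sections (hB : PropCounts.{u}) (h1 : PropKill.{u} 1) (h2 : PropKill.{u} 2)
    (h3 : PropKill.{u} 3) (hR : PropRankOne.{u}) [Finite G] (hM : Min G Ω D) : False := by
  obtain ⟨x, a, q, e, r, hx, hc⟩ := hB G Ω D hM (hR G Ω D hM)
  rcases hc.type with rfl | rfl | rfl
  exacts [h1 G Ω D hM x a q r hx hc, h2 G Ω D hM x a q r hx hc, h3 G Ω D hM x a q r hx hc]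

end Cfsg.Agent.Lib.Crit5
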