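import Mathlib

/-!
# The single fixed point criterion, section C2: arithmetic

`r_cases`: the two possible values of `r`.  `params_eq`: every bad involution has the parameters
`(q, 2, r)`.  See `notes/crit_c2_helper31.md`, section 0.
-/

set_option autoImplicit false

namespace Cfsg.Agent.Lib.Crit5.KillTwo

/-- `r = 1` or `r = q² + 1`. -/
theorem r_cases {N q r : ℕ} (hq : 4 ≤ q) (heven : Even q) (hr : r % q = 1)
    (h : N * r = q ^ 2 * (r + (q ^ 2 + 1) * (q - 1))) :
    (r = 1 ∧ N = q ^ 3 * (q ^ 2 - q + 1)) ∨ (r = q ^ 2 + 1 ∧ N = q ^ 3) := by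
  obtain ⟨j, rfl⟩ : ∃ j, r = q * j + 1 := ⟨r / q, by rw [← hr, Nat.div_add_mod]⟩
  have hcop : Nat.Coprime (q ^ 2) (q * j + 1) := by
    refine Nat.Coprime.pow_left 2 ?_
    rw [Nat.coprime_comm, add_comm, Nat.coprime_add_mul_left_left]
    exact Nat.coprime_one_left q
  obtain ⟨M, rfl⟩ := hcop.dvd_of_dvd_mul_right ⟨_, h⟩
  have h1 : M * (q * j + 1) = q * j + 1 + (q ^ 2 + 1) * (q - 1) := by
    refine Nat.eq_of_mul_eq_mul_left (show 0 < q ^ 2 by positivity) ?_
    rw [← h, mul_assoc]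
  have hqq : q ≤ q ^ 2 := Nat.le_self_pow two_ne_zero q
  -- everything over the integers
  zify [show 1 ≤ q by omega] at h1
  obtain ⟨Q, hQ⟩ : ∃ Q : ℤ, Q = (q : ℤ) := ⟨_, rfl⟩
  obtain ⟨J, hJ⟩ : ∃ J : ℤ, J = (j : ℤ) := ⟨_, rfl⟩
  rw [← hQ, ← hJ] at h1
  have hQ4 : 4 ≤ Q := by omega
  have hJ0 : 0 ≤ J := by omega
  obtain ⟨s, hs⟩ : ∃ s : ℤ, s = (M : ℤ) - 1 := ⟨_, rfl⟩
  have h2 : s * (Q * J + 1) = Q ^ 3 - Q ^ 2 + Q - 1 := by rw [hs]; linear_combination h1
  -- `s + 1` is a multiple `l` of `Q`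
  obtain ⟨l, hl⟩ : Q ∣ s + 1 := ⟨Q ^ 2 - Q + 1 - s * J, by linear_combination h2⟩
  have hs' : s = Q * l - 1 := by linear_combination hl
  rw [hs'] at h2
  have h3 : l - J + Q * (J * l) = Q ^ 2 - Q + 1 := by
    refine mul_left_cancel₀ (show Q ≠ 0 by omega) ?_
    linear_combination h2
  have hl1 : 1 ≤ l := by
    by_contra hlt
    nlinarith [mul_nonneg hJ0 (show (0 : ℤ) ≤ -l by omega)]
  -- `l = J + 1 + i Q` with `J l = Q - 1 - i`
  obtain ⟨i, hi⟩ : Q ∣ l - J - 1 := ⟨Q - 1 - J * l, by linear_combination h3⟩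
  have h4 : J * l = Q - 1 - i := by
    refine mul_left_cancel₀ (show Q ≠ 0 by omega) ?_
    linear_combination h3 - hi
  have hM : (M : ℤ) = Q * l := by linear_combination hl - hs
  rcases lt_trichotomy i 0 with hi0 | rfl | hi0
  · -- `l = 1`, `J = Q`
    have hlJ : J = l - 1 - i * Q := by linear_combination -hi
    have hl2 : l = 1 := by
      by_contra hne
      nlinarith [mul_le_mul_of_nonneg_left (show (2 : ℤ) ≤ l by omega)
        (show (0 : ℤ) ≤ -i * Q by nlinarith)]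
    subst hl2
    have hi1 : i = -1 := by
      have h5 : (-i - 1) * (Q - 1) = 0 := by linear_combination h4 - hlJ
      rcases mul_eq_zero.1 h5 with h6 | h6 <;> omega
    subst hi1
    refine Or.inr ⟨?_, ?_⟩
    · have h6 : J = Q := by linear_combination h4
      obtain rfl : j = q := by omega
      ring
    · have h6 : (M : ℤ) = Q := by linear_combination hM
      obtain rfl : M = q := by omega
      ring
  · exfalso
    have hlJ : l = J + 1 := by linear_combination hi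
    subst hlJ
    obtain ⟨t, ht⟩ := Int.even_mul_succ_self J
    obtain ⟨w, hw⟩ := heven
    omega
  · refine Or.inl ?_
    have hJ1 : J = 0 := by
      by_contra hne
      nlinarith [mul_le_mul_of_nonneg_right (show (1 : ℤ) ≤ J by omega) (show (0:ℤ) ≤ l by omega)]
    have hj : j = 0 := by omega
    refine ⟨by rw [hj, mul_zero], ?_⟩
    have hl2 : l = Q ^ 2 - Q + 1 := by rw [hJ1] at h3; linear_combination h3
    have : M = q * (q ^ 2 - q + 1) := by
      zify [hqq]; rw [hM, hl2, hQ]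
    rw [this]; ring

/-- Another bad involution has the same parameters. -/
theorem params_eq {N q r Q f R i l : ℕ} (hq : q = 2 ^ i) (hi : Odd i) (hq8 : 8 ≤ q) (hQ : Q = 2 ^ l)
    (hqQ : q ≤ Q) (hf : f = 1 ∨ f = 2 ∨ f = 3)
    (hcase : (r = 1 ∧ N = q ^ 3 * (q ^ 2 - q + 1)) ∨ (r = q ^ 2 + 1 ∧ N = q ^ 3))
    (hm : (q - 1) * r = (Q - 1) * R) (h : N * R = Q ^ f * (R + (Q ^ f + 1) * (Q - 1)))
    (hle : q ^ 2 * q ≤ Q ^ f * Q) : Q = q ∧ f = 2 ∧ R = r := by
  have hqq : q ≤ q ^ 2 := Nat.le_self_pow two_ne_zero q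
  rcases hcase with ⟨rfl, hN⟩ | ⟨rfl, hN⟩
  · have hR : R = 1 ∧ Q = q := by
      rcases Nat.eq_zero_or_pos R with rfl | hpos
      · rw [mul_zero, mul_one] at hm; omega
      · have : Q - 1 ≤ q - 1 := by
          calc Q - 1 ≤ (Q - 1) * R := Nat.le_mul_of_pos_right _ hpos
            _ = q - 1 := by rw [← hm, mul_one]
        have hQq : Q = q := by omega
        refine ⟨?_, hQq⟩
        rw [hQq, mul_one] at hm
        exact (Nat.eq_of_mul_eq_mul_left (show 0 < q - 1 by omega)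
          (by rw [mul_one]; exact hm.symm))
    obtain ⟨rfl, rfl⟩ := hR
    refine ⟨rfl, ?_, rfl⟩
    rw [hN, mul_one] at h
    rcases hf with rfl | rfl | rfl
    · exfalso; zify [show 1 ≤ Q by omega, hqq] at h; nlinarith
    · rfl
    · exfalso
      zify [show 1 ≤ Q by omega, hqq] at h
      have h0 := mul_left_cancel₀ (show ((Q : ℤ) ^ 3) ≠ 0 by positivity) h
      have h8 : (8 : ℤ) ≤ Q := by exact_mod_cast hq8
      nlinarith [pow_le_pow_right₀ (show (1 : ℤ) ≤ Q by omega) (show 2 ≤ 3 by norm_num)]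
  · rw [hN] at h
    have h' : q ^ 3 * ((Q - 1) * R) = Q ^ f * ((Q - 1) * R + (Q ^ f + 1) * (Q - 1) ^ 2) := by
      calc q ^ 3 * ((Q - 1) * R) = q ^ 3 * R * (Q - 1) := by ring
        _ = _ := by rw [h]; ring
    rw [← hm] at h'
    have hQq : Q = q := by
      by_contra hne
      have h2 : 2 * q ≤ Q := by
        rw [hq, hQ] at hqQ ⊢
        rw [← pow_succ']
        refine Nat.pow_le_pow_right (by norm_num) ?_
        have := (Nat.pow_le_pow_iff_right (by norm_num : 1 < 2)).1 hqQ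
        rcases this.eq_or_lt with e | e
        · exact absurd (by rw [hQ, hq, e]) hne
        · omega
      have hlo : Q ^ f * (Q ^ f * (Q - 1) ^ 2) < q ^ 6 := by
        calc Q ^ f * (Q ^ f * (Q - 1) ^ 2)
            ≤ Q ^ f * ((q - 1) * (q ^ 2 + 1) + (Q ^ f + 1) * (Q - 1) ^ 2) := by
              gcongr; nlinarith
          _ = q ^ 3 * ((q - 1) * (q ^ 2 + 1)) := h'.symm
          _ < q ^ 6 := by zify [show 1 ≤ q by omega]; nlinarith
      have hQ1 : 3 * Q ≤ 4 * (Q - 1) := by omega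
      have hsq : 9 * Q ^ 2 ≤ 16 * (Q - 1) ^ 2 := by nlinarith
      rcases hf with rfl | hf'
      · -- `Q² ≥ 2 q³` as `3 i` is odd
        have h3 : 2 * q ^ 3 ≤ Q ^ 2 := by
          have h0 : q ^ 3 ≤ Q ^ 2 := by
            rw [pow_succ, pow_succ Q 1]; exact hle
          rw [hq, hQ, ← pow_mul, ← pow_mul] at h0 ⊢
          rw [← pow_succ']
          refine Nat.pow_le_pow_right (by norm_num) ?_
          have := (Nat.pow_le_pow_iff_right (by norm_num : 1 < 2)).1 h0
          obtain ⟨z, hz⟩ := hi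
          omega
        rw [pow_one] at hlo
        nlinarith [Nat.mul_le_mul h3 h3, Nat.mul_le_mul_left (Q ^ 2) hsq]
      · have hf2 : 4 * q ^ 2 ≤ Q ^ f := by
          calc 4 * q ^ 2 = (2 * q) ^ 2 := by ring
            _ ≤ Q ^ 2 := Nat.pow_le_pow_left h2 2
            _ ≤ Q ^ f := Nat.pow_le_pow_right (by omega) (by omega)
        have hh : q ^ 2 ≤ (Q - 1) ^ 2 := Nat.pow_le_pow_left (by omega) 2
        nlinarith [Nat.mul_le_mul hf2 (Nat.mul_le_mul hf2 hh)]
    subst hQq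
    have hR : R = Q ^ 2 + 1 :=
      Nat.eq_of_mul_eq_mul_left (show 0 < Q - 1 by omega) hm.symm
    refine ⟨rfl, ?_, hR⟩
    rcases hf with rfl | rfl | rfl
    · exfalso; zify [show 1 ≤ Q by omega] at h'; nlinarith
    · rfl
    · exfalso; zify [show 1 ≤ Q by omega] at h'; nlinarith

end Cfsg.Agent.Lib.Crit5.KillTwo
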