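import Cfsg.Agent.Lib.Crit5.FixShape
import Cfsg.Agent.Lib.Crit5.KillTwoArith

/-!
# The single fixed point criterion, section C2: the setting

`Sz`: what section S gives for one bad involution `x` and two of its fixed points.  `Ctx`: all bad
involutions have the parameters `(q, 2, r)`.  See `notes/crit_c2_helper31.md`.

Owner: helper31.
-/

set_option autoImplicit false
set_option linter.style.haveILetI false
set_option linter.unusedSectionVars false

namespace Cfsg.Agent.Lib.Crit5.KillTwo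

open MulAction Cfsg.Agent.Lib.Involutions.Basic
open Cfsg.Agent.Lib.Crit8 (Action Pre Bad memAt memSwap loc)

universe u

variable {G Ω : Type u} [Group G] [MulAction G Ω] {D : Set G}

/-- The members at `a` centralising `x`, with `1`. -/
def memOne (D : Set G) (x : G) (a : Ω) : Set G := insert 1 (memCent D x a)

/-- `g` fixes all fixed points of `x`. -/
def FixesAll (x g : G) : Prop := ∀ p : Ω, x • p = p → g • p = p

/-- What section S gives for the bad involution `x` with `q - 1` commuting members at its fixed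
point `a` and a second fixed point `b`: the group generated by the members centralising `x` induces
`Sz(q)` on the fixed points. -/
structure Sz (D : Set G) (x : G) (a b : Ω) (q : ℕ) where
  /-- The Sylow `2`-subgroup at `a`. -/
  Q : Subgroup G
  /-- The torus. -/
  T : Subgroup G
  Q_le : Q ≤ loc D x ⊓ stabilizer G a
  card_Q : Nat.card Q = q ^ 2
  mem_Q : ∀ d ∈ memCent D x a, d ∈ Q
  comm_Q : ∀ y ∈ Q, ∀ d ∈ memCent D x a, Commute y d
  trans : ∀ p : Ω, x • p = p → p ≠ a → ∃ y ∈ Q, y • b = p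
  sq : ∀ y ∈ Q, y * y ∈ memOne D x a
  sq_one : ∀ y ∈ Q, y * y = 1 → y ∈ memOne D x a
  sq_inj : ∀ y ∈ Q, ∀ z ∈ Q, y * y = z * z → y⁻¹ * z ∈ memOne D x a
  comm_cases : ∀ y ∈ Q, ∀ z ∈ Q, Commute y z →
    y ∈ memOne D x a ∨ z ∈ memOne D x a ∨ y⁻¹ * z ∈ memOne D x a
  T_le : T ≤ loc D x ⊓ stabilizer G a ⊓ stabilizer G b
  card_T : Nat.card T = q - 1
  T_comm : ∀ s ∈ T, ∀ t ∈ T, Commute s t
  T_gen : ∃ t ∈ T, ∀ s ∈ T, s ∈ Subgroup.zpowers t
  stab : ∀ g ∈ loc D x, g • a = a → g • b = b → g ∈ T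
  T_norm : ∀ t ∈ T, ∀ y ∈ Q, t * y * t⁻¹ ∈ Q
  T_trans : ∀ d ∈ memCent D x a, ∀ e ∈ memCent D x a, ∃ t ∈ T, t * d * t⁻¹ = e
  T_trans_top : ∀ y ∈ Q, ∀ z ∈ Q, y ∉ memOne D x a → z ∉ memOne D x a →
    ∃ t ∈ T, (t * y * t⁻¹)⁻¹ * z ∈ memOne D x a
  T_fix : ∀ t ∈ T, t ≠ 1 → ∀ p : Ω, x • p = p → t • p = p → p = a ∨ p = b

/-- Section S for an involution of type `2`. -/
def PropSzShape.{w} : Prop :=
  ∀ (X : Type w) [Group X] [Finite X] (Δ : Type w) [MulAction X Δ] (E : Set X), Min X Δ E →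
    ∀ (x : X) (a : Δ) (q r : ℕ), Bad X Δ x → Counts E x a q 2 r →
      (∃ m : ℕ, 1 ≤ m ∧ q = 2 ^ (2 * m + 1)) ∧
      (∀ g : X, g • a = a → Commute g x → (∃ j : ℕ, g ^ 2 ^ j = 1) →
        ∀ d ∈ memCent E x a, Commute g d) ∧
      (∀ d ∈ memCent E x a, ∀ e ∈ memCent E x a,
        (∀ p : Δ, x • p = p → d • p = e • p) → d = e) ∧
      (¬ q + 1 ∣ Nat.card (loc E x)) ∧
      ∀ b : Δ, x • b = b → b ≠ a →
        Nonempty (Sz E x a b q) ∧
        ∀ g : X, g • a = a → g • b = b → (∀ p : Δ, x • p = p → x • g • p = g • p) →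
          (∀ d ∈ memCent E x a, Commute g d) → FixesAll (Ω := Δ) x g

/-- All bad involutions have the parameters `(q, 2, r)`, with sections A2, P, R and S. -/
structure Ctx (G : Type u) (Ω : Type u) [Group G] [MulAction G Ω] (D : Set G) (q r : ℕ) : Prop where
  hM : Min G Ω D
  comm : CountsB.CommCent G Ω D
  four : ∀ (x : G) (a : Ω), Bad G Ω x → x • a = a → FourAt D x a
  all : ∀ (x : G) (a : Ω), Bad G Ω x → x • a = a → Counts D x a q 2 r
  pure : ∀ (x : G) (a : Ω), Bad G Ω x → x • a = a → ∀ d ∈ memCent D x a,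
    ∃ s : G, s • a = a ∧ (∀ f ∈ memCent D x a, Commute s f) ∧ s * x * s⁻¹ = x * d
  exists_log : ∃ m : ℕ, 1 ≤ m ∧ q = 2 ^ (2 * m + 1)
  cases : (r = 1 ∧ Nat.card Ω - 1 = q ^ 3 * (q ^ 2 - q + 1)) ∨
    (r = q ^ 2 + 1 ∧ Nat.card Ω - 1 = q ^ 3)
  even_cent : ∀ (x : G) (a : Ω), Bad G Ω x → x • a = a → ∀ g : G, g • a = a → Commute g x →
    (∃ j : ℕ, g ^ 2 ^ j = 1) → ∀ d ∈ memCent D x a, Commute g d
  distinct : ∀ (x : G) (a : Ω), Bad G Ω x → x • a = a → ∀ d ∈ memCent D x a,
    ∀ e ∈ memCent D x a, (∀ p : Ω, x • p = p → d • p = e • p) → d = e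
  order : ∀ x : G, Bad G Ω x → ¬ q + 1 ∣ Nat.card (loc D x)
  sz : ∀ (x : G) (a b : Ω), Bad G Ω x → x • a = a → x • b = b → b ≠ a → Nonempty (Sz D x a b q)
  trivial : ∀ (x : G) (a b : Ω), Bad G Ω x → x • a = a → x • b = b → b ≠ a → ∀ g : G, g • a = a →
    g • b = b → (∀ p : Ω, x • p = p → x • g • p = g • p) →
    (∀ d ∈ memCent D x a, Commute g d) → FixesAll (Ω := Ω) x g

/-- The setting of C2 from the other sections. -/
theorem exists_ctx (hC : PropCentral.{u}) (hP : PropPure.{u}) (hR : PropRankOne.{u})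
    (hS : PropSzShape.{u}) [Finite G] (hM : Min G Ω D) {x : G} {a : Ω} {q r : ℕ}
    (hx : Bad G Ω x) (hc : Counts D x a q 2 r) : Ctx G Ω D q r := by
  classical
  haveI := hM.faithful
  haveI := CountsB.finite_points hM
  have hfour := hR G Ω D hM
  have hCC : CountsB.CommCent G Ω D := fun v c hv hvc => hC G Ω D hM v c hv hvc (hfour v c hv hvc)
  obtain ⟨⟨m, hm1, hqm⟩, -⟩ := hS G Ω D hM x a q r hx hc
  have hq8 : 8 ≤ q := by
    rw [hqm]
    exact le_trans (by norm_num) (Nat.pow_le_pow_right (by norm_num) (show 3 ≤ 2 * m + 1 by omega))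
  have hcases := r_cases hc.four_le (by rw [hqm]; exact (Nat.even_pow' (by omega)).2 even_two)
    hc.mod_one hc.count
  have hall : ∀ (v : G) (c : Ω), Bad G Ω v → v • c = c → Counts D v c q 2 r := by
    intro v c hv hvc
    obtain ⟨E, -, hEc, l, hl⟩ := CountsB.exists_sub hM hCC hv hvc
    obtain ⟨-, f, hf, hk⟩ := fixShape G Ω D hM v c hv hvc (hfour v c hv hvc) (hCC v c hv hvc)
    obtain ⟨R, hmR, -, hcount⟩ := CountsB.double_count hM hCC hfour hv hvc
    obtain ⟨Q, hQ⟩ : ∃ Q, Q = Nat.card (memCent D v c) + 1 := ⟨_, rfl⟩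
    rw [← hQ] at hk
    rw [hEc.symm.trans hl] at hQ
    have hqQ : q ≤ Q := by
      rw [← hc.card_cent, hQ, ← hl, hEc]
      exact Nat.add_le_add_right (hc.minimal v c hv hvc) 1
    have hB : Nat.card (memCent D v c) = Q - 1 := by rw [hQ, ← hl, hEc]; omega
    have hmm : (q - 1) * r = (Q - 1) * R := by
      rw [← hc.card_mem, hM.act.toPre.card_memAt a c, hmR, hB]
    rw [hk, hB, Nat.add_sub_cancel] at hcount
    have hle : q ^ 2 * q ≤ Q ^ f * Q :=
      CountsB.pow_le_pow_of_counts (N := Nat.card Ω - 1) (m := (q - 1) * r) hqm hQ hqQ hc.four_le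
        ⟨_, by rw [hqm, ← pow_mul]⟩ ⟨_, by rw [hQ, ← pow_mul]⟩
        (by linear_combination (q - 1) * hc.count)
        (by rw [hmm]; linear_combination (Q - 1) * hcount)
    obtain ⟨hQq, rfl, rfl⟩ := params_eq hqm ⟨m, rfl⟩ hq8 hQ hqQ hf hcases hmm hcount hle
    subst hQq
    exact
      { four_le := hc.four_le
        two_pow := hc.two_pow
        type := Or.inr (Or.inl rfl)
        fixes := hvc
        commute := hCC v c hv hvc
        card_cent := by rw [hB]; omega
        card_fix := hk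
        card_mem := by rw [← hM.act.toPre.card_memAt a c, hc.card_mem]
        count := hc.count
        mod_one := hc.mod_one
        translate := fun d hd => CountsB.translate hM hCC hv hvc (hfour v c hv hvc) hd
        minimal := fun y b hy hb => by
          have h1 := hc.minimal y b hy hb
          have h2 := hc.card_cent
          omega }
  have hsh := fun v c hv hvc => hS G Ω D hM v c q r hv (hall v c hv hvc)
  exact
    { hM := hM
      comm := hCC
      four := hfour
      all := hall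
      pure := fun v c hv hvc => hP G Ω D hM v c q 2 r hv (hall v c hv hvc)
      exists_log := ⟨m, hm1, hqm⟩
      cases := hcases
      even_cent := fun v c hv hvc => (hsh v c hv hvc).2.1
      distinct := fun v c hv hvc => (hsh v c hv hvc).2.2.1
      order := fun v hv => by
        obtain ⟨c, -, -, hvc, -⟩ := hv.two
        exact (hsh v c hv hvc).2.2.2.1
      sz := fun v c b hv hvc hvb hbc => ((hsh v c hv hvc).2.2.2.2 b hvb hbc).1
      trivial := fun v c b hv hvc hvb hbc => ((hsh v c hv hvc).2.2.2.2 b hvb hbc).2 }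

end Cfsg.Agent.Lib.Crit5.KillTwo
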