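import Cfsg.Agent.Lib.Crit5.KillTwoLocal

/-!
# The single fixed point criterion, section C2: lines and the one-class count (`r = 1`)

`Ctx.fix_eq_of_two`: two bad involutions with two common fixed points fix the same points.
`Ctx.family_false`: too few bad involutions at a point contradict the products
`(k w, k z w')`.  See `notes/crit_c2_helper31.md`, section 4.

Owner: helper43 (for helper31).
-/

set_option autoImplicit false
set_option linter.style.haveILetI false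
set_option linter.unusedSectionVars false

namespace Cfsg.Agent.Lib.Crit5.KillTwo

open MulAction Cfsg.Agent.Lib.Involutions.Basic
open Cfsg.Agent.Lib.Crit8 (Action Pre Bad memAt memSwap loc)

universe u

variable {G Ω : Type u} [Group G] [MulAction G Ω] {D : Set G} [Finite G] {q : ℕ}

/-- For `r = 1` all members at a fixed point of a bad involution centralise it. -/
theorem Ctx.memCent_eq_memAt (h : Ctx G Ω D q 1) {x : G} {a : Ω} (hx : Bad G Ω x)
    (hxa : x • a = a) : memCent D x a = memAt G D a := by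
  refine Set.eq_of_subset_of_ncard_le (fun d hd => hd.1) (le_of_eq ?_) (Set.toFinite _)
  have h1 := (h.all x a hx hxa).card_mem
  have h2 := (h.all x a hx hxa).card_cent
  rw [← Nat.card_coe_set_eq, ← Nat.card_coe_set_eq, h1, mul_one]
  omega

/-- For `r = 1` every member interchanging two fixed points of a bad involution centralises it. -/
theorem Ctx.commute_swap (h : Ctx G Ω D q 1) {x w : G} {a b : Ω} (hx : Bad G Ω x)
    (hxa : x • a = a) (hxb : x • b = b) (hab : a ≠ b) (hw : w ∈ memSwap G D a b) :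
    Commute w x := by
  obtain ⟨d, hd⟩ := h.pre.exists_memAt a
  have he : w * d * w⁻¹ ∈ memAt G D b := by
    have := h.pre.conj_mem_memAt (g := w) hd
    rwa [hw.2] at this
  have hxd : Commute d x := (show d ∈ memCent D x a by rwa [h.memCent_eq_memAt hx hxa]).2
  have hxe : Commute (w * d * w⁻¹) x :=
    (show w * d * w⁻¹ ∈ memCent D x b by rwa [h.memCent_eq_memAt hx hxb]).2
  have hw' : x * w * x⁻¹ ∈ memSwap G D a b :=
    ⟨h.pre.conj x w hw.1, by rw [mul_smul, mul_smul, inv_smul_eq_iff.2 hxa.symm, hw.2, hxb]⟩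
  have h1 : x * w * x⁻¹ * d * (x * w * x⁻¹)⁻¹ = w * d * w⁻¹ := by
    calc x * w * x⁻¹ * d * (x * w * x⁻¹)⁻¹ = x * w * (x⁻¹ * d * x) * w⁻¹ * x⁻¹ := by group
      _ = x * (w * d * w⁻¹) * x⁻¹ := by rw [mul_assoc x⁻¹ d x, hxd.eq, inv_mul_cancel_left]; group
      _ = w * d * w⁻¹ := by rw [← hxe.eq, mul_inv_cancel_right]
  have h2 := h.pre.swap_unique hab hd hw' hw h1
  rw [mul_inv_eq_iff_eq_mul] at h2
  exact h2.symm

/-- Two bad involutions with two common fixed points fix the same points. -/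
theorem Ctx.fix_eq_of_two (h : Ctx G Ω D q 1) {x y : G} {a b : Ω} (hx : Bad G Ω x)
    (hy : Bad G Ω y) (hxa : x • a = a) (hxb : x • b = b) (hya : y • a = a) (hyb : y • b = b)
    (hab : a ≠ b) : ∀ p : Ω, x • p = p ↔ y • p = p := by
  classical
  haveI := h.finite
  obtain ⟨S⟩ := h.sz x a b hx hxa hxb hab.symm
  let X : Subgroup G := loc D x ⊓ Subgroup.centralizer {y}
  have memX : ∀ {g : G}, g ∈ D → Commute g x → Commute g y → g ∈ X := fun hgD hgx hgy =>
    Subgroup.mem_inf.2 ⟨Subgroup.subset_closure ⟨hgD, hgx⟩,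
      Subgroup.mem_centralizer_singleton_iff.2 hgy.eq⟩
  have hE : eGrp D x a ≤ X := (Subgroup.closure_le X).2 fun d hd => by
    refine memX hd.1.1 hd.2 ?_
    exact (show d ∈ memCent D y a by rw [h.memCent_eq_memAt hy hya]; exact hd.1).2
  have hsw : ∀ w ∈ memSwap G D a b, w ∈ X := fun w hw =>
    memX hw.1 (h.commute_swap hx hxa hxb hab hw) (h.commute_swap hy hya hyb hab hw)
  obtain ⟨w0, hw0, -⟩ := h.pre.exists_swap_commute hx.invol hab (Or.inl ⟨hxa, hxb⟩)
  -- the torus is in `X`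
  have hT : S.T ≤ X := by
    have hmem : ∀ w : memSwap G D a b, w.1 * w0 ∈ S.T := fun w =>
      S.stab _ (Subgroup.mem_inf.1 (mul_mem (hsw w.1 w.2) (hsw w0 hw0))).1
        (by rw [mul_smul, hw0.2, h.pre.memSwap_smul w.2])
        (by rw [mul_smul, h.pre.memSwap_smul hw0, w.2.2])
    let f : memSwap G D a b → S.T := fun w => ⟨w.1 * w0, hmem w⟩
    have hf : Function.Injective f := fun w w' e =>
      Subtype.ext (mul_right_cancel (congrArg Subtype.val e))
    have hcard : Nat.card S.T ≤ Nat.card (memSwap G D a b) := by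
      have h1 := (h.all x b hx hxb).card_mem
      rw [h.pre.card_memSwap hab, h1, S.card_T, mul_one]
    intro t ht
    obtain ⟨w, hw⟩ := (hf.bijective_of_nat_card_le hcard).2 ⟨t, ht⟩
    rw [show t = w.1 * w0 from (congrArg Subtype.val hw).symm]
    exact mul_mem (hsw w.1 w.2) (hsw w0 hw0)
  -- the orbit of `a`
  have horb : ∀ p ∈ orbit X a, x • p = p ∧ y • p = p := by
    rintro p ⟨⟨g, hg⟩, rfl⟩
    obtain ⟨hgl, hgy⟩ := Subgroup.mem_inf.1 hg
    show x • g • a = g • a ∧ y • g • a = g • a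
    exact ⟨by rw [smul_smul, ← (commute_of_mem_loc hgl).eq, mul_smul, hxa],
      by rw [smul_smul, ← Subgroup.mem_centralizer_singleton_iff.1 hgy, mul_smul, hya]⟩
  have hstep : ∀ {g : G} {p : Ω}, g ∈ X → p ∈ orbit X a → g • p ∈ orbit X a := by
    rintro g p hg ⟨k, rfl⟩
    exact ⟨⟨g, hg⟩ * k, mul_smul _ _ _⟩
  have hb : b ∈ orbit X a := hw0.2 ▸ hstep (hsw w0 hw0) (mem_orbit_self a)
  have hQ := fun {y0 : G} (hy0 : y0 ∈ S.Q) => h.Q_props hx hxa hxb hab.symm S hy0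
  by_cases hbig : ∀ p : Ω, x • p = p → p ∈ orbit X a
  · -- `Fix x ⊆ Fix y`
    have heq : {p : Ω | x • p = p} = {p : Ω | y • p = p} := by
      refine Set.eq_of_subset_of_ncard_le (fun p hp => (horb p (hbig p hp)).2) (le_of_eq ?_)
        (Set.toFinite _)
      rw [← Nat.card_coe_set_eq, ← Nat.card_coe_set_eq, (h.all y a hy hya).card_fix,
        (h.all x a hx hxa).card_fix]
    exact fun p => Set.ext_iff.1 heq p
  exfalso
  push Not at hbig
  obtain ⟨p1, hp1, hp1O⟩ := hbig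
  obtain ⟨y1, hy1, hy1b⟩ := S.trans p1 hp1 (fun e => hp1O (by rw [e]; exact mem_orbit_self a))
  -- otherwise the orbit is `a` and `E • b`
  have hcover : ∀ p ∈ orbit X a, p ≠ a → ∃ e ∈ eGrp D x a, e • b = p := by
    intro p hp hpa
    obtain ⟨y0, hy0, hy0b⟩ := S.trans p (horb p hp).1 hpa
    by_contra hno
    push Not at hno
    have hn0 : y0 ∉ memOne D x a := fun h0 => hno y0 ((h.memOne_iff hx hxa).1 h0) hy0b
    have hn1 : y1 ∉ memOne D x a := fun h1 =>
      hp1O (hy1b ▸ hstep (hE ((h.memOne_iff hx hxa).1 h1)) hb)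
    obtain ⟨t, ht, hte⟩ := S.T_trans_top y0 hy0 y1 hy1 hn0 hn1
    obtain ⟨e, he, hye⟩ : ∃ e, e ∈ eGrp D x a ∧ y1 = t * y0 * t⁻¹ * e :=
      ⟨_, (h.memOne_iff hx hxa).1 hte, by group⟩
    refine hp1O ?_
    have hz : t * y0 * t⁻¹ ∈ S.Q := S.T_norm t ht y0 hy0
    have htb : t⁻¹ • b = b := inv_smul_eq_iff.2 (S.T_le ht).2.symm
    rw [← hy1b, hye, ((h.mem_cGrp' hx hxa (hQ hz).2.2.2).2 e he).eq, mul_smul, mul_smul,
      mul_smul, htb, hy0b]
    exact hstep (hE he) (hstep (hT ht) hp)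
  have hcard : Nat.card (orbit X a) = q + 1 := by
    have hneq : ∀ e : eGrp D x a, e.1 • b ≠ a := fun e he => by
      refine hab.symm (MulAction.injective e.1 ?_)
      show e.1 • b = e.1 • a
      rw [he, (h.eGrp_commute hx hxa e.2).2.1]
    let f : Option (eGrp D x a) → orbit X a := fun o =>
      o.elim ⟨a, mem_orbit_self a⟩ fun e => ⟨e.1 • b, hstep (hE e.2) hb⟩
    have hf : Function.Bijective f := by
      refine ⟨fun o o' e => ?_, fun p => ?_⟩
      · have e' : (f o).1 = (f o').1 := congrArg Subtype.val e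
        rcases o with _ | e1 <;> rcases o' with _ | e2
        · rfl
        · exact absurd e'.symm (hneq e2)
        · exact absurd e' (hneq e1)
        · refine congrArg some (Subtype.ext ?_)
          have h1 : e2.1⁻¹ * e1.1 ∈ eGrp D x a := mul_mem (inv_mem e2.2) e1.2
          have h2 : (e2.1⁻¹ * e1.1) • b = b := by
            rw [mul_smul, inv_smul_eq_iff]; exact e'
          rcases (h.mem_eGrp hx hxa).1 h1 with h3 | h3
          · exact (inv_mul_eq_one.1 h3).symm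
          · exact absurd (h.pre.eq_of_fix h3.1.1 h3.1.2 h2) hab
      · by_cases hpa : p.1 = a
        · exact ⟨none, Subtype.ext hpa.symm⟩
        · obtain ⟨e, he, hep⟩ := hcover p.1 p.2 hpa
          exact ⟨some ⟨e, he⟩, Subtype.ext hep⟩
    rw [← Nat.card_congr (Equiv.ofBijective f hf)]
    haveI : Fintype (eGrp D x a) := Fintype.ofFinite _
    rw [Nat.card_eq_fintype_card, Fintype.card_option, ← Nat.card_eq_fintype_card,
      h.card_eGrp hx hxa]
  refine h.order x hx ?_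
  rw [← hcard]
  refine dvd_trans ?_ (Subgroup.card_dvd_of_le (inf_le_left : X ≤ loc D x))
  rw [Nat.card_congr (orbitEquivQuotientStabilizer X a)]
  exact Subgroup.card_quotient_dvd_card _

/-- `|A| ≤ q`. -/
theorem Ctx.card_aGrp_le {r : ℕ} (h : Ctx G Ω D q r) {x : G} {a : Ω} (hx : Bad G Ω x)
    (hxa : x • a = a) : Nat.card (aGrp Ω x) ≤ q := by
  classical
  obtain ⟨b, hxb, hba⟩ := h.exists_other (a := a) hx
  obtain ⟨S⟩ := h.sz x a b hx hxa hxb hba
  obtain ⟨d, hd⟩ := CountsB.exists_commute h.hM x hx hxa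
  have hdE : d ∈ eGrp D x a := Subgroup.subset_closure hd
  choose w hw ht using fun v : aGrp Ω x => h.exists_tie hx hxa hxb hba S hdE v.2
  rw [← h.card_eGrp hx hxa]
  refine Nat.card_le_card_of_injective (fun v : aGrp Ω x => (⟨w v, hw v⟩ : eGrp D x a))
    fun v v' e => ?_
  have e' : w v = w v' := congrArg Subtype.val e
  have h1 := h.tie_mul hx hxa hxb hba S hdE v'.2 (hw v) (ht v) (ht v')
  rw [e', (h.eGrp_commute hx hxa (hw v')).2.2.1] at h1
  have h2 := h.tie_one hx hxa hxb hba S hdE (invol_ne_one (h.pre.invol d hd.1.1))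
    (mul_mem v.2 v'.2) h1
  refine Subtype.ext (mul_right_cancel (b := v'.1) ?_)
  rw [h2, (h.aGrp_elem hx hxa hxb hba S v'.2 v'.2).1]

private theorem count_absurd {B q i n : ℕ} (hq : 8 ≤ q) (hi : 3 ≤ i) (hiq : i + 1 ≤ q)
    (hn : n - 1 = q ^ 3 * (q ^ 2 - q + 1)) (hn1 : 1 ≤ n) (hB : 1 ≤ B)
    (h1 : B * ((i - 1) * ((q ^ 2 + 1) * ((q - 1) * (q ^ 2 * (q - 1))))) ≤ B * B)
    (h2 : B * (q ^ 2 + 1) ≤ n * (q * (i + (q ^ 2 - q)))) : False := by
  have h1' := Nat.le_of_mul_le_mul_left h1 (by omega)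
  have hqq : q ≤ q ^ 2 := Nat.le_self_pow two_ne_zero q
  zify [show 1 ≤ i by omega, show 1 ≤ q by omega, hqq, hn1] at *
  generalize (q : ℤ) = Q at *
  have hn' : (n : ℤ) = (Q ^ 2 + 1) * (Q ^ 3 - Q ^ 2 + 1) := by linear_combination hn
  rw [hn'] at h2
  have h3 : (B : ℤ) ≤ (Q ^ 3 - Q ^ 2 + 1) * (Q * ((i : ℤ) + (Q ^ 2 - Q))) :=
    le_of_mul_le_mul_right (h2.trans (le_of_eq (by ring))) (by positivity : (0 : ℤ) < Q ^ 2 + 1)
  have hpos : 0 ≤ Q ^ 3 - Q ^ 2 + 1 := by nlinarith [mul_le_mul_of_nonneg_right hq (sq_nonneg Q)]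
  have h4 : (B : ℤ) ≤ (Q ^ 3 - Q ^ 2 + 1) * (Q * (Q ^ 2 - 1)) := h3.trans
    (mul_le_mul_of_nonneg_left (mul_le_mul_of_nonneg_left (by linarith) (by linarith)) hpos)
  have h5 : 2 * ((Q ^ 2 + 1) * ((Q - 1) * (Q ^ 2 * (Q - 1)))) ≤
      (Q ^ 3 - Q ^ 2 + 1) * (Q * (Q ^ 2 - 1)) :=
    le_trans (mul_le_mul_of_nonneg_right (by linarith)
      (mul_nonneg (by positivity) (mul_nonneg (by linarith) (mul_nonneg (by positivity) (by linarith)))))
      (h1'.trans h4)
  have h6 : Q * (Q - 1) * (Q ^ 4 - 2 * Q ^ 3 + 3 * Q ^ 2 - 3 * Q - 1) ≤ 0 := by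
    linear_combination h5
  have h7 : 0 < Q ^ 4 - 2 * Q ^ 3 + 3 * Q ^ 2 - 3 * Q - 1 := by
    nlinarith [mul_le_mul_of_nonneg_right hq (pow_nonneg (show 0 ≤ Q by linarith) 3),
      mul_le_mul_of_nonneg_right hq (pow_nonneg (show 0 ≤ Q by linarith) 1)]
  nlinarith [mul_pos (mul_pos (show 0 < Q by linarith) (show 0 < Q - 1 by linarith)) h7]

/-- The bad involutions at a point cannot be few when `|A| ≥ 4`. -/
theorem Ctx.family_false (h : Ctx G Ω D q 1) {i : ℕ} (hi : 3 ≤ i)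
    (hA : ∀ z, Bad G Ω z → Nat.card (aGrp Ω z) = i + 1)
    (hc : ∀ a : Ω, Nat.card {y : G | Bad G Ω y ∧ y • a = a} ≤ q * (i + (q ^ 2 - q))) : False := by
  classical
  haveI := h.finite
  haveI := h.faith
  haveI : Fintype G := Fintype.ofFinite G
  haveI : Fintype Ω := Fintype.ofFinite Ω
  obtain ⟨x0, hx0⟩ := h.hM.bad
  obtain ⟨a0, -, -, hxa0, -⟩ := hx0.two
  have hiq : i + 1 ≤ q := hA x0 hx0 ▸ h.card_aGrp_le hx0 hxa0
  have helem : ∀ {z v v' : G}, Bad G Ω z → v ∈ aGrp Ω z → v' ∈ aGrp Ω z →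
      v * v = 1 ∧ Commute v v' := by
    intro z v v' hz hv hv'
    obtain ⟨a, -, -, hza, -⟩ := hz.two
    obtain ⟨b, hzb, hba⟩ := h.exists_other (a := a) hz
    obtain ⟨S⟩ := h.sz z a b hz hza hzb hba
    exact h.aGrp_elem hz hza hzb hba S hv hv'
  let Bd := {z : G // Bad G Ω z}
  let Z := fun z : Bd => {p : Ω // z.1 • p = p}
  let K := fun z : Bd => {k : G // k ∈ aGrp Ω z.1 ∧ k ≠ 1 ∧ k ≠ z.1}
  let M := fun (z : Bd) (p : Ω) => {d : G // d ∈ memCent D z.1 p}
  let R := fun (z : Bd) (p : Z z) => {p' : Z z // p'.1 ≠ p.1}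
  let P := fun z : Bd => Σ p : Z z, M z p.1 × (Σ p' : R z p, M z p'.1.1)
  have hM1 : ∀ (z : Bd) (p : Z z), Nat.card (M z p.1) = q - 1 := fun z p => by
    have h1 : Nat.card (memCent D z.1 p.1) + 1 = q := (h.all z.1 p.1 z.2 p.2).card_cent
    exact Nat.eq_sub_of_add_eq h1
  have hZ : ∀ z : Bd, Nat.card (Z z) = q ^ 2 + 1 := fun z => by
    obtain ⟨a, -, -, hza, -⟩ := z.2.two
    exact (h.all z.1 a z.2 hza).card_fix
  have hK : ∀ z : Bd, Nat.card (K z) = i - 1 := fun z => by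
    have hzA : z.1 ∈ aGrp Ω z.1 := mem_aGrp.2 ⟨fun p hp => hp, Commute.refl _⟩
    have hz1 : z.1 ≠ 1 := invol_ne_one z.2.invol
    have hs : ({1, z.1} : Set G) ⊆ (aGrp Ω z.1 : Set G) := by
      rintro g (rfl | rfl)
      exacts [one_mem _, hzA]
    have e : Nat.card (K z) = ((aGrp Ω z.1 : Set G) \ {1, z.1}).ncard := by
      rw [← Nat.card_coe_set_eq]
      exact Nat.card_congr (Equiv.subtypeEquivRight fun g => by simp)
    rw [e, Set.ncard_sdiff hs, Set.ncard_pair hz1.symm, ← Nat.card_coe_set_eq,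
      show Nat.card ((aGrp Ω z.1 : Set G)) = i + 1 from hA z.1 z.2]
    omega
  have hP : ∀ z : Bd, Nat.card (P z) = (q ^ 2 + 1) * ((q - 1) * (q ^ 2 * (q - 1))) := fun z => by
    haveI : Fintype (Z z) := Fintype.ofFinite _
    have hR : ∀ p : Z z, Nat.card (R z p) = q ^ 2 := fun p => by
      have e : Nat.card (R z p) = Nat.card {p' : Z z // p' ≠ p} :=
        Nat.card_congr (Equiv.subtypeEquivRight fun p' => (not_congr Subtype.val_inj).trans Iff.rfl)
      rw [e, Nat.card_eq_fintype_card, Fintype.card_subtype_compl, Fintype.card_subtype_eq,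
        ← Nat.card_eq_fintype_card, hZ z, Nat.add_sub_cancel]
    have hin : ∀ p : Z z, Nat.card (M z p.1 × (Σ p' : R z p, M z p'.1.1)) =
        (q - 1) * (q ^ 2 * (q - 1)) := fun p => by
      haveI : Fintype (R z p) := Fintype.ofFinite _
      rw [Nat.card_prod, hM1, Nat.card_sigma,
        Finset.sum_congr rfl fun p' _ => hM1 z p'.1, Finset.sum_const, Finset.card_univ,
        ← Nat.card_eq_fintype_card, hR p, smul_eq_mul]
    rw [Nat.card_sigma, Finset.sum_congr rfl fun p _ => hin p, Finset.sum_const, Finset.card_univ,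
      ← Nat.card_eq_fintype_card, hZ z, smul_eq_mul]
  -- the injection into pairs of bad involutions
  haveI : Fintype Bd := Fintype.ofFinite _
  have hkey : Nat.card Bd * ((i - 1) * ((q ^ 2 + 1) * ((q - 1) * (q ^ 2 * (q - 1))))) ≤
      Nat.card Bd * Nat.card Bd := by
    have e : Nat.card (Σ z : Bd, K z × P z) =
        Nat.card Bd * ((i - 1) * ((q ^ 2 + 1) * ((q - 1) * (q ^ 2 * (q - 1))))) := by
      rw [Nat.card_sigma, Finset.sum_congr rfl fun z _ =>
        (Nat.card_prod (K z) (P z)).trans (by rw [hK, hP]),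
        Finset.sum_const, Finset.card_univ, Nat.card_eq_fintype_card, smul_eq_mul]
    rw [← e, ← Nat.card_prod]
    have hbadK : ∀ {z v w : G}, Bad G Ω z → v ∈ aGrp Ω z → v ≠ 1 → w ∈ D → Commute w z →
        Bad G Ω (v * w) := by
      intro z v w hz hv hv1 hw hwz
      obtain ⟨p, p', hpp, hp, hp'⟩ := hz.two
      have hbv : Bad G Ω v := ⟨invol_iff.2 ⟨(helem hz hv hv).1, hv1⟩, p, p', hpp,
        (mem_aGrp.1 hv).1 p hp, (mem_aGrp.1 hv).1 p' hp'⟩
      exact h.pre.bad_mul hbv hw (h.aGrp_commute_mem hv hz hw hwz).symm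
    let f : (Σ z : Bd, K z × P z) → Bd × Bd := fun t =>
      (⟨t.2.1.1 * t.2.2.2.1.1,
          hbadK t.1.2 t.2.1.2.1 t.2.1.2.2.1 t.2.2.2.1.2.1.1 t.2.2.2.1.2.2⟩,
        ⟨t.2.1.1 * t.1.1 * t.2.2.2.2.2.1,
          hbadK t.1.2 (mul_mem t.2.1.2.1 (mem_aGrp.2 ⟨fun p hp => hp, Commute.refl _⟩))
            (fun e0 => t.2.1.2.2.2 (by
              rw [eq_inv_of_mul_eq_one_left e0, invol_inv t.1.2.invol]))
            t.2.2.2.2.2.2.1.1 t.2.2.2.2.2.2.2⟩)
    refine Nat.card_le_card_of_injective f ?_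
    rintro ⟨⟨z, hz⟩, ⟨k, hk⟩, ⟨p, hp⟩, ⟨w, hw⟩, ⟨⟨p', hp'⟩, hpp⟩, ⟨w', hw'⟩⟩
      ⟨⟨z2, hz2⟩, ⟨k2, hk2⟩, ⟨o, ho⟩, ⟨v, hv⟩, ⟨⟨o', ho'⟩, hoo⟩, ⟨v', hv'⟩⟩ e
    have e1 : k * w = k2 * v := congrArg Subtype.val (congrArg Prod.fst e)
    have e2 : k * z * w' = k2 * z2 * v' := congrArg Subtype.val (congrArg Prod.snd e)
    have prodz : ∀ {z k w w' : G} {p p' : Ω}, Bad G Ω z → k ∈ aGrp Ω z → w ∈ memCent D z p →
        w' ∈ memCent D z p' → p' ≠ p → k * w * (k * z * w') = z * (w * w') ∧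
          Odd (orderOf (w * w')) ∧ Commute z (w * w') := by
      intro z k w w' p p' hz hk hw hw' hne
      refine ⟨?_, h.pre.odd_mul hw.1.1 hw.1.2 hw'.1.1 hw'.1.2 hne.symm,
        hw.2.symm.mul_right hw'.2.symm⟩
      calc k * w * (k * z * w') = k * (w * k) * z * w' := by simp only [mul_assoc]
        _ = k * (k * w) * z * w' := by rw [(h.aGrp_commute_mem hk hz hw.1.1 hw.2).eq]
        _ = w * z * w' := by rw [← mul_assoc k k w, (helem hz hk hk).1, one_mul]
        _ = z * w * w' := by rw [hw.2.eq]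
        _ = z * (w * w') := mul_assoc _ _ _
    obtain ⟨f1, f2, f3⟩ := prodz hz hk.1 hw hw' hpp
    obtain ⟨g1, g2, g3⟩ := prodz hz2 hk2.1 hv hv' hoo
    have hsame : z * (w * w') = z2 * (v * v') := by rw [← f1, ← g1, e1, e2]
    have hpz : ∀ {z : G} (m : ℕ), Bad G Ω z → Odd m → z ^ m = z := by
      rintro z m hz ⟨j, rfl⟩
      rw [pow_succ, pow_mul, pow_two, invol_mul_self hz.invol, one_pow, one_mul]
    obtain rfl : z = z2 := by
      have h1 := congrArg (fun g => g ^ (orderOf (w * w') * orderOf (v * v'))) hsame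
      simp only [f3.mul_pow, g3.mul_pow] at h1
      rwa [hpz _ hz (f2.mul g2), hpz _ hz2 (f2.mul g2), pow_mul (w * w'), pow_orderOf_eq_one,
        one_pow, pow_mul' (v * v'), pow_orderOf_eq_one, one_pow, mul_one, mul_one] at h1
    have h1 : k2⁻¹ * k = v * w⁻¹ := by
      rw [inv_mul_eq_iff_eq_mul, ← mul_assoc, eq_mul_inv_iff_mul_eq]
      exact e1
    have h2 : k2⁻¹ * k = 1 := h.loc_inf_aGrp hz
      (h1 ▸ mul_mem (Subgroup.subset_closure ⟨hv.1.1, hv.2⟩)
        (inv_mem (Subgroup.subset_closure ⟨hw.1.1, hw.2⟩)))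
      (mul_mem (inv_mem hk2.1) hk.1)
    obtain rfl : k2 = k := inv_mul_eq_one.1 h2
    obtain rfl : w = v := mul_left_cancel e1
    obtain rfl : w' = v' := mul_left_cancel e2
    obtain rfl : p = o := h.pre.eq_of_fix hw.1.1 hw.1.2 hv.1.2
    obtain rfl : p' = o' := h.pre.eq_of_fix hw'.1.1 hw'.1.2 hv'.1.2
    rfl
  -- the count at the points
  have hflags : Nat.card Bd * (q ^ 2 + 1) ≤ Nat.card Ω * (q * (i + (q ^ 2 - q))) := by
    let C := fun p : Ω => {y : G // Bad G Ω y ∧ y • p = p}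
    let e : (Σ z : Bd, Z z) ≃ (Σ p : Ω, C p) :=
      { toFun := fun t => ⟨t.2.1, t.1.1, t.1.2, t.2.2⟩
        invFun := fun t => ⟨⟨t.2.1, t.2.2.1⟩, t.1, t.2.2.2⟩
        left_inv := fun _ => rfl
        right_inv := fun _ => rfl }
    have h1 := Nat.card_congr e
    rw [Nat.card_sigma, Nat.card_sigma, Finset.sum_congr rfl fun z _ => hZ z, Finset.sum_const,
      Finset.card_univ, smul_eq_mul, ← Nat.card_eq_fintype_card] at h1
    rw [h1]
    refine le_of_le_of_eq (Finset.sum_le_sum fun p _ => hc p) ?_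
    rw [Finset.sum_const, Finset.card_univ, smul_eq_mul, Nat.card_eq_fintype_card]
  have hn : Nat.card Ω - 1 = q ^ 3 * (q ^ 2 - q + 1) := by
    rcases h.cases with ⟨-, hn⟩ | ⟨h1, -⟩
    · exact hn
    · nlinarith [h.eight_le]
  haveI : Nonempty Ω := ⟨a0⟩
  haveI : Nonempty Bd := ⟨⟨x0, hx0⟩⟩
  exact count_absurd h.eight_le hi hiq hn Nat.card_pos Nat.card_pos hkey hflags

end Cfsg.Agent.Lib.Crit5.KillTwo
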