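import Cfsg.Agent.Lib.Crit5.Interface
import Cfsg.Agent.Lib.Crit8.Prod.Odd
import Cfsg.Agent.Lib.Crit8.Bridge
import Cfsg.Agent.Lib.BenderOne.Final
import Cfsg.Agent.Lib.BenderSuzuki.Order
import Cfsg.Agent.Lib.Fusion.Thompson
import Cfsg.Agent.Lib.ZStar.StronglyClosed

/-!
# CRIT, rank one: tools

`commute_of_se`: involutions of a `2`-subgroup of a strongly embedded subgroup commute.
`commute_of_bad`: members of a `2`-group centralised by a bad involution commute.
`exists_index_two`: the transfer used for section R.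
-/

set_option autoImplicit false
set_option linter.style.haveILetI false
set_option linter.unusedSectionVars false

namespace Cfsg.Agent.Lib.Crit5.RankOne

open MulAction Subgroup
open Cfsg.Agent.Lib.Crit8 (Action Bad memAt memSwap loc)
open Cfsg.Agent.Lib.Involutions.Basic

universe u

/-- Two involutions of a `2`-group in a group with no four group are equal. -/
theorem eq_of_not_twoRank {X : Type u} [Group X] [Finite X] (h : ¬ BenderSuzuki.TwoRank X)
    {x y : X} (hx : orderOf x = 2) (hy : orderOf y = 2) (hev : Even (orderOf (x * y))) : x = y := by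
  obtain ⟨hw, hwx, hwy⟩ := central_invol hx hy hev
  exact (BenderConsumers23.eq_of_not_twoRank h hw hx hwx.eq).symm.trans
    (BenderConsumers23.eq_of_not_twoRank h hw hy hwy.eq)

theorem isPGroup_stab_invol_comm {X Ω : Type u} [Group X] [Finite X] [MulAction X Ω] {a : Ω}
    {t : X} {Q : Subgroup X} (h : BenderSuzuki.Hyp X Ω a t Q) {x y : X}
    (hx : x ∈ BenderSuzuki.invs X a) (hy : y ∈ BenderSuzuki.invs X a) : x * y = y * x := by
  have hQ : IsPGroup 2 Q := (BenderSuzuki.propMain X Ω a t Q h).1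
  have hxQ := BenderSuzuki.mem_Q_of_invs h hx
  have hyQ := BenderSuzuki.mem_Q_of_invs h hy
  by_cases hc : IsMulCommutative Q
  · exact congrArg Subtype.val (hc.is_comm.comm ⟨x, hxQ⟩ ⟨y, hyQ⟩)
  · have hcen := ((BenderSuzuki.nonabelian_structure h hQ hc).1 ⟨x, hxQ⟩).1 (Subtype.ext hx.2.2)
    exact (congrArg Subtype.val (Subgroup.mem_center_iff.1 hcen ⟨y, hyQ⟩)).symm

/-- Involutions of a `2`-subgroup inside a strongly embedded subgroup commute. -/
theorem commute_of_se {X : Type u} [Group X] [Finite X] {H : Subgroup X}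
    (hSE : Cfsg.IsStronglyEmbedded H) {P : Subgroup X} (hP : IsPGroup 2 P) {x y : X}
    (hxP : x ∈ P) (hyP : y ∈ P) (hxH : x ∈ H) (hyH : y ∈ H) (hx : orderOf x = 2)
    (hy : orderOf y = 2) : Commute x y := by
  by_cases hxy : x * y = 1
  · rw [eq_inv_of_mul_eq_one_left hxy, invol_inv hy]
  have h2pow : ∀ g ∈ P, g ≠ 1 → Even (orderOf g) := by
    intro g hg hg1
    obtain ⟨k, hk⟩ := IsPGroup.iff_orderOf.1 hP ⟨g, hg⟩
    rw [Subgroup.orderOf_mk] at hk
    rcases k with _ | k
    · exact absurd (orderOf_eq_one_iff.1 (by simpa using hk)) hg1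
    · exact hk ▸ ⟨2 ^ k, by ring⟩
  by_cases h2 : BenderSuzuki.TwoRank X
  swap
  · rw [eq_of_not_twoRank h2 hx hy (h2pow _ (mul_mem hxP hyP) hxy)]
  have hfour := BenderDeps.SolvableEmbedded.hasFour_of_twoRank hSE h2
  obtain ⟨hSE', hfour', hcore'⟩ := BenderOne.quotient_core hSE hfour
  set K := H.normalCore with hK
  set f := QuotientGroup.mk' K with hf
  have h2' : BenderSuzuki.TwoRank (X ⧸ K) := by
    obtain ⟨a, -, b, -, ha, hb, hab, hc⟩ := hfour'
    exact ⟨a, b, invol_ne_one ha, invol_ne_one hb, hab, invol_mul_self ha, invol_mul_self hb, hc⟩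
  obtain ⟨t, Q, hset⟩ := BenderOne.propPartOneFinal (X ⧸ K) (H.map f) hSE' h2' hcore'
  have hfaith : FaithfulSMul (X ⧸ K) ((X ⧸ K) ⧸ H.map f) := by
    refine ⟨fun {g g'} hg => ?_⟩
    have hmem : g'⁻¹ * g ∈ (H.map f).normalCore := by
      rw [Subgroup.normalCore_eq_ker, MonoidHom.mem_ker]
      refine Equiv.Perm.ext fun z => ?_
      show (g'⁻¹ * g) • z = z
      rw [mul_smul, hg z, inv_smul_smul]
    rw [hcore', Subgroup.mem_bot, inv_mul_eq_one] at hmem
    exact hmem.symm
  have hin : ∀ g : X, g ∈ H → orderOf g = 2 →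
      f g ∈ BenderSuzuki.invs (X ⧸ K) (((1 : X ⧸ K) : (X ⧸ K) ⧸ H.map f)) := by
    intro g hg hg2
    refine ⟨?_, fun h1 => ?_, by rw [← map_mul, invol_mul_self hg2, map_one]⟩
    · show f g ∈ stabilizer (X ⧸ K) _
      rw [MulAction.mem_stabilizer_iff, MulAction.Quotient.smul_mk, smul_eq_mul, mul_one,
        QuotientGroup.eq]
      simpa using inv_mem (mem_map_of_mem f hg)
    · have hgK : g ∈ K := (QuotientGroup.eq_one_iff g).1 h1
      exact (odd_card_iff_no_invol _).1 (BenderConsumers23.odd_normalCore hSE) g hgK hg2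
  have hcomm := isPGroup_stab_invol_comm (BenderSuzuki.Hyp.mk hset hfaith h2')
    (hin x hxH hx) (hin y hyH hy)
  have hk : x * y * (x * y) ∈ K := by
    rw [← QuotientGroup.eq_one_iff]
    show f (x * y * (x * y)) = 1
    rw [map_mul, map_mul]
    nth_rw 2 [hcomm]
    rw [mul_assoc, ← mul_assoc (f y), ← map_mul f y, invol_mul_self hy, map_one, one_mul,
      ← map_mul, invol_mul_self hx, map_one]
  have h1 : x * y * (x * y) = 1 := by
    by_contra hne
    have hodd : Odd (orderOf (x * y * (x * y))) :=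
      (BenderConsumers23.odd_normalCore hSE).of_dvd_nat (orderOf_dvd_natCard _ hk)
    exact Nat.not_even_iff_odd.2 hodd
      (h2pow _ (mul_mem (mul_mem hxP hyP) (mul_mem hxP hyP)) hne)
  show x * y = y * x
  have e : (x * y)⁻¹ = x * y := inv_eq_of_mul_eq_one_right h1
  rw [← e, mul_inv_rev, invol_inv hx, invol_inv hy]

variable {G : Type u} {Ω : Type u} [Group G] [Finite G] [MulAction G Ω] {D : Set G}

omit [MulAction G Ω] in
theorem even_orderOf_of_mem {P : Subgroup G} (hP : IsPGroup 2 P) {g : G} (hg : g ∈ P)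
    (hg1 : g ≠ 1) : Even (orderOf g) := by
  obtain ⟨k, hk⟩ := IsPGroup.iff_orderOf.1 hP ⟨g, hg⟩
  rw [Subgroup.orderOf_mk] at hk
  rcases k with _ | k
  · exact absurd (orderOf_eq_one_iff.1 (by simpa using hk)) hg1
  · exact hk ▸ ⟨2 ^ k, by ring⟩

/-- Members in a `2`-group centralised by a bad involution commute. -/
theorem commute_of_bad (h : Action G Ω D) {u d e : G} (hu : Bad G Ω u) (hd : d ∈ D) (he : e ∈ D)
    (hdu : Commute d u) (heu : Commute e u) {P : Subgroup G} (hP : IsPGroup 2 P) (hdP : d ∈ P)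
    (heP : e ∈ P) : Commute d e := by
  obtain ⟨p, hp⟩ := (h.one d hd).exists
  by_cases hde : d = e
  · rw [hde]
  have hep : e • p = p := by
    by_contra hne
    refine Nat.not_even_iff_odd.2 (h.oddMul d hd e he p hp hne)
      (even_orderOf_of_mem hP (mul_mem hdP heP) fun h1 => hde ?_)
    rw [eq_inv_of_mul_eq_one_left h1, invol_inv (h.invol e he)]
  have hSE := h.emb_bad hu (h.smul_eq_of_commute hd hp hdu)
  set L := loc D u
  have hdL : d ∈ L := subset_closure ⟨hd, hdu⟩
  have heL : e ∈ L := subset_closure ⟨he, heu⟩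
  have hP' : IsPGroup 2 (P.subgroupOf L) := hP.comap_of_injective _ L.subtype_injective
  have hc := commute_of_se hSE hP' (x := ⟨d, hdL⟩) (y := ⟨e, heL⟩) hdP heP
    (show d • p = p from hp) (show e • p = p from hep)
    ((Subgroup.orderOf_mk d hdL).trans (h.invol d hd))
    ((Subgroup.orderOf_mk e heL).trans (h.invol e he))
  exact congrArg Subtype.val hc.eq

omit [MulAction G Ω] in
/-- The sign of an involution in a permutation representation. -/
theorem sign_eq {α : Type u} [Fintype α] [DecidableEq α] [MulAction G α] (g : G)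
    (hg : g * g = 1) :
    Equiv.Perm.sign (MulAction.toPermHom G α g) =
      (-1) ^ ((Nat.card α - Nat.card {x : α // g • x = x}) / 2) := by
  classical
  haveI : Fact (Nat.Prime 2) := ⟨Nat.prime_two⟩
  set σ := MulAction.toPermHom G α g with hσ
  have hpow : σ ^ 2 = 1 := by rw [hσ, ← map_pow, pow_two, hg, map_one]
  rw [Equiv.Perm.sign_of_cycleType_eq_replicate (n := 2) (by norm_num)
    (Equiv.Perm.cycleType_of_pow_prime_eq_one hpow), if_neg (by decide),
    Nat.card_eq_fintype_card, Nat.card_eq_fintype_card]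
  congr 3

omit [MulAction G Ω] in
/-- The transfer: an involution `v` without conjugates in a maximal subgroup `M` of a Sylow
subgroup `S`, and `z` central in `S` whose central conjugates in `S` lie in `M`. -/
theorem exists_index_two (S : Sylow 2 G) {M : Subgroup G} (hMS : M ≤ S)
    (hM : M.relIndex S = 2) {v z : G} (hv : orderOf v = 2) (hz : orderOf z = 2)
    (hvM : ∀ g : G, g * v * g⁻¹ ∉ M) (hzS : ∀ s ∈ (S : Subgroup G), Commute s z)
    (hzM : ∀ g : G, g⁻¹ * z * g ∈ (S : Subgroup G) →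
      (∀ s ∈ (S : Subgroup G), Commute s (g⁻¹ * z * g)) → g⁻¹ * z * g ∈ M)
    (hzin : z ∈ (S : Subgroup G)) :
    ∃ N : Subgroup G, N.index = 2 ∧ z ∈ N ∧ v ∉ N := by
  classical
  haveI : Fact (Nat.Prime 2) := ⟨Nat.prime_two⟩
  have hidx : M.index = 2 * (S : Subgroup G).index := by rw [← relIndex_mul_index hMS, hM]
  obtain ⟨k, hk⟩ := Nat.odd_iff.2 (Nat.two_dvd_ne_zero.1 S.not_dvd_index)
  haveI : (M.subgroupOf S).Normal := normal_of_index_eq_two hM
  have hnorm : ∀ s ∈ (S : Subgroup G), ∀ m ∈ M, s * m * s⁻¹ ∈ M := fun s hs m hm =>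
    mem_subgroupOf.1 (‹(M.subgroupOf S).Normal›.conj_mem ⟨m, hMS hm⟩ (mem_subgroupOf.2 hm) ⟨s, hs⟩)
  letI : Fintype (G ⧸ M) := Fintype.ofFinite _
  let χ : G →* ℤˣ := Equiv.Perm.sign.comp (MulAction.toPermHom G (G ⧸ M))
  have hmk : ∀ (x g : G), x • (g : G ⧸ M) = g ↔ g⁻¹ * x * g ∈ M := fun x g => Crit8.smul_mk_eq_iff
  -- `v` has no fixed point
  have hv0 : Nat.card {x : G ⧸ M // v • x = x} = 0 := by
    refine Nat.card_eq_zero.2 (Or.inl ⟨fun x => ?_⟩)
    obtain ⟨x, hx⟩ := x
    induction x using QuotientGroup.induction_on with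
    | H g => exact hvM g⁻¹ (by simpa using (hmk v g).1 hx)
  have hχv : χ v = -1 := by
    show Equiv.Perm.sign (MulAction.toPermHom G (G ⧸ M) v) = -1
    rw [sign_eq v (invol_mul_self hv), hv0, Nat.sub_zero, ← Subgroup.index_eq_card, hidx, hk]
    rw [show 2 * (2 * k + 1) / 2 = 2 * k + 1 by omega]
    exact Odd.neg_one_pow ⟨k, rfl⟩
  -- the fixed cosets of `z`
  let π : G ⧸ M → G ⧸ (S : Subgroup G) := fun x => (quotientEquivProdOfLE hMS x).1
  have hπ : ∀ g : G, π (g : G ⧸ M) = (g : G ⧸ (S : Subgroup G)) := fun g => rfl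
  let A : Set (G ⧸ (S : Subgroup G)) :=
    {q | ∃ g : G, (g : G ⧸ (S : Subgroup G)) = q ∧ g⁻¹ * z * g ∈ M}
  have hfix : ∀ x : G ⧸ M, z • x = x ↔ π x ∈ A := by
    intro x
    induction x using QuotientGroup.induction_on with
    | H g =>
      rw [hmk, hπ]
      refine ⟨fun hg => ⟨g, rfl, hg⟩, ?_⟩
      rintro ⟨g', hg', hmem⟩
      have hs : g⁻¹ * g' ∈ (S : Subgroup G) := by
        have := QuotientGroup.eq.1 hg'
        simpa using inv_mem this
      have := hnorm _ hs _ hmem
      rwa [show g⁻¹ * g' * (g'⁻¹ * z * g') * (g⁻¹ * g')⁻¹ = g⁻¹ * z * g by group] at this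
  have hcardfix : Nat.card {x : G ⧸ M // z • x = x} = Nat.card A * 2 := by
    let e : {x : G ⧸ M // z • x = x} ≃
        {p : (G ⧸ (S : Subgroup G)) × ((S : Subgroup G) ⧸ M.subgroupOf S) // p.1 ∈ A} :=
      (quotientEquivProdOfLE hMS).subtypeEquiv hfix
    rw [Nat.card_congr (e.trans (Equiv.prodSubtypeFstEquivSubtypeProd (p := fun q => q ∈ A))),
      Nat.card_prod, ← Subgroup.index_eq_card]
    exact congrArg (Nat.card A * ·) hM
  -- the parity of `A`
  have hAinv : ∀ s ∈ (S : Subgroup G), ∀ q ∈ A, s • q ∈ A := by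
    rintro s hs q ⟨g, rfl, hg⟩
    refine ⟨s * g, rfl, ?_⟩
    rwa [show (s * g)⁻¹ * z * (s * g) = g⁻¹ * (s⁻¹ * (z * s)) * g by group, ← (hzS s hs).eq,
      inv_mul_cancel_left]
  let T : SubMulAction (S : Subgroup G) (G ⧸ (S : Subgroup G)) :=
    { carrier := A, smul_mem' := fun s q hq => hAinv s s.2 q hq }
  have hA : Odd (Nat.card A) := by
    have h1 := IsPGroup.card_modEq_card_fixedPoints (p := 2) (G := (S : Subgroup G)) S.2 T
    have h2 := IsPGroup.card_modEq_card_fixedPoints (p := 2) (G := (S : Subgroup G)) S.2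
      (G ⧸ (S : Subgroup G))
    have hall : ∀ q ∈ fixedPoints (S : Subgroup G) (G ⧸ (S : Subgroup G)), q ∈ A := by
      intro q hq
      induction q using QuotientGroup.induction_on with
      | H g =>
        have hle : ∀ s ∈ (S : Subgroup G), g⁻¹ * s * g ∈ (S : Subgroup G) := fun s hs =>
          (Crit8.smul_mk_eq_iff).1 (hq ⟨s, hs⟩)
        have hle' : (S : Subgroup G).map (MulAut.conj g⁻¹).toMonoidHom ≤ (S : Subgroup G) := by
          rintro x ⟨s, hs, rfl⟩
          simpa using hle s hs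
        have heq : (S : Subgroup G).map (MulAut.conj g⁻¹).toMonoidHom = (S : Subgroup G) :=
          Subgroup.eq_of_le_of_card_ge hle'
            (by rw [Subgroup.card_map_of_injective (MulAut.conj g⁻¹).injective])
        refine ⟨g, rfl, hzM g (hle z hzin) fun s hs => ?_⟩
        rw [← heq] at hs
        obtain ⟨s', hs', rfl⟩ := hs
        have hc : Commute s' z := hzS s' hs'
        simpa [Commute, SemiconjBy] using
          (Commute.map hc (MulAut.conj g⁻¹).toMonoidHom)
    let e : fixedPoints (S : Subgroup G) T ≃ fixedPoints (S : Subgroup G) (G ⧸ (S : Subgroup G)) :=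
      { toFun := fun q => ⟨q.1.1, fun s => congrArg Subtype.val (q.2 s)⟩
        invFun := fun q => ⟨⟨q.1, hall q.1 q.2⟩, fun s => Subtype.ext (q.2 s)⟩
        left_inv := fun _ => rfl
        right_inv := fun _ => rfl }
    rw [Nat.card_congr e] at h1
    have h3 : Nat.card T ≡ Nat.card (G ⧸ (S : Subgroup G)) [MOD 2] := h1.trans h2.symm
    rw [← Subgroup.index_eq_card, hk] at h3
    rw [Nat.odd_iff]
    show Nat.card T % 2 = 1
    have h4 : Nat.card T % 2 = (2 * k + 1) % 2 := h3
    omega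
  have hχz : χ z = 1 := by
    show Equiv.Perm.sign (MulAction.toPermHom G (G ⧸ M) z) = 1
    rw [sign_eq z (invol_mul_self hz), hcardfix, ← Subgroup.index_eq_card, hidx, hk]
    have hle : Nat.card A ≤ 2 * k + 1 := by
      rw [← hk, Subgroup.index_eq_card]
      exact Nat.card_le_card_of_injective _ Subtype.val_injective
    obtain ⟨j, hj⟩ := hA
    rw [show (2 * (2 * k + 1) - Nat.card A * 2) / 2 = 2 * (k - j) by omega]
    exact Even.neg_one_pow ⟨k - j, by ring⟩
  refine ⟨χ.ker, ?_, hχz, fun hmem => ?_⟩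
  · rw [Subgroup.index_ker, MonoidHom.range_eq_top.2 ?_, Subgroup.card_top,
      Nat.card_eq_fintype_card, Fintype.card_units_int]
    intro x
    rcases Int.units_eq_one_or x with rfl | rfl
    · exact ⟨1, map_one χ⟩
    · exact ⟨v, hχv⟩
  · rw [MonoidHom.mem_ker, hχv] at hmem
    exact absurd hmem (by decide)

end Cfsg.Agent.Lib.Crit5.RankOne
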