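import Cfsg.Agent.Lib.Crit5.KillTwoSquares
import Cfsg.Agent.Lib.Crit5.RankOneTools
import Cfsg.Agent.Lib.Crit5.FactsCore
import Cfsg.Agent.Lib.RankOne.Involution

/-!
# The single fixed point criterion, section C2: transfer, and `r = q² + 1`

`false_of_fusion`: elementary squares and all conjugates of `x` in the Sylow subgroup in `x E` give a
subgroup of index two with all members.  `false_of_large`: the case `r = q² + 1`.
See `notes/crit_c2_helper31.md`, section 3.

Owner: helper31.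
-/

set_option autoImplicit false
set_option linter.style.haveILetI false
set_option linter.unusedSectionVars false

namespace Cfsg.Agent.Lib.Crit5.KillTwo

open MulAction Cfsg.Agent.Lib.Involutions.Basic
open Cfsg.Agent.Lib.Crit8 (Action Pre Bad memAt memSwap loc)
open Cfsg.Agent.Lib.Crit5.Facts (oddC)

universe u

variable {G Ω : Type u} [Group G] [MulAction G Ω] {D : Set G}
variable [Finite G] {q r : ℕ} (h : Ctx G Ω D q r) {x : G} {a b : Ω}
variable (hx : Bad G Ω x) (hxa : x • a = a) (hxb : x • b = b) (hba : b ≠ a) (S : Sz D x a b q)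
include h hx hxa hxb hba S

/-- A largest `2`-subgroup of `G_a` is a Sylow subgroup of `G`. -/
theorem Ctx.exists_sylow (htop : IsTop D x a) :
    ∃ P : Sylow 2 G, (P : Subgroup G) = mGrp D x a := by
  haveI := h.faith
  obtain ⟨P, hP⟩ := (h.mGrp_pGroup hx hxa hxb hba S).exists_le_sylow
  obtain ⟨d, hd⟩ := CountsB.exists_commute h.hM x hx hxa
  have hdP : d ∈ (P : Subgroup G) := hP (h.eGrp_le_mGrp hx hxa (Subgroup.subset_closure hd))
  exact ⟨P, (Subgroup.eq_of_le_of_card_ge hP (htop P P.2 (Facts.le_stab h.hM.act hd.1 P.2 hdP))).symm⟩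

/-- **Transfer.** -/
theorem Ctx.false_of_fusion (htop : IsTop D x a) (hel : IsElem D x a)
    (hfus : ∀ g : G, g * x * g⁻¹ ∈ mGrp D x a → x * (g * x * g⁻¹) ∈ eGrp D x a) : False := by
  classical
  haveI := h.faith
  haveI := h.finite
  have hxx := invol_mul_self hx.invol
  obtain ⟨P, hP⟩ := h.exists_sylow hx hxa hxb hba S htop
  obtain ⟨d, hd⟩ := CountsB.exists_commute h.hM x hx hxa
  have hdE : d ∈ eGrp D x a := Subgroup.subset_closure hd
  have hxA : x ∈ aGrp Ω x := mem_aGrp.2 ⟨fun p hp => hp, Commute.refl x⟩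
  have hxM : x ∈ mGrp D x a := h.aGrp_le_mGrp hx hxa hxA
  have hxE : x ∉ eGrp D x a := fun hm =>
    invol_ne_one hx.invol (h.Q_inf_aGrp hx hxa hxb hba S (h.eGrp_le_Q hx hxa hxb hba S hm) hxA)
  -- a subgroup of index two without `x`
  obtain ⟨N, ⟨hEN, hNM, hxN⟩, hmax⟩ := exists_maximal_of_wellFoundedGT
    (fun N : Subgroup G => eGrp D x a ≤ N ∧ N ≤ mGrp D x a ∧ x ∉ N)
    ⟨_, le_rfl, h.eGrp_le_mGrp hx hxa, hxE⟩
  have hcomm : ∀ y ∈ mGrp D x a, ∀ z ∈ mGrp D x a, y * z * y⁻¹ * z⁻¹ ∈ N := fun y hy z hz =>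
    hEN (h.commutator_mem hx hxa hxb hba S hel hy hz)
  have hnorm : ∀ y ∈ mGrp D x a, ∀ n ∈ N, y * n * y⁻¹ ∈ N := by
    intro y hy n hn
    have := mul_mem (hcomm y hy n (hNM hn)) hn
    rwa [inv_mul_cancel_right] at this
  have hcov : ∀ y ∈ mGrp D x a, y ∈ N ∨ x * y ∈ N := by
    intro y hy
    by_contra hcon
    push Not at hcon
    obtain ⟨hy1, hy2⟩ := hcon
    let N' : Subgroup G :=
      { carrier := {z | z ∈ mGrp D x a ∧ (z ∈ N ∨ y⁻¹ * z ∈ N)}
        one_mem' := ⟨one_mem _, Or.inl (one_mem _)⟩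
        mul_mem' := by
          rintro z z' ⟨hz, hzN⟩ ⟨hz', hzN'⟩
          refine ⟨mul_mem hz hz', ?_⟩
          rcases hzN with hzN | hzN <;> rcases hzN' with hzN' | hzN'
          · exact Or.inl (mul_mem hzN hzN')
          · refine Or.inr ?_
            have h1 := mul_mem (hnorm y⁻¹ (inv_mem hy) z hzN) hzN'
            rwa [show y⁻¹ * z * y⁻¹⁻¹ * (y⁻¹ * z') = y⁻¹ * (z * z') by group] at h1
          · refine Or.inr ?_
            rw [← mul_assoc]
            exact mul_mem hzN hzN'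
          · refine Or.inl ?_
            have h1 := mul_mem (hEN (hel y hy))
              (mul_mem (hnorm y⁻¹ (inv_mem hy) _ hzN) hzN')
            rwa [show y * y * (y⁻¹ * (y⁻¹ * z) * y⁻¹⁻¹ * (y⁻¹ * z')) = z * z' by group] at h1
        inv_mem' := by
          rintro z ⟨hz, hzN⟩
          refine ⟨inv_mem hz, ?_⟩
          rcases hzN with hzN | hzN
          · exact Or.inl (inv_mem hzN)
          · refine Or.inr ?_
            have h1 := hnorm y hy _ (inv_mem (hnorm y⁻¹ (inv_mem hy) _ hzN))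
            rw [show y * (y⁻¹ * (y⁻¹ * z) * y⁻¹⁻¹)⁻¹ * y⁻¹ = z⁻¹ * y by group] at h1
            have h2 := mul_mem (inv_mem (hEN (hel y hy)))
              (hnorm y hy _ h1)
            rwa [show (y * y)⁻¹ * (y * (z⁻¹ * y) * y⁻¹) = y⁻¹ * z⁻¹ by group] at h2 }
    have hNN' : N ≤ N' := fun z hz => ⟨hNM hz, Or.inl hz⟩
    have hle := hmax (y := N') ⟨hEN.trans hNN', fun z hz => hz.1, fun hx' =>
      hx'.2.elim hxN fun hh => hy2 (by
        have h4 := mul_mem (hEN (hel y hy)) hh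
        rw [show y * y * (y⁻¹ * x) = y * x by group] at h4
        have h5 := mul_mem (hcomm x hxM y hy) h4
        rwa [show x * y * x⁻¹ * y⁻¹ * (y * x) = x * y by group] at h5)⟩ hNN'
    exact hy1 (hle ⟨hy, Or.inr (by rw [inv_mul_cancel]; exact one_mem _)⟩)
  have hrel : N.relIndex (P : Subgroup G) = 2 := by
    rw [hP]
    refine Subgroup.relIndex_eq_two_iff.2 ⟨x, hxM, fun y hy => ?_⟩
    rcases hcov y hy with h1 | h1
    · refine Or.inr ⟨h1, fun h2 => hxN ?_⟩
      have := mul_mem (inv_mem h1) h2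
      rwa [inv_mul_cancel_left] at this
    · refine Or.inl ⟨?_, fun h2 => hxN ?_⟩
      · have := mul_mem (hcomm y hy x hxM) h1
        rwa [show y * x * y⁻¹ * x⁻¹ * (x * y) = y * x by group] at this
      · have := mul_mem h1 (inv_mem h2)
        rwa [mul_inv_cancel_right] at this
  have hzS : ∀ s ∈ (P : Subgroup G), Commute s d := fun s hs => by
    rw [hP] at hs
    exact h.E_central hx hxa hxb hba S hs hdE
  have hdP : d ∈ (P : Subgroup G) := by rw [hP]; exact h.eGrp_le_mGrp hx hxa hdE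
  obtain ⟨N2, hN2, hdN, hxN2⟩ := RankOne.exists_index_two P (hP ▸ hNM) hrel hx.invol
    (h.pre.invol d hd.1.1)
    (fun g hg => hxN (by
      have h1 := mul_mem (hEN (hfus g (hNM hg))) (inv_mem hg)
      rwa [mul_inv_cancel_right] at h1))
    hzS
    (fun g hg hc => hEN (Subgroup.subset_closure
      ⟨⟨by simpa using h.pre.conj g⁻¹ d hd.1.1,
        h.pre.smul_eq_of_commute hd.1.1 hd.1.2 (hc d hdP)⟩,
        (hc x (hP ▸ hxM)).symm⟩))
    hdP
  haveI : N2.Normal := Subgroup.normal_of_index_eq_two hN2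
  have hall : D ⊆ N2 := fun e he => by
    obtain ⟨g, hg⟩ := isConj_iff.1 (h.pre.isConj_mem hd.1.1 he)
    rw [← hg]
    exact ‹N2.Normal›.conj_mem d hdN g
  have htop2 : N2 = ⊤ := top_unique (h.hM.top ▸ (Subgroup.closure_le N2).2 hall)
  rw [htop2, Subgroup.index_top] at hN2
  omega

/-- The swappers of `(a, b)` centralising `x` are at most `q - 1`. -/
theorem Ctx.card_swap_le : Nat.card {w : G // w ∈ memSwap G D a b ∧ Commute w x} ≤ q - 1 := by
  obtain ⟨d, hd⟩ := CountsB.exists_commute h.hM x hx hxa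
  have hc : Nat.card (memCent D x b) = q - 1 := by
    have := (h.all x b hx hxb).card_cent
    omega
  rw [← hc]
  refine Nat.card_le_card_of_injective (fun w =>
    (⟨w.1 * d * w.1⁻¹, by
      have h1 := CountsB.conj_memCent h.hM (g := w.1) hd
      rwa [w.2.2.eq, mul_inv_cancel_right, w.2.1.2] at h1⟩ : memCent D x b))
    fun w w' e => Subtype.ext ?_
  exact h.pre.swap_unique hba.symm hd.1 w.2.1 w'.2.1 (congrArg Subtype.val e)

/-- With `r ≠ 1` the group `A` has order two. -/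
theorem Ctx.aGrp_eq_of_large (hr : 2 ≤ r) {v : G} (hv : v ∈ aGrp Ω x) : v = 1 ∨ v = x := by
  by_contra hcon
  push Not at hcon
  obtain ⟨hv1, hvx⟩ := hcon
  haveI := h.faith
  set K := stabilizer G a ⊓ stabilizer G b
  have hxx := invol_mul_self hx.invol
  have hvv := (h.aGrp_elem hx hxa hxb hba S hv hv).1
  have hxA : x ∈ aGrp Ω x := mem_aGrp.2 ⟨fun p hp => hp, Commute.refl x⟩
  have hxv := (h.aGrp_elem hx hxa hxb hba S hxA hv).2
  have hxv1 : x * v ≠ 1 := fun e => hvx (by rw [eq_inv_of_mul_eq_one_right e, invol_inv hx.invol])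
  have hK : ∀ u ∈ aGrp Ω x, u ∈ K := fun u hu =>
    ⟨(mem_aGrp.1 hu).1 a hxa, (mem_aGrp.1 hu).1 b hxb⟩
  -- every centraliser in the odd core centralises `x`
  have hcent : ∀ u ∈ aGrp Ω x, u ≠ 1 → ∀ k ∈ oddC K, u * k * u⁻¹ = k →
      k ∈ Subgroup.centralizer ({x} : Set G) := by
    intro u hu hu1 k hk hku
    obtain ⟨-, -, hF, -, -, hA, -⟩ := h.aGrp_bad hx hxa hxb hba S hu hu1
    have hku' : Commute k u := (mul_inv_eq_iff_eq_mul.1 hku).symm
    have hxu : x ∈ aGrp Ω u := hA ▸ hxA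
    have hkx : k * x * k⁻¹ ∈ aGrp Ω u := by
      refine mem_aGrp.2 ⟨fun p hp => ?_, ?_⟩
      · have h1 : u • k⁻¹ • p = k⁻¹ • p := by
          rw [smul_smul, ← hku'.inv_left.eq, mul_smul, hp]
        rw [mul_smul, mul_smul, (mem_aGrp.1 hxu).1 _ h1, smul_inv_smul]
      · exact (hku'.mul_left (mem_aGrp.1 hxu).2).mul_left hku'.inv_left
    have h2 : k * x * k⁻¹ * x⁻¹ ∈ oddC K := by
      rw [show k * x * k⁻¹ * x⁻¹ = k * (x * k⁻¹ * x⁻¹) by group]
      exact mul_mem hk (Facts.conj_mem_oddC (hK x hxA) (inv_mem hk))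
    have h3 : k * x * k⁻¹ * x⁻¹ ∈ aGrp Ω x := hA ▸ mul_mem hkx (inv_mem hxu)
    have h4 : k * x * k⁻¹ * x⁻¹ = 1 :=
      RankOne.Involution.eq_one_of_sq (Facts.oddC_odd K) h2
        (h.aGrp_elem hx hxa hxb hba S h3 h3).1
    rw [Subgroup.mem_centralizer_singleton_iff]
    exact mul_inv_eq_iff_eq_mul.1 (mul_inv_eq_one.1 h4)
  have hle : oddC K ≤ Subgroup.centralizer ({x} : Set G) :=
    RankOne.Involution.le_of_four_group (Facts.oddC_odd K) hxx hvv hxv.eq
      (fun k hk => Facts.conj_mem_oddC (hK x hxA) hk)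
      (fun k hk => Facts.conj_mem_oddC (hK v hv) hk)
      (hcent x hxA (invol_ne_one hx.invol)) (hcent v hv hv1)
      (hcent _ (mul_mem hxA hv) hxv1)
  -- all swappers centralise `x`
  obtain ⟨w, hw, hwx⟩ := h.pre.exists_swap_commute hx.invol hba.symm (Or.inl ⟨hxa, hxb⟩)
  have hall : ∀ w' ∈ memSwap G D a b, Commute w' x := by
    intro w' hw'
    obtain ⟨k, hk, hkw⟩ := (Facts.pairCore G Ω D h.hM a b hba.symm w hw).2 w' hw'
    have hkx : Commute k x := Subgroup.mem_centralizer_singleton_iff.1 (hle hk)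
    rw [← hkw]
    exact (hkx.mul_left hwx).mul_left hkx.inv_left
  have hcard : Nat.card (memSwap G D a b) ≤ q - 1 :=
    le_trans (Nat.card_le_card_of_injective
      (fun w' : memSwap G D a b =>
        (⟨w'.1, w'.2, hall w'.1 w'.2⟩ : {w : G // w ∈ memSwap G D a b ∧ Commute w x}))
      fun _ _ e => Subtype.ext (congrArg (fun z : {w : G // w ∈ memSwap G D a b ∧ Commute w x} =>
        z.1) e)) (h.card_swap_le hx hxa hxb hba S)
  rw [h.pre.card_memSwap hba.symm, (h.all x b hx hxb).card_mem] at hcard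
  have hq := h.eight_le
  have : (q - 1) * 2 ≤ (q - 1) * r := Nat.mul_le_mul_left _ hr
  omega

theorem Ctx.card_aGrp_large (hr : 2 ≤ r) : Nat.card (aGrp Ω x) = 2 := by
  have hxA : x ∈ aGrp Ω x := mem_aGrp.2 ⟨fun p hp => hp, Commute.refl x⟩
  refine Nat.card_eq_two_iff.2 ⟨1, ⟨x, hxA⟩, fun e => invol_ne_one hx.invol
    (congrArg Subtype.val e).symm, Set.eq_univ_of_forall fun v => ?_⟩
  rcases h.aGrp_eq_of_large hx hxa hxb hba S hr v.2 with e | e
  · exact Or.inl (Subtype.ext e)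
  · exact Or.inr (Subtype.ext e)

omit hx hxa hxb hba S

/-- The case `r = q² + 1`. -/
theorem Ctx.false_of_large (hr : r = q ^ 2 + 1) (hN : Nat.card Ω - 1 = q ^ 3)
    (hex : ∃ y : G, Bad G Ω y ∧ y • a = a) : False := by
  classical
  haveI := h.faith
  haveI := h.finite
  haveI : Fact (Nat.Prime 2) := ⟨Nat.prime_two⟩
  have hq := h.eight_le
  have hr2 : 2 ≤ r := by rw [hr]; nlinarith
  obtain ⟨x, hx, hxa, htop⟩ := h.exists_top hex
  obtain ⟨b, hxb, hba⟩ := h.exists_other (a := a) hx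
  obtain ⟨S⟩ := h.sz x a b hx hxa hxb hba
  have hel : IsElem D x a := by
    by_contra hne
    have := h.exotic_card hx hxa hxb hba S hne
    rw [h.card_aGrp_large hx hxa hxb hba S hr2] at this
    omega
  refine h.false_of_fusion hx hxa hxb hba S htop hel fun g hg => ?_
  -- the conjugate fixes `a` and another point `p`
  have hya := h.mGrp_le hx hxa hg
  have hy : Bad G Ω (g * x * g⁻¹) := by
    refine ⟨(orderOf_conj_eq g x).trans hx.invol, g • a, g • b,
      fun e => hba (MulAction.injective g e).symm, ?_, ?_⟩ <;>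
      rw [mul_smul, mul_smul, inv_smul_smul]
    · rw [hxa]
    · rw [hxb]
  obtain ⟨p, hyp, hpa⟩ := h.exists_other (a := a) hy
  -- the orbit of `b` is everything off `a`
  let O : Type u := {y : Ω // y ≠ a}
  letI : MulAction (mGrp D x a) O :=
    { smul := fun g y => ⟨(g : G) • y.1, fun e => y.2 (MulAction.injective (g : G)
        (e.trans (show a = (g : G) • a from
          (h.mGrp_le hx hxa g.2 : (g : G) • a = a).symm)))⟩
      one_smul := fun y => Subtype.ext (one_smul G y.1)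
      mul_smul := fun g g' y => Subtype.ext (mul_smul (g : G) (g' : G) y.1) }
  have hstab : ∀ c : O, Nat.card (stabilizer (mGrp D x a) c) ≤ 2 := by
    intro c
    by_contra hgt
    push Not at hgt
    set R := (stabilizer (mGrp D x a) c).map (mGrp D x a).subtype with hRdef
    have hR : Nat.card R = Nat.card (stabilizer (mGrp D x a) c) :=
      Subgroup.card_map_of_injective (mGrp D x a).subtype_injective
    have hR2 : IsPGroup 2 R := ((h.mGrp_pGroup hx hxa hxb hba S).to_subgroup _).map _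
    haveI : Nontrivial R := Finite.one_lt_card_iff_nontrivial.1 (by omega)
    haveI := hR2.center_nontrivial
    obtain ⟨l, hl, hl'⟩ :=
      (hR2.to_subgroup (Subgroup.center R)).nontrivial_iff_card.1 inferInstance
    obtain ⟨⟨⟨v, hvR⟩, hvc⟩, hv⟩ := exists_prime_orderOf_dvd_card' (G := Subgroup.center R) 2
      (hl' ▸ dvd_pow_self 2 hl.ne')
    rw [← Subgroup.orderOf_coe, ← Subgroup.orderOf_coe] at hv
    have hRfix : ∀ g ∈ R, g • a = a ∧ g • c.1 = c.1 := by
      rintro g ⟨g', hg', rfl⟩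
      exact ⟨h.mGrp_le hx hxa g'.2, congrArg Subtype.val hg'⟩
    have hvb : Bad G Ω v := ⟨hv, a, c.1, c.2.symm, (hRfix v hvR).1, (hRfix v hvR).2⟩
    obtain ⟨Sv⟩ := h.sz v a c.1 hvb (hRfix v hvR).1 (hRfix v hvR).2 c.2
    have hle : Nat.card R ≤ Nat.card (aGrp Ω v) := Subgroup.card_le_of_le fun g hg => by
      obtain ⟨j, hj⟩ := hR2 ⟨g, hg⟩
      exact h.mem_aGrp_of_two hvb (hRfix v hvR).1 (hRfix v hvR).2 c.2 (hRfix g hg).1
        (hRfix g hg).2 (congrArg Subtype.val (Subgroup.mem_center_iff.1 hvc ⟨g, hg⟩))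
        ⟨j, congrArg Subtype.val hj⟩
    rw [h.card_aGrp_large hvb (hRfix v hvR).1 (hRfix v hvR).2 c.2 Sv hr2] at hle
    omega
  have hO : Nat.card O = q ^ 3 := by
    rw [← hN]
    haveI : Fintype Ω := Fintype.ofFinite Ω
    rw [Nat.card_eq_fintype_card, Nat.card_eq_fintype_card, Fintype.card_subtype_compl,
      Fintype.card_subtype_eq]
  have htrans : ∀ c : O, ∃ s : mGrp D x a, s • (⟨b, hba⟩ : O) = c := by
    have hmul : Nat.card (orbit (mGrp D x a) (⟨b, hba⟩ : O)) *
        Nat.card (stabilizer (mGrp D x a) (⟨b, hba⟩ : O)) = q ^ 3 * 2 := by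
      rw [Nat.card_coe_set_eq, ← index_stabilizer, Subgroup.index_mul_card,
        h.card_mGrp hx hxa hxb hba S, h.card_aGrp_large hx hxa hxb hba S hr2]
    have h1 : q ^ 3 ≤ Nat.card (orbit (mGrp D x a) (⟨b, hba⟩ : O)) := by
      by_contra hlt
      have := Nat.mul_lt_mul_of_lt_of_le (lt_of_not_ge hlt) (hstab ⟨b, hba⟩) (by norm_num)
      omega
    have h2 : orbit (mGrp D x a) (⟨b, hba⟩ : O) = Set.univ := by
      refine Set.eq_of_subset_of_ncard_le (Set.subset_univ _) ?_ (Set.toFinite _)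
      rw [Set.ncard_univ, hO, ← Nat.card_coe_set_eq]
      exact h1
    intro c
    exact mem_orbit_iff.1 (h2 ▸ Set.mem_univ c)
  obtain ⟨s, hs⟩ := htrans ⟨p, hpa⟩
  have hsp : (s : G) • b = p := congrArg Subtype.val hs
  -- the two involutions fixing `b`
  set z := (s : G)⁻¹ * (g * x * g⁻¹) * s with hz
  have hzb : z • b = b := by rw [hz, mul_smul, mul_smul, hsp, hyp, ← hsp, inv_smul_smul]
  have hzM : z ∈ mGrp D x a := mul_mem (mul_mem (inv_mem s.2) hg) s.2
  have hxM : x ∈ mGrp D x a :=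
    h.aGrp_le_mGrp hx hxa (mem_aGrp.2 ⟨fun p hp => hp, Commute.refl x⟩)
  have hzx : z = x := by
    by_contra hne
    have h3 := hstab ⟨b, hba⟩
    have hz1 : z ≠ 1 := by
      intro e
      refine invol_ne_one hy.invol ?_
      calc g * x * g⁻¹ = (s : G) * z * (s : G)⁻¹ := by rw [hz]; group
        _ = 1 := by rw [e]; group
    have hsub : ({1, ⟨z, hzM⟩, ⟨x, hxM⟩} : Set (mGrp D x a)) ⊆
        (stabilizer (mGrp D x a) (⟨b, hba⟩ : O) : Set (mGrp D x a)) := by
      rintro w (rfl | rfl | rfl)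
      · exact one_mem _
      · exact Subtype.ext hzb
      · exact Subtype.ext hxb
    have h4 := Set.ncard_le_ncard hsub (Set.toFinite _)
    have h5 : ({1, ⟨z, hzM⟩, ⟨x, hxM⟩} : Set (mGrp D x a)).ncard = 3 :=
      Set.ncard_eq_three.2 ⟨_, _, _, fun e => hz1 (congrArg Subtype.val e).symm,
        fun e => invol_ne_one hx.invol (congrArg Subtype.val e).symm,
        fun e => hne (congrArg Subtype.val e), rfl⟩
    rw [h5, ← Nat.card_coe_set_eq] at h4
    have h6 : Nat.card ((stabilizer (mGrp D x a) (⟨b, hba⟩ : O)) : Set (mGrp D x a)) ≤ 2 := h3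
    omega
  have hgy : g * x * g⁻¹ = (s : G) * x * (s : G)⁻¹ :=
    calc g * x * g⁻¹ = (s : G) * z * (s : G)⁻¹ := by rw [hz]; group
      _ = _ := congrArg (fun w => (s : G) * w * (s : G)⁻¹) hzx
  rw [hgy]
  exact ((h.mem_mGrp hx hxa).1 s.2).2

end Cfsg.Agent.Lib.Crit5.KillTwo
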