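import Cfsg.Agent.Lib.Crit5.KillTwoBase

/-!
# The single fixed point criterion, section C2: one bad involution

`aGrp x = G_F ∩ C(x)` is an elementary abelian `2`-group centralising the group of `x`, the
centraliser of `x` in `cGrp = C_{G_a}(E)` is `Q × A`, and for `g ∈ E`, `v ∈ A` exactly one `w ∈ E`
makes `v w` fix all fixed points of `x g` (`Tie`).  See `notes/crit_c2_helper31.md`, section 1.

Owner: helper31.
-/

set_option autoImplicit false
set_option linter.style.haveILetI false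
set_option linter.unusedSectionVars false

namespace Cfsg.Agent.Lib.Crit5.KillTwo

open MulAction Cfsg.Agent.Lib.Involutions.Basic
open Cfsg.Agent.Lib.Crit8 (Action Pre Bad memAt memSwap loc)

universe u

variable {G Ω : Type u} [Group G] [MulAction G Ω] {D : Set G}

/-- The members at `a` centralising `x`, as a subgroup. -/
def eGrp (D : Set G) (x : G) (a : Ω) : Subgroup G := Subgroup.closure (memCent D x a)

/-- The elements centralising `x` and fixing all its fixed points. -/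
def aGrp (Ω : Type u) [MulAction G Ω] (x : G) : Subgroup G :=
  fixingSubgroup G {p : Ω | x • p = p} ⊓ Subgroup.centralizer {x}

/-- The elements fixing `a` and centralising `E`. -/
def cGrp (D : Set G) (x : G) (a : Ω) : Subgroup G :=
  stabilizer G a ⊓ Subgroup.centralizer (memCent D x a)

/-- `v w` fixes all fixed points of `x g`. -/
def Tie (Ω : Type u) [MulAction G Ω] (x v g w : G) : Prop := FixesAll (Ω := Ω) (x * g) (v * w)

theorem mem_aGrp {x g : G} : g ∈ aGrp Ω x ↔ FixesAll (Ω := Ω) x g ∧ Commute g x := by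
  rw [aGrp, Subgroup.mem_inf, mem_fixingSubgroup_iff, Subgroup.mem_centralizer_singleton_iff]
  exact Iff.rfl

theorem mem_cGrp {x g : G} {a : Ω} :
    g ∈ cGrp D x a ↔ g • a = a ∧ ∀ d ∈ memCent D x a, Commute g d := by
  rw [cGrp, Subgroup.mem_inf, mem_stabilizer_iff, Subgroup.mem_centralizer_iff]
  exact ⟨fun h => ⟨h.1, fun d hd => (h.2 d hd).symm⟩, fun h => ⟨h.1, fun d hd => (h.2 d hd).eq.symm⟩⟩

variable [Finite G] {q r : ℕ} (h : Ctx G Ω D q r)
include h

theorem Ctx.pre : Pre G Ω D := h.hM.act.toPre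

theorem Ctx.faith : FaithfulSMul G Ω := h.hM.faithful

theorem Ctx.finite : Finite Ω := CountsB.finite_points h.hM

theorem Ctx.eight_le : 8 ≤ q := by
  obtain ⟨m, hm, hqm⟩ := h.exists_log
  rw [hqm]
  exact le_trans (by norm_num) (Nat.pow_le_pow_right (by norm_num) (show 3 ≤ 2 * m + 1 by omega))

theorem Ctx.q_sq_pow : ∃ j : ℕ, q ^ 2 = 2 ^ j := by
  obtain ⟨m, -, hqm⟩ := h.exists_log
  exact ⟨(2 * m + 1) * 2, by rw [hqm, ← pow_mul]⟩

variable {x : G} {a : Ω}

/-- An element of odd prime order permuting `q²` points fixes one of them. -/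
theorem Ctx.exists_fix {g : G} {p : ℕ} (hp : p.Prime) (hp2 : p ≠ 2) (hg : g ^ p = 1)
    (hx : Bad G Ω x) (hxa : x • a = a) (hga : g • a = a)
    (hF : ∀ c : Ω, x • c = c → x • g • c = g • c) :
    ∃ b : Ω, x • b = b ∧ b ≠ a ∧ g • b = b := by
  classical
  haveI := h.finite
  haveI : Fact p.Prime := ⟨hp⟩
  let X := {c : Ω // x • c = c ∧ c ≠ a}
  haveI : Fintype X := Fintype.ofFinite X
  let f : X → X := fun c => ⟨g • c.1, hF c.1 c.2.1, fun e => c.2.2
    (MulAction.injective g (e.trans hga.symm))⟩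
  have hfp : ∀ (n : ℕ) (c : X), ((f^[n]) c).1 = g ^ n • c.1 := by
    intro n
    induction n with
    | zero => intro c; rw [pow_zero, one_smul]; rfl
    | succ n ih =>
      intro c
      rw [Function.iterate_succ_apply', pow_succ', mul_smul, ← ih c]
  let e : Equiv.Perm X := Equiv.ofBijective f
    (Finite.injective_iff_bijective.1 fun c c' hcc =>
      Subtype.ext (MulAction.injective g (congrArg Subtype.val hcc)))
  have hep : e ^ p ^ 1 = 1 := by
    refine Equiv.ext fun c => Subtype.ext ?_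
    rw [pow_one, Equiv.Perm.coe_pow]
    show ((f^[p]) c).1 = c.1
    rw [hfp, hg, one_smul]
  have hcard : ¬ p ∣ Fintype.card X := by
    rw [← Nat.card_eq_fintype_card, show Nat.card X = q ^ 2 from ?_]
    · intro hd
      obtain ⟨j, hj⟩ := h.q_sq_pow
      rw [hj] at hd
      exact hp2 ((Nat.prime_dvd_prime_iff_eq hp Nat.prime_two).1 (hp.dvd_of_dvd_pow hd))
    · have h1 : Nat.card X = Nat.card ↥({c : Ω | x • c = c} \ {a}) := rfl
      rw [h1, Nat.card_coe_set_eq, Set.ncard_sdiff_singleton_of_mem (show a ∈ {c : Ω | x • c = c} from hxa),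
        ← Nat.card_coe_set_eq, show Nat.card {c : Ω | x • c = c} = q ^ 2 + 1 from
          (h.all x a hx hxa).card_fix, Nat.add_sub_cancel]
  obtain ⟨c, hc⟩ := Equiv.Perm.exists_fixed_point_of_prime hcard hep
  exact ⟨c.1, c.2.1, c.2.2, congrArg Subtype.val hc⟩

/-- A bad involution has a fixed point besides `a`. -/
theorem Ctx.exists_other (hx : Bad G Ω x) : ∃ b : Ω, x • b = b ∧ b ≠ a := by
  obtain ⟨c, c', hne, hc, hc'⟩ := hx.two
  rcases eq_or_ne c a with rfl | hca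
  · exact ⟨c', hc', hne.symm⟩
  · exact ⟨c, hc, hca⟩

theorem Ctx.mem_eGrp (hx : Bad G Ω x) (hxa : x • a = a) {g : G} :
    g ∈ eGrp D x a ↔ g = 1 ∨ g ∈ memCent D x a := by
  refine ⟨fun hg => ?_, fun hg => hg.elim (fun e => e ▸ one_mem _) (fun hh => Subgroup.subset_closure hh)⟩
  obtain ⟨E, hE, -, -⟩ := CountsB.exists_sub h.hM h.comm hx hxa
  exact (hE g).1 ((Subgroup.closure_le E).2 (fun d hd => (hE d).2 (Or.inr hd)) hg)

theorem Ctx.memOne_iff (hx : Bad G Ω x) (hxa : x • a = a) {g : G} :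
    g ∈ memOne D x a ↔ g ∈ eGrp D x a := (h.mem_eGrp hx hxa).symm

theorem Ctx.card_eGrp (hx : Bad G Ω x) (hxa : x • a = a) : Nat.card (eGrp D x a) = q := by
  obtain ⟨E, hE, hEc, -⟩ := CountsB.exists_sub h.hM h.comm hx hxa
  have e : eGrp D x a = E := by
    ext g
    rw [h.mem_eGrp hx hxa, hE]
  rw [e, hEc, (h.all x a hx hxa).card_cent]

theorem Ctx.eGrp_commute (hx : Bad G Ω x) (hxa : x • a = a) {g : G} (hg : g ∈ eGrp D x a) :
    Commute g x ∧ g • a = a ∧ g * g = 1 ∧ ∀ f ∈ eGrp D x a, Commute g f := by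
  rcases (h.mem_eGrp hx hxa).1 hg with rfl | hd
  · exact ⟨Commute.one_left x, one_smul G a, mul_one 1, fun f _ => Commute.one_left f⟩
  refine ⟨hd.2, hd.1.2, invol_mul_self (h.pre.invol g hd.1.1), fun f hf => ?_⟩
  rcases (h.mem_eGrp hx hxa).1 hf with rfl | hf'
  · exact Commute.one_right g
  · exact h.comm x a hx hxa g hd f hf'

theorem Ctx.mem_cGrp' (hx : Bad G Ω x) (hxa : x • a = a) {g : G} (hg : g ∈ cGrp D x a) :
    g • a = a ∧ ∀ f ∈ eGrp D x a, Commute g f := by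
  refine ⟨(mem_cGrp.1 hg).1, fun f hf => ?_⟩
  rcases (h.mem_eGrp hx hxa).1 hf with rfl | hf'
  · exact Commute.one_right g
  · exact (mem_cGrp.1 hg).2 f hf'

/-- `x g` for `g ∈ E` is bad with the same members at `a`. -/
theorem Ctx.bad_mul (hx : Bad G Ω x) (hxa : x • a = a) {g : G} (hg : g ∈ eGrp D x a) :
    Bad G Ω (x * g) ∧ (x * g) • a = a ∧ memCent D (x * g) a = memCent D x a := by
  rcases (h.mem_eGrp hx hxa).1 hg with rfl | hd
  · rw [mul_one]; exact ⟨hx, hxa, rfl⟩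
  haveI := h.faith
  exact ⟨h.pre.bad_mul hx hd.1.1 hd.2, by rw [mul_smul, hd.1.2, hxa],
    CountsB.memCent_mul h.hM h.comm hx hxa hd⟩

theorem Ctx.eGrp_mul (hx : Bad G Ω x) (hxa : x • a = a) {g : G} (hg : g ∈ eGrp D x a) :
    eGrp D (x * g) a = eGrp D x a := by
  rw [eGrp, (h.bad_mul hx hxa hg).2.2, eGrp]

/-- An element of `E` fixing all fixed points of a bad involution at `a` is trivial. -/
theorem Ctx.eq_one_of_fixesAll (hx : Bad G Ω x) (hxa : x • a = a) {g : G}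
    (hg : g ∈ eGrp D x a) {y : G} (hy : Bad G Ω y) (hya : y • a = a) (hf : FixesAll (Ω := Ω) y g) :
    g = 1 := by
  rcases (h.mem_eGrp hx hxa).1 hg with h1 | hd
  · exact h1
  obtain ⟨b, hb, hba⟩ := h.exists_other (a := a) hy
  exact absurd (h.pre.eq_of_fix hd.1.1 (hf b hb) hd.1.2) hba

/-! ## `A` -/

/-- `A` centralises the members centralising `x`. -/
theorem Ctx.aGrp_commute_mem {g : G} (hg : g ∈ aGrp Ω x) (hx : Bad G Ω x) {d : G} (hd : d ∈ D)
    (hdx : Commute d x) : Commute g d := by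
  obtain ⟨c, hc⟩ := (h.pre.one d hd).exists
  have hxc : x • c = c := h.pre.smul_eq_of_commute hd hc hdx
  obtain ⟨hfix, hgx⟩ := mem_aGrp.1 hg
  have hd' := CountsB.conj_memCent h.hM (g := g) (show d ∈ memCent D x c from ⟨⟨hd, hc⟩, hdx⟩)
  rw [hgx.eq, mul_inv_cancel_right, hfix c hxc] at hd'
  have hdd : g * d * g⁻¹ = d := by
    refine h.distinct x c hx hxc _ hd' d ⟨⟨hd, hc⟩, hdx⟩ fun p hp => ?_
    have hgp : g⁻¹ • p = p := inv_smul_eq_iff.2 (hfix p hp).symm
    have hdp : x • d • p = d • p := by rw [smul_smul, ← hdx.eq, mul_smul, hp]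
    rw [mul_smul, mul_smul, hgp, hfix _ hdp]
  exact mul_inv_eq_iff_eq_mul.1 hdd

theorem Ctx.aGrp_commute_loc {g : G} (hg : g ∈ aGrp Ω x) (hx : Bad G Ω x) {l : G}
    (hl : l ∈ loc D x) : Commute g l := by
  have hle : loc D x ≤ Subgroup.centralizer {g} := (Subgroup.closure_le _).2 fun d hd =>
    Subgroup.mem_centralizer_singleton_iff.2 (h.aGrp_commute_mem hg hx hd.1 hd.2).eq.symm
  exact (Subgroup.mem_centralizer_singleton_iff.1 (hle hl) : l * g = g * l).symm

omit h in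
theorem commute_of_mem_loc {l : G} (hl : l ∈ loc D x) : Commute l x :=
  Subgroup.mem_centralizer_singleton_iff.1
    ((Subgroup.closure_le (Subgroup.centralizer {x})).2
      (fun _ hd => Subgroup.mem_centralizer_singleton_iff.2 hd.2.eq) hl)

/-- An element fixing all fixed points of every `x d` is trivial. -/
theorem Ctx.eq_one_of_cover (hx : Bad G Ω x) {g : G} (h0 : FixesAll (Ω := Ω) x g)
    (hall : ∀ d ∈ D, Commute d x → FixesAll (Ω := Ω) (x * d) g) : g = 1 := by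
  haveI := h.faith
  refine (FaithfulSMul.eq_of_smul_eq_smul fun z : Ω => ?_)
  rw [one_smul]
  rcases eq_or_ne (x • z) z with hz | hz
  · exact h0 z hz
  obtain ⟨w, hw, hwx⟩ := h.pre.exists_swap_commute hx.invol (Ne.symm hz) (Or.inr rfl)
  refine hall w hw.1 hwx z ?_
  rw [mul_smul, hw.2, smul_smul, invol_mul_self hx.invol, one_smul]

/-- `A` is a `2`-group. -/
theorem Ctx.aGrp_pGroup (hx : Bad G Ω x) : IsPGroup 2 (aGrp Ω x) := by
  classical
  rw [IsPGroup.iff_card]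
  refine ⟨_, Nat.eq_prime_pow_of_unique_prime_dvd Nat.card_pos.ne' fun {p} hp hdvd => ?_⟩
  by_contra hp2
  haveI : Fact p.Prime := ⟨hp⟩
  obtain ⟨⟨g, hg⟩, hgo⟩ := exists_prime_orderOf_dvd_card' (G := aGrp Ω x) p hdvd
  rw [Subgroup.orderOf_mk] at hgo
  have hgp : g ^ p = 1 := hgo ▸ pow_orderOf_eq_one g
  obtain ⟨hfix, hgx⟩ := mem_aGrp.1 hg
  have h1 : g = 1 := by
    refine h.eq_one_of_cover hx hfix fun d hd hdx => ?_
    obtain ⟨c, hc⟩ := (h.pre.one d hd).exists
    have hxc : x • c = c := h.pre.smul_eq_of_commute hd hc hdx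
    haveI := h.faith
    have hy := h.pre.bad_mul hx hd hdx
    have hyc : (x * d) • c = c := by rw [mul_smul, hc, hxc]
    have hgy : Commute g (x * d) := hgx.mul_right (h.aGrp_commute_mem hg hx hd hdx)
    have hF : ∀ z : Ω, (x * d) • z = z → (x * d) • g • z = g • z := fun z hz => by
      rw [smul_smul, ← hgy.eq, mul_smul, hz]
    obtain ⟨b, hb, hbc, hgb⟩ := h.exists_fix hp hp2 hgp hy hyc (hfix c hxc) hF
    refine h.trivial (x * d) c b hy hyc hb hbc g (hfix c hxc) hgb hF fun e he => ?_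
    rw [CountsB.memCent_mul h.hM h.comm hx hxc ⟨⟨hd, hc⟩, hdx⟩] at he
    exact h.aGrp_commute_mem hg hx he.1.1 he.2
  rw [h1, orderOf_one] at hgo
  exact hp.one_lt.ne hgo

/-- The group of `x` meets `A` trivially. -/
theorem Ctx.loc_inf_aGrp (hx : Bad G Ω x) {g : G} (hl : g ∈ loc D x) (hg : g ∈ aGrp Ω x) :
    g = 1 := by
  by_contra hne
  haveI : Fact (Nat.Prime 2) := ⟨Nat.prime_two⟩
  set N : Subgroup G := aGrp Ω x ⊓ loc D x
  haveI : Nontrivial N := ⟨⟨⟨g, hg, hl⟩, 1, fun e => hne (congrArg Subtype.val e)⟩⟩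
  obtain ⟨j, hj, hcard⟩ :=
    ((h.aGrp_pGroup hx).to_le (inf_le_left : N ≤ aGrp Ω x)).nontrivial_iff_card.1 inferInstance
  obtain ⟨⟨z, hzN⟩, hz⟩ := exists_prime_orderOf_dvd_card' (G := N) 2
    (hcard ▸ dvd_pow_self 2 hj.ne')
  rw [← Subgroup.orderOf_coe] at hz
  obtain ⟨hzA, hzl⟩ := Subgroup.mem_inf.1 hzN
  obtain ⟨c, c', hcc, hc, hc'⟩ := hx.two
  have hbad : Bad G Ω z :=
    ⟨hz, c, c', hcc, (mem_aGrp.1 hzA).1 c hc, (mem_aGrp.1 hzA).1 c' hc'⟩
  have hle : loc D x ≤ loc D z := (Subgroup.closure_le _).2 fun d hd =>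
    Subgroup.subset_closure ⟨hd.1, (h.aGrp_commute_mem hzA hx hd.1 hd.2).symm⟩
  exact h.hM.act.bad_not_mem_loc hbad (hle hzl)

theorem Ctx.aGrp_le_cGrp (hx : Bad G Ω x) (hxa : x • a = a) : aGrp Ω x ≤ cGrp D x a :=
  fun _ hg => mem_cGrp.2 ⟨(mem_aGrp.1 hg).1 a hxa,
    fun _ hd => h.aGrp_commute_mem hg hx hd.1.1 hd.2⟩

/-- A `2`-element centralising `x` and fixing two of its fixed points is in `A`. -/
theorem Ctx.mem_aGrp_of_two {b : Ω} (hx : Bad G Ω x) (hxa : x • a = a) (hxb : x • b = b)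
    (hba : b ≠ a) {g : G} (hga : g • a = a) (hgb : g • b = b) (hgx : Commute g x)
    (hg : ∃ j : ℕ, g ^ 2 ^ j = 1) : g ∈ aGrp Ω x :=
  mem_aGrp.2 ⟨h.trivial x a b hx hxa hxb hba g hga hgb
    (fun p hp => by rw [smul_smul, ← hgx.eq, mul_smul, hp])
    (h.even_cent x a hx hxa g hga hgx hg), hgx⟩

/-! ## The centraliser of `x` in `C` -/

variable {b : Ω} (hx : Bad G Ω x) (hxa : x • a = a) (hxb : x • b = b) (hba : b ≠ a)
  (S : Sz D x a b q)
include hx hxa hxb hba S

theorem Ctx.Q_props {y : G} (hy : y ∈ S.Q) :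
    y • a = a ∧ Commute y x ∧ y ∈ loc D x ∧ y ∈ cGrp D x a := by
  have h1 := S.Q_le hy
  exact ⟨h1.2, commute_of_mem_loc h1.1, h1.1, mem_cGrp.2 ⟨h1.2, S.comm_Q y hy⟩⟩

/-- An element of `C` centralising `x` is a product of `Q` and `A`. -/
theorem Ctx.exists_decomp {g : G} (hgC : g ∈ cGrp D x a) (hgx : Commute g x) :
    ∃ y ∈ S.Q, ∃ v ∈ aGrp Ω x, g = y * v := by
  obtain ⟨hga, hgE⟩ := mem_cGrp.1 hgC
  have hgb : x • g • b = g • b := by rw [smul_smul, ← hgx.eq, mul_smul, hxb]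
  have hgba : g • b ≠ a := fun e => hba (MulAction.injective g (e.trans hga.symm))
  obtain ⟨y, hy, hyb⟩ := S.trans _ hgb hgba
  obtain ⟨hya, hyx, -, hyC⟩ := h.Q_props hx hxa hxb hba S hy
  refine ⟨y, hy, y⁻¹ * g, mem_aGrp.2 ⟨?_, hyx.inv_left.mul_left hgx⟩, by group⟩
  refine h.trivial x a b hx hxa hxb hba _ (by rw [mul_smul, hga, inv_smul_eq_iff, hya])
    (by rw [mul_smul, ← hyb, inv_smul_smul])
    (fun p hp => by rw [smul_smul, ← (hyx.inv_left.mul_left hgx).eq, mul_smul (y⁻¹ * g) x, hp]) ?_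
  exact fun d hd => ((mem_cGrp.1 hyC).2 d hd).inv_left.mul_left (hgE d hd)

theorem Ctx.Q_inf_aGrp {y : G} (hy : y ∈ S.Q) (hyA : y ∈ aGrp Ω x) : y = 1 :=
  h.loc_inf_aGrp hx (h.Q_props hx hxa hxb hba S hy).2.2.1 hyA

theorem Ctx.eGrp_le_Q : eGrp D x a ≤ S.Q := (Subgroup.closure_le _).2 S.mem_Q

/-- `Q` is faithful on the fixed points of every `x g`. -/
theorem Ctx.Q_faithful {g : G} (hg : g ∈ eGrp D x a) {y : G} (hy : y ∈ S.Q)
    (hf : FixesAll (Ω := Ω) (x * g) y) : y = 1 := by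
  obtain ⟨hgb, hga, -⟩ := h.bad_mul hx hxa hg
  have hsq : y * y = 1 := h.eq_one_of_fixesAll hx hxa ((h.memOne_iff hx hxa).1 (S.sq y hy)) hgb hga
    fun p hp => by rw [mul_smul, hf p hp, hf p hp]
  exact h.eq_one_of_fixesAll hx hxa ((h.memOne_iff hx hxa).1 (S.sq_one y hy hsq)) hgb hga hf

/-! ## Ties -/

/-- Every `v ∈ A` has its `w ∈ E`. -/
theorem Ctx.exists_tie {g : G} (hg : g ∈ eGrp D x a) {v : G} (hv : v ∈ aGrp Ω x) :
    ∃ w ∈ eGrp D x a, Tie Ω x v g w := by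
  classical
  haveI := h.finite
  obtain ⟨hgb, hgy, hgB⟩ := h.bad_mul hx hxa hg
  obtain ⟨c, hc, hca⟩ := h.exists_other (a := a) hgb
  set y0 := x * g with hy0
  obtain ⟨hgx, hga, hgg, -⟩ := h.eGrp_commute hx hxa hg
  -- the elements of `C` centralising `x g` act semiregularly
  have key : ∀ k : G, k ∈ cGrp D x a → Commute k y0 → k • c = c → FixesAll (Ω := Ω) y0 k := by
    intro k hk hky hkc
    refine h.trivial y0 a c hgb hgy hc hca k (mem_cGrp.1 hk).1 hkc
      (fun p hp => by rw [smul_smul, ← hky.eq, mul_smul, hp]) fun d hd => ?_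
    rw [hgB] at hd
    exact (mem_cGrp.1 hk).2 d hd
  have hQy : ∀ k ∈ S.Q, k ∈ cGrp D x a ∧ Commute k y0 := fun k hk =>
    ⟨(h.Q_props hx hxa hxb hba S hk).2.2.2, (h.Q_props hx hxa hxb hba S hk).2.1.mul_right
      ((h.mem_cGrp' hx hxa (h.Q_props hx hxa hxb hba S hk).2.2.2).2 g hg)⟩
  -- `Q` is transitive on the other fixed points of `x g`
  let X := {p : Ω // y0 • p = p ∧ p ≠ a}
  have hmem : ∀ k ∈ cGrp D x a, Commute k y0 → y0 • k • c = k • c ∧ k • c ≠ a := fun k hk hky =>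
    ⟨by rw [smul_smul, ← hky.eq, mul_smul, hc],
      fun e => hca (MulAction.injective k (e.trans (mem_cGrp.1 hk).1.symm))⟩
  let f : S.Q → X := fun k => ⟨k.1 • c, hmem k.1 (hQy k.1 k.2).1 (hQy k.1 k.2).2⟩
  have hf : Function.Injective f := by
    intro k k' e
    have e' : k.1 • c = k'.1 • c := congrArg Subtype.val e
    have h1 := h.Q_faithful hx hxa hxb hba S hg (mul_mem (inv_mem k'.2) k.2)
      (key _ (mul_mem (inv_mem (hQy k'.1 k'.2).1) (hQy k.1 k.2).1)
        ((hQy k'.1 k'.2).2.inv_left.mul_left (hQy k.1 k.2).2)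
        (by rw [mul_smul, e', inv_smul_smul]))
    exact Subtype.ext (inv_mul_eq_one.1 h1).symm
  have hcardX : Nat.card X = q ^ 2 := by
    have h1 : Nat.card X = Nat.card ↥({p : Ω | y0 • p = p} \ {a}) := rfl
    rw [h1, Nat.card_coe_set_eq,
      Set.ncard_sdiff_singleton_of_mem (show a ∈ {p : Ω | y0 • p = p} from hgy),
      ← Nat.card_coe_set_eq, show Nat.card {p : Ω | y0 • p = p} = q ^ 2 + 1 from
        (h.all y0 a hgb hgy).card_fix, Nat.add_sub_cancel]
  have hbij : Function.Bijective f :=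
    hf.bijective_of_nat_card_le (le_of_eq (hcardX.trans S.card_Q.symm))
  -- `v` agrees with an element `k` of `Q`
  obtain ⟨hvfix, hvx⟩ := mem_aGrp.1 hv
  have hvC := h.aGrp_le_cGrp hx hxa hv
  have hvy : Commute v y0 := hvx.mul_right ((h.mem_cGrp' hx hxa hvC).2 g hg)
  obtain ⟨⟨k, hk⟩, hk'⟩ := hbij.2 ⟨v • c, hmem v hvC hvy⟩
  have hk2 : k • c = v • c := congrArg Subtype.val hk'
  have hkv : FixesAll (Ω := Ω) y0 (k⁻¹ * v) :=
    key _ (mul_mem (inv_mem (hQy k hk).1) hvC) ((hQy k hk).2.inv_left.mul_left hvy)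
      (by rw [mul_smul, ← hk2, inv_smul_smul])
  have hagree : ∀ p, y0 • p = p → k • p = v • p := fun p hp => by
    have := hkv p hp
    rwa [mul_smul, inv_smul_eq_iff, eq_comm] at this
  -- `k` commutes with `Q`
  have hkc : ∀ l ∈ S.Q, Commute k l := by
    intro l hl
    have h1 := h.Q_faithful hx hxa hxb hba S hg (y := (l * k)⁻¹ * (k * l))
      (mul_mem (inv_mem (mul_mem hl hk)) (mul_mem hk hl)) (fun p hp => by
        have hlp : y0 • l • p = l • p := by rw [smul_smul, ← (hQy l hl).2.eq, mul_smul, hp]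
        have hkp : y0 • k • p = k • p := by rw [smul_smul, ← (hQy k hk).2.eq, mul_smul, hp]
        have hvl : Commute v l := h.aGrp_commute_loc hv hx (h.Q_props hx hxa hxb hba S hl).2.2.1
        rw [mul_smul, inv_smul_eq_iff, mul_smul, mul_smul, hagree _ hlp, hagree _ hp,
          smul_smul, hvl.eq, mul_smul])
    exact (inv_mul_eq_one.1 h1).symm
  -- so `k ∈ E`
  have hkE : k ∈ eGrp D x a := by
    rw [← h.memOne_iff hx hxa]
    by_contra hkn
    have hlt : Nat.card (eGrp D x a) * 2 < Nat.card S.Q := by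
      rw [h.card_eGrp hx hxa, S.card_Q, pow_two]
      have := h.eight_le
      nlinarith
    obtain ⟨l, hl, hl1, hl2⟩ : ∃ l ∈ S.Q, l ∉ memOne D x a ∧ k⁻¹ * l ∉ memOne D x a := by
      by_contra hall
      push Not at hall
      have hall' : ∀ l ∈ S.Q, l ∈ eGrp D x a ∨ k⁻¹ * l ∈ eGrp D x a := fun l hl =>
        (em (l ∈ memOne D x a)).imp (h.memOne_iff hx hxa).1 fun hn =>
          (h.memOne_iff hx hxa).1 (hall l hl hn)
      have hle : Nat.card S.Q ≤ Nat.card (eGrp D x a) + Nat.card (eGrp D x a) := by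
        rw [← Nat.card_sum]
        refine Nat.card_le_card_of_injective (fun l : S.Q =>
          if hm : l.1 ∈ eGrp D x a then Sum.inl (⟨l.1, hm⟩ : eGrp D x a)
          else Sum.inr ⟨k⁻¹ * l.1, (hall' l.1 l.2).resolve_left hm⟩) ?_
        intro l l' e
        dsimp only at e
        split_ifs at e with hm hm'
        · exact Subtype.ext (congrArg (fun z : (eGrp D x a) ⊕ (eGrp D x a) => z.elim Subtype.val Subtype.val) e)
        · exact Subtype.ext (mul_left_cancel (congrArg (fun z : (eGrp D x a) ⊕ (eGrp D x a) => z.elim Subtype.val Subtype.val) e))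
      omega
    rcases S.comm_cases k hk l hl (hkc l hl) with h1 | h1 | h1
    exacts [hkn h1, hl1 h1, hl2 h1]
  refine ⟨k, hkE, fun p hp => ?_⟩
  obtain ⟨-, -, hkk, -⟩ := h.eGrp_commute hx hxa hkE
  rw [((h.mem_cGrp' hx hxa hvC).2 k hkE).eq, mul_smul, ← hagree p hp, smul_smul, hkk, one_smul]

theorem Ctx.tie_unique {g : G} (hg : g ∈ eGrp D x a) {v w w' : G} (hw : w ∈ eGrp D x a)
    (hw' : w' ∈ eGrp D x a) (ht : Tie Ω x v g w) (ht' : Tie Ω x v g w') : w = w' := by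
  obtain ⟨hgb, hga, -⟩ := h.bad_mul hx hxa hg
  have h1 := h.eq_one_of_fixesAll hx hxa (mul_mem (inv_mem hw') hw) hgb hga fun p hp => by
    rw [show w'⁻¹ * w = (v * w')⁻¹ * (v * w) by group, mul_smul, ht p hp, inv_smul_eq_iff,
      ht' p hp]
  exact (inv_mul_eq_one.1 h1).symm

/-- The torus is transitive on `E ∖ 1` and centralises `A`: a tie `1` makes `v` trivial. -/
theorem Ctx.tie_one {g : G} (hg : g ∈ eGrp D x a) (hg1 : g ≠ 1) {v : G} (hv : v ∈ aGrp Ω x)
    (ht : Tie Ω x v g 1) : v = 1 := by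
  have hd : g ∈ memCent D x a := ((h.mem_eGrp hx hxa).1 hg).resolve_left hg1
  rw [Tie, mul_one] at ht
  refine h.eq_one_of_cover hx (mem_aGrp.1 hv).1 fun e he hex => ?_
  -- `e` is conjugate to `g` in the group of `x`
  obtain ⟨c, hc⟩ := (h.pre.one e he).exists
  have hxc : x • c = c := h.pre.smul_eq_of_commute he hc hex
  obtain ⟨l, hll, hle⟩ : ∃ l ∈ loc D x, l * g * l⁻¹ = e := by
    rcases eq_or_ne c a with rfl | hca
    · obtain ⟨t, ht', hte⟩ := S.T_trans g hd e ⟨⟨he, hc⟩, hex⟩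
      exact ⟨t, (S.T_le ht').1.1, hte⟩
    · obtain ⟨w, hw, hwx⟩ := h.pre.exists_swap_commute hx.invol hca.symm (Or.inl ⟨hxa, hxc⟩)
      have hwl : w ∈ loc D x := Subgroup.subset_closure ⟨hw.1, hwx⟩
      have he' := CountsB.conj_memCent h.hM (g := w) (show e ∈ memCent D x c from ⟨⟨he, hc⟩, hex⟩)
      rw [hwx.eq, mul_inv_cancel_right, h.pre.memSwap_smul hw] at he'
      obtain ⟨t, ht', hte⟩ := S.T_trans g hd _ he'
      refine ⟨w⁻¹ * t, mul_mem (inv_mem hwl) (S.T_le ht').1.1, ?_⟩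
      rw [mul_inv_rev, inv_inv,
        show w⁻¹ * t * g * (t⁻¹ * w) = w⁻¹ * (t * g * t⁻¹) * w by group, hte]
      group
  have hlx : Commute l x := commute_of_mem_loc hll
  have hlv : Commute v l := h.aGrp_commute_loc hv hx hll
  intro p hp
  have hp' : (x * g) • l⁻¹ • p = l⁻¹ • p := by
    have h1 : x * e = l * (x * g) * l⁻¹ := by rw [← hle, ← mul_assoc, ← mul_assoc, ← hlx.eq]; group
    rw [h1, mul_smul, mul_smul] at hp
    exact (eq_inv_smul_iff.2 hp)
  have h2 := ht _ hp'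
  rw [smul_smul, hlv.inv_right.eq, mul_smul] at h2
  exact MulAction.injective l⁻¹ h2

theorem Ctx.tie_mul {g : G} (hg : g ∈ eGrp D x a) {v v' w w' : G} (hv' : v' ∈ aGrp Ω x)
    (hw : w ∈ eGrp D x a) (ht : Tie Ω x v g w) (ht' : Tie Ω x v' g w') :
    Tie Ω x (v * v') g (w * w') := by
  intro p hp
  have hc : Commute v' w := (h.mem_cGrp' hx hxa (h.aGrp_le_cGrp hx hxa hv')).2 w hw
  rw [show v * v' * (w * w') = v * (v' * w) * w' by group, hc.eq,
    show v * (w * v') * w' = v * w * (v' * w') by group, mul_smul, ht' p hp, ht p hp]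

/-- `A` is elementary abelian of order at most `q`. -/
theorem Ctx.aGrp_elem {v v' : G} (hv : v ∈ aGrp Ω x) (hv' : v' ∈ aGrp Ω x) :
    v * v = 1 ∧ Commute v v' := by
  obtain ⟨d, hd⟩ := CountsB.exists_commute h.hM x hx hxa
  have hdE : d ∈ eGrp D x a := Subgroup.subset_closure hd
  have hd1 : d ≠ 1 := invol_ne_one (h.pre.invol d hd.1.1)
  obtain ⟨w, hw, ht⟩ := h.exists_tie hx hxa hxb hba S hdE hv
  obtain ⟨w', hw', ht'⟩ := h.exists_tie hx hxa hxb hba S hdE hv'
  refine ⟨h.tie_one hx hxa hxb hba S hdE hd1 (mul_mem hv hv) ?_, ?_⟩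
  · have := h.tie_mul hx hxa hxb hba S hdE hv hw ht ht
    rwa [(h.eGrp_commute hx hxa hw).2.2.1] at this
  · have h1 := h.tie_mul hx hxa hxb hba S hdE hv' hw ht ht'
    have h2 := h.tie_mul hx hxa hxb hba S hdE hv hw' ht' ht
    rw [((h.eGrp_commute hx hxa hw').2.2.2 w hw).eq] at h2
    obtain ⟨z, hz, hzt⟩ := h.exists_tie hx hxa hxb hba S hdE
      (inv_mem (mul_mem hv' hv))
    have hww : w * w' ∈ eGrp D x a := mul_mem hw hw'
    have h4 := h.tie_mul hx hxa hxb hba S hdE (mul_mem hv hv') hz hzt h1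
    have h5 := h.tie_mul hx hxa hxb hba S hdE (mul_mem hv' hv) hz hzt h2
    rw [inv_mul_cancel] at h5
    have h6 : z * (w * w') = 1 := h.tie_unique hx hxa hxb hba S hdE (mul_mem hz hww) (one_mem _) h5
      (fun p _ => by rw [mul_one, one_smul])
    rw [h6] at h4
    have h7 := h.tie_one hx hxa hxb hba S hdE hd1
      (mul_mem (inv_mem (mul_mem hv' hv)) (mul_mem hv hv')) h4
    exact (inv_mul_eq_one.1 h7).symm

end Cfsg.Agent.Lib.Crit5.KillTwo
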