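import Cfsg.Agent.Lib.Crit5.KillTwoLarge
import Cfsg.Agent.Lib.Crit5.KillTwoCount

/-!
# The single fixed point criterion, section C2: `r = 1`, conjugates in the Sylow subgroup

For `r = 1` the members at `a` are `E`, so `C` and `E` belong to the point.  A bad involution in a
largest `mGrp` has the same one, and the torus fixes two points only.
See `notes/crit_c2_helper31.md`, section 4.

Owner: helper31.
-/

set_option autoImplicit false
set_option linter.style.haveILetI false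
set_option linter.unusedSectionVars false

namespace Cfsg.Agent.Lib.Crit5.KillTwo

open MulAction Cfsg.Agent.Lib.Involutions.Basic
open Cfsg.Agent.Lib.Crit8 (Action Pre Bad memAt memSwap loc)

universe u

variable {G Ω : Type u} [Group G] [MulAction G Ω] {D : Set G}

theorem gOf_conj (g x y : G) : gOf (g * x * g⁻¹) (g * y * g⁻¹) = g * gOf x y * g⁻¹ := by
  rw [gOf, gOf]; group

variable [Finite G] {q : ℕ} (h : Ctx G Ω D q 1) {x : G} {a b : Ω}
variable (hx : Bad G Ω x) (hxa : x • a = a)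
include h hx hxa

theorem Ctx.eGrp_eq {y : G} (hy : Bad G Ω y) (hya : y • a = a) : eGrp D y a = eGrp D x a := by
  rw [eGrp, eGrp, h.memCent_eq_memAt hy hya, h.memCent_eq_memAt hx hxa]

theorem Ctx.cGrp_eq {y : G} (hy : Bad G Ω y) (hya : y • a = a) : cGrp D y a = cGrp D x a := by
  rw [cGrp, cGrp, h.memCent_eq_memAt hy hya, h.memCent_eq_memAt hx hxa]

theorem Ctx.bad_mem_cGrp {y : G} (hy : Bad G Ω y) (hya : y • a = a) : y ∈ cGrp D x a :=
  h.cGrp_eq hx hxa hy hya ▸ mem_cGrp.2 ⟨hya, fun _ hd => hd.2.symm⟩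

theorem Ctx.conj_memCent_of_fix {g d : G} (hg : g • a = a) (hd : d ∈ memCent D x a) :
    g * d * g⁻¹ ∈ memCent D x a := by
  rw [h.memCent_eq_memAt hx hxa] at hd ⊢
  have := h.pre.conj_mem_memAt (g := g) hd
  rwa [hg] at this

theorem Ctx.conj_eGrp {g f : G} (hg : g • a = a) (hf : f ∈ eGrp D x a) :
    g * f * g⁻¹ ∈ eGrp D x a := by
  rcases (h.mem_eGrp hx hxa).1 hf with rfl | hd
  · rw [mul_one, mul_inv_cancel]; exact one_mem _
  · exact Subgroup.subset_closure (h.conj_memCent_of_fix hx hxa hg hd)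

theorem Ctx.conj_cGrp {g f : G} (hg : g • a = a) (hf : f ∈ cGrp D x a) :
    g * f * g⁻¹ ∈ cGrp D x a := by
  have hg' : g⁻¹ • a = a := inv_smul_eq_iff.2 hg.symm
  refine mem_cGrp.2 ⟨by rw [mul_smul, mul_smul, hg', (mem_cGrp.1 hf).1, hg], fun d hd => ?_⟩
  have h1 := (mem_cGrp.1 hf).2 _ (h.conj_memCent_of_fix hx hxa hg' hd)
  rw [inv_inv] at h1
  show g * f * g⁻¹ * d = d * (g * f * g⁻¹)
  calc g * f * g⁻¹ * d = g * (f * (g⁻¹ * d * g)) * g⁻¹ := by group
    _ = g * (g⁻¹ * d * g * f) * g⁻¹ := by rw [h1.eq]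
    _ = _ := by group

theorem Ctx.bad_conj (g : G) : Bad G Ω (g * x * g⁻¹) := by
  obtain ⟨c, c', hne, hc, hc'⟩ := hx.two
  exact ⟨(orderOf_conj_eq g x).trans hx.invol, g • c, g • c',
    fun e => hne (MulAction.injective g e),
    by rw [mul_smul, mul_smul, inv_smul_smul, hc], by rw [mul_smul, mul_smul, inv_smul_smul, hc']⟩

theorem Ctx.bad_of_conj {g : G} (hg : g • a = a) :
    Bad G Ω (g * x * g⁻¹) ∧ (g * x * g⁻¹) • a = a :=
  ⟨h.bad_conj hx hxa g, by rw [mul_smul, mul_smul, inv_smul_eq_iff.2 hg.symm, hxa, hg]⟩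

theorem Ctx.conj_mGrp {g y : G} (hg : g • a = a) (hy : y ∈ mGrp D x a) :
    g * y * g⁻¹ ∈ mGrp D (g * x * g⁻¹) a := by
  obtain ⟨hb, hba'⟩ := h.bad_of_conj hx hxa hg
  rw [h.mem_mGrp hb hba', h.cGrp_eq hx hxa hb hba', h.eGrp_eq hx hxa hb hba', gOf_conj]
  exact ⟨h.conj_cGrp hx hxa hg ((h.mem_mGrp hx hxa).1 hy).1,
    h.conj_eGrp hx hxa hg ((h.mem_mGrp hx hxa).1 hy).2⟩

omit hxa in
theorem Ctx.card_aGrp_conj (g : G) :
    Nat.card (aGrp Ω (g * x * g⁻¹)) = Nat.card (aGrp Ω x) := by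
  have key : ∀ k z v : G, v ∈ aGrp Ω z → k * v * k⁻¹ ∈ aGrp Ω (k * z * k⁻¹) := fun k z v hv => by
    refine mem_aGrp.2 ⟨fun p hp => ?_, ?_⟩
    · rw [mul_smul, mul_smul, ← eq_inv_smul_iff] at hp
      rw [mul_smul, mul_smul, (mem_aGrp.1 hv).1 _ hp, smul_inv_smul]
    · show k * v * k⁻¹ * (k * z * k⁻¹) = k * z * k⁻¹ * (k * v * k⁻¹)
      calc k * v * k⁻¹ * (k * z * k⁻¹) = k * (v * z) * k⁻¹ := by group
        _ = k * (z * v) * k⁻¹ := by rw [(mem_aGrp.1 hv).2.eq]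
        _ = _ := by group
  refine le_antisymm (Nat.card_le_card_of_injective
    (fun v => ⟨g⁻¹ * v.1 * g⁻¹⁻¹, by
      have := key g⁻¹ _ v.1 v.2
      rwa [show g⁻¹ * (g * x * g⁻¹) * g⁻¹⁻¹ = x by group] at this⟩) fun v w e => Subtype.ext ?_)
    (Nat.card_le_card_of_injective (fun v => ⟨g * v.1 * g⁻¹, key g _ v.1 v.2⟩)
      fun v w e => Subtype.ext ?_)
  · exact mul_left_cancel (mul_right_cancel (congrArg Subtype.val e))
  · exact mul_left_cancel (mul_right_cancel (congrArg Subtype.val e))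

/-- A conjugate fixing `a` is a conjugate by an element fixing `a`. -/
theorem Ctx.exists_conj_fix {g : G} (hg : (g * x * g⁻¹) • a = a) :
    ∃ g' : G, g' • a = a ∧ g' * x * g'⁻¹ = g * x * g⁻¹ := by
  rcases eq_or_ne (g • a) a with hga | hga
  · exact ⟨g, hga, rfl⟩
  have hx' : x • g⁻¹ • a = g⁻¹ • a := by
    rw [mul_smul, mul_smul, ← eq_inv_smul_iff] at hg
    exact hg
  have hne : a ≠ g⁻¹ • a := fun e => hga (eq_inv_smul_iff.1 e)
  obtain ⟨w, hw, hwx⟩ := h.pre.exists_swap_commute hx.invol hne (Or.inl ⟨hxa, hx'⟩)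
  refine ⟨g * w, by rw [mul_smul, hw.2, smul_inv_smul], ?_⟩
  rw [mul_inv_rev, show g * w * x * (w⁻¹ * g⁻¹) = g * (w * x * w⁻¹) * g⁻¹ by group, hwx.eq,
    mul_inv_cancel_right]

variable (hxb : x • b = b) (hba : b ≠ a) (S : Sz D x a b q)
include hxb hba S

theorem Ctx.gOf_mem_of_invol {z s : G} (hz : z ∈ mGrp D x a) (hzz : z * z = 1)
    (hs : s ∈ mGrp D x a) : gOf z s ∈ eGrp D x a := by
  by_cases hel : IsElem D x a
  · have hc := h.commutator_mem hx hxa hxb hba S hel hs hz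
    have e : gOf z s = z * (s * z * s⁻¹ * z⁻¹) * z := by rw [gOf]; group
    rw [e, (h.E_central hx hxa hxb hba S hz hc).eq, mul_assoc, hzz, mul_one]
    exact hc
  · obtain ⟨v, hv, e, he, rfl⟩ := h.exotic_invol hx hxa hxb hba S hel hz hzz
    obtain ⟨w, hw, hsv, -⟩ := h.conj_aGrp hx hxa hxb hba S hs hv
    have e1 : gOf (v * e) s = w := by
      rw [gOf, show s * (v * e) * s⁻¹ = s * v * s⁻¹ * (s * e * s⁻¹) by group,
        (h.E_central hx hxa hxb hba S hs he).eq, mul_inv_cancel_right, hsv, mul_assoc v w e,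
        ((h.eGrp_commute hx hxa hw).2.2.2 e he).eq]
      calc v * e * (v * (e * w)) = v * (e * v) * (e * w) := by group
        _ = v * (v * e) * (e * w) := by
            rw [((h.mem_cGrp' hx hxa (h.aGrp_le_cGrp hx hxa hv)).2 e he).eq]
        _ = v * v * (e * e) * w := by group
        _ = w := by
            rw [(h.aGrp_elem hx hxa hxb hba S hv hv).1, (h.eGrp_commute hx hxa he).2.2.1, one_mul,
              one_mul]
    rwa [e1]

/-- A bad involution in a largest `mGrp` has the same one. -/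
theorem Ctx.top_eq (htop : IsTop D x a) {y : G} (hy : Bad G Ω y) (hym : y ∈ mGrp D x a) :
    mGrp D y a = mGrp D x a ∧ Nat.card (aGrp Ω y) = Nat.card (aGrp Ω x) ∧ IsTop D y a := by
  have hya : y • a = a := h.mGrp_le hx hxa hym
  obtain ⟨c, hc, hca⟩ := h.exists_other (a := a) hy
  obtain ⟨Sy⟩ := h.sz y a c hy hya hc hca
  have hle : mGrp D x a ≤ mGrp D y a := fun s hs => by
    rw [h.mem_mGrp hy hya, h.cGrp_eq hx hxa hy hya, h.eGrp_eq hx hxa hy hya]
    exact ⟨((h.mem_mGrp hx hxa).1 hs).1,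
      h.gOf_mem_of_invol hx hxa hxb hba S hym (invol_mul_self hy.invol) hs⟩
  have he := Subgroup.eq_of_le_of_card_ge hle
    (htop _ (h.mGrp_pGroup hy hya hc hca Sy) (h.mGrp_le hy hya))
  refine ⟨he.symm, ?_, fun P hP hPa => he ▸ htop P hP hPa⟩
  have h1 := h.card_mGrp hy hya hc hca Sy
  rw [← he, h.card_mGrp hx hxa hxb hba S] at h1
  exact (Nat.eq_of_mul_eq_mul_left (pow_pos (by have := h.eight_le; omega) 3) h1).symm

/-- An element fixing `a` conjugating `x` into a largest `mGrp` normalises it. -/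
theorem Ctx.norm_of_fus (htop : IsTop D x a) {g : G} (hga : g • a = a)
    (hg : g * x * g⁻¹ ∈ mGrp D x a) : g ∈ Subgroup.normalizer (mGrp D x a : Set G) := by
  have h1 := (h.top_eq hx hxa hxb hba S htop (h.bad_conj hx hxa g) hg).1
  refine Subgroup.mem_normalizer_iff.2 fun y => ⟨fun hy => h1 ▸ h.conj_mGrp hx hxa hga hy,
    fun hy => ?_⟩
  obtain ⟨hb, hb'⟩ := h.bad_of_conj hx hxa hga
  rw [← h1] at hy
  have := h.conj_mGrp hb hb' (g := g⁻¹) (inv_smul_eq_iff.2 hga.symm) hy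
  rwa [show g⁻¹ * (g * x * g⁻¹) * g⁻¹⁻¹ = x by group,
    show g⁻¹ * (g * y * g⁻¹) * g⁻¹⁻¹ = y by group] at this

/-- For `v ∈ A ∖ 1` every `v e` is a conjugate of `v` in `mGrp`. -/
theorem Ctx.exists_conj_tie {v : G} (hv : v ∈ aGrp Ω x) (hv1 : v ≠ 1) {e : G}
    (he : e ∈ eGrp D x a) : ∃ y ∈ mGrp D x a, y * v * y⁻¹ = v * e ∧ Tie Ω x v (gOf x y) e := by
  classical
  choose y hy hyg using fun g : eGrp D x a => h.exists_gOf hx hxa g.2
  choose w hw hwc hwt using fun g : eGrp D x a => h.conj_aGrp hx hxa hxb hba S (hy g) hv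
  have hinj : Function.Injective (fun g : eGrp D x a => (⟨w g, hw g⟩ : eGrp D x a)) := by
    intro g g' e'
    have e1 : w g = w g' := congrArg Subtype.val e'
    have hm : (y g')⁻¹ * y g ∈ mGrp D x a := mul_mem (inv_mem (hy g')) (hy g)
    obtain ⟨w', hw', hc', ht'⟩ := h.conj_aGrp hx hxa hxb hba S hm hv
    have h2 : v * w' = v * 1 := by
      have h3 : y g' * v * (y g')⁻¹ = v * w g := by rw [hwc g', e1]
      rw [← hc', mul_one]
      calc (y g')⁻¹ * y g * v * ((y g')⁻¹ * y g)⁻¹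
          = (y g')⁻¹ * (y g * v * (y g)⁻¹) * y g' := by group
        _ = (y g')⁻¹ * (y g' * v * (y g')⁻¹) * y g' := by rw [h3, hwc g]
        _ = v := by group
    rw [mul_left_cancel h2] at ht'
    have hgg : gOf x ((y g')⁻¹ * y g) = 1 := by
      by_contra hne
      exact hv1 (h.tie_one hx hxa hxb hba S ((h.mem_mGrp hx hxa).1 hm).2 hne hv ht')
    have h4 := h.gOf_mul hx hxa (hy g') hm
    rw [mul_inv_cancel_left, hgg, mul_one, hyg, hyg] at h4
    exact Subtype.ext h4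
  obtain ⟨g, hg⟩ := (Finite.injective_iff_surjective.1 hinj) ⟨e, he⟩
  have e2 : w g = e := congrArg Subtype.val hg
  refine ⟨y g, hy g, ?_, ?_⟩
  · rw [hwc g, e2]
  · rw [← e2]; exact hwt g

omit hba in
theorem Ctx.T_props {t : G} (ht : t ∈ S.T) :
    t • a = a ∧ t • b = b ∧ Commute t x ∧ t ∈ loc D x :=
  ⟨(S.T_le ht).1.2, (S.T_le ht).2, commute_of_mem_loc (S.T_le ht).1.1, (S.T_le ht).1.1⟩

/-- The torus is free on the members at `a`. -/
theorem Ctx.T_free {t : G} (ht : t ∈ S.T) {d : G} (hd : d ∈ memCent D x a) (hc : Commute t d) :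
    t = 1 := by
  classical
  let f : S.T → memCent D x a := fun s => ⟨s * d * (s : G)⁻¹,
    h.conj_memCent_of_fix hx hxa (h.T_props hx hxa hxb S s.2).1 hd⟩
  have hsurj : Function.Surjective f := fun e => by
    obtain ⟨s, hs, he⟩ := S.T_trans d hd e e.2
    exact ⟨⟨s, hs⟩, Subtype.ext he⟩
  have hcard : Nat.card S.T ≤ Nat.card (memCent D x a) := by
    rw [S.card_T]
    have := (h.all x a hx hxa).card_cent
    omega
  have h1 : (⟨t, ht⟩ : S.T) = 1 := (hsurj.bijective_of_nat_card_le hcard).1 (Subtype.ext (by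
    show t * d * t⁻¹ = 1 * d * 1⁻¹
    rw [hc.eq, mul_inv_cancel_right, one_mul, inv_one, mul_one]))
  exact congrArg Subtype.val h1

/-- A torus element other than `1` fixes `a` and `b` only. -/
theorem Ctx.T_fix_all {t : G} (ht : t ∈ S.T) (ht1 : t ≠ 1) {c : Ω} (hc : t • c = c) :
    c = a ∨ c = b := by
  classical
  rcases eq_or_ne (x • c) c with hxc | hxc
  · exact S.T_fix t ht ht1 c hxc hc
  exfalso
  obtain ⟨hta, htb, htx, htl⟩ := h.T_props hx hxa hxb S ht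
  obtain ⟨w, hw, hwx⟩ := h.pre.exists_swap_commute hx.invol hxc.symm (Or.inr rfl)
  set w' := t * w * t⁻¹ with hw'def
  have hwc : w • x • c = c := h.pre.memSwap_smul hw
  have hw'D : w' ∈ D := h.pre.conj t w hw.1
  have hw'x : Commute w' x := (htx.mul_left hwx).mul_left htx.inv_left
  have hw'c : w' • c = x • c := by
    rw [hw'def, mul_smul, mul_smul, inv_smul_eq_iff.2 hc.symm, hw.2, smul_smul, htx.eq, mul_smul,
      hc]
  -- `x w` and `x w'` fix `c` and `x • c`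
  have hfix : ∀ v ∈ D, Commute v x → v • c = x • c →
      Bad G Ω (x * v) ∧ (x * v) • c = c ∧ (x * v) • x • c = x • c := by
    intro v hvD hvx hvc
    haveI := h.faith
    refine ⟨h.pre.bad_mul hx hvD hvx, ?_, ?_⟩
    · rw [mul_smul, hvc, smul_smul, invol_mul_self hx.invol, one_smul]
    · rw [smul_smul, mul_assoc, hvx.eq, ← mul_assoc, invol_mul_self hx.invol, one_mul, hvc]
  obtain ⟨hb1, hc1, hc1'⟩ := hfix w hw.1 hwx hw.2
  obtain ⟨hb2, hc2, hc2'⟩ := hfix w' hw'D hw'x hw'c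
  have hF := h.fix_eq_of_two hb1 hb2 hc1 hc1' hc2 hc2' hxc.symm
  obtain ⟨p, hp⟩ := (h.pre.one w hw.1).exists
  have hxp : x • p = p := h.pre.smul_eq_of_commute hw.1 hp hwx
  have hw'p : w' • p = p := by
    have h1 := (hF p).1 (by rw [mul_smul, hp, hxp])
    rw [mul_smul] at h1
    exact MulAction.injective x (h1.trans hxp.symm)
  -- so `w` and `w'` are the same member at a point the torus fixes
  have htp : t • p = p := h.pre.eq_of_fix hw'D (by
    rw [hw'def, mul_smul, mul_smul, inv_smul_smul, hp]) hw'p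
  have hww : w' = w := by
    have he : w * w' ∈ eGrp D x p :=
      mul_mem (Subgroup.subset_closure ⟨⟨hw.1, hp⟩, hwx⟩)
        (Subgroup.subset_closure ⟨⟨hw'D, hw'p⟩, hw'x⟩)
    rcases (h.mem_eGrp hx hxp).1 he with e | e
    · rw [eq_inv_of_mul_eq_one_right e, invol_inv (h.pre.invol w hw.1)]
    · exact absurd (h.pre.eq_of_fix e.1.1 (by rw [mul_smul, hw'c, hwc]) e.1.2)
        fun e' => hxc (by rw [e', hxp])
  have htw : Commute t w := mul_inv_eq_iff_eq_mul.1 hww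
  rcases S.T_fix t ht ht1 p hxp htp with rfl | rfl
  · exact ht1 (h.T_free hx hxa hxb hba S ht ⟨⟨hw.1, hp⟩, hwx⟩ htw)
  -- at `b` use a swapper
  obtain ⟨w0, hw0, hw0x⟩ := h.pre.exists_swap_commute hx.invol hba.symm (Or.inl ⟨hxa, hxb⟩)
  have hw0inv : w0⁻¹ = w0 := invol_inv (h.pre.invol w0 hw0.1)
  have hw0l : w0 ∈ loc D x := Subgroup.subset_closure ⟨hw0.1, hw0x⟩
  have hts : w0 * t * w0⁻¹ ∈ S.T := S.stab _ (mul_mem (mul_mem hw0l htl) (inv_mem hw0l))
    (by rw [hw0inv, mul_smul, mul_smul, hw0.2, htb, h.pre.memSwap_smul hw0])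
    (by rw [hw0inv, mul_smul, mul_smul, h.pre.memSwap_smul hw0, hta, hw0.2])
  have hd : w0 * w * w0⁻¹ ∈ memCent D x a := by
    have h1 := CountsB.conj_memCent h.hM (g := w0) (show w ∈ memCent D x p from ⟨⟨hw.1, hp⟩, hwx⟩)
    rwa [hw0x.eq, mul_inv_cancel_right, h.pre.memSwap_smul hw0] at h1
  have h2 : Commute (w0 * t * w0⁻¹) (w0 * w * w0⁻¹) := by
    show w0 * t * w0⁻¹ * (w0 * w * w0⁻¹) = w0 * w * w0⁻¹ * (w0 * t * w0⁻¹)
    calc w0 * t * w0⁻¹ * (w0 * w * w0⁻¹) = w0 * (t * w) * w0⁻¹ := by group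
      _ = w0 * (w * t) * w0⁻¹ := by rw [htw.eq]
      _ = _ := by group
  have h3 := h.T_free hx hxa hxb hba S hts hd h2
  rw [conj_eq_one_iff] at h3
  exact ht1 h3

/-- The torus is free on the cosets of `E` in `Q`. -/
theorem Ctx.T_free_top {t : G} (ht : t ∈ S.T) (ht1 : t ≠ 1) {k : G} (hk : k ∈ S.Q)
    (hfix : (t * k * t⁻¹)⁻¹ * k ∈ eGrp D x a) : k ∈ eGrp D x a := by
  -- squaring is injective on the cosets and commutes with the torus
  have hkk : k * k ∈ eGrp D x a := (h.memOne_iff hx hxa).1 (S.sq k hk)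
  have htk : t * k * t⁻¹ ∈ S.Q := S.T_norm t ht k hk
  have hsq : t * (k * k) * t⁻¹ = k * k := by
    set f := (t * k * t⁻¹)⁻¹ * k with hf
    have hk' : k = t * k * t⁻¹ * f := by rw [hf, mul_inv_cancel_left]
    have hcf : Commute f (t * k * t⁻¹) :=
      (h.E_central hx hxa hxb hba S (h.Q_le_mGrp hx hxa hxb hba S htk) hfix).symm
    calc t * (k * k) * t⁻¹ = t * k * t⁻¹ * (t * k * t⁻¹) * (f * f) := by
          rw [(h.eGrp_commute hx hxa hfix).2.2.1, mul_one]; group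
      _ = t * k * t⁻¹ * (t * k * t⁻¹ * f) * f := by group
      _ = t * k * t⁻¹ * (f * (t * k * t⁻¹)) * f := by rw [hcf.eq]
      _ = (t * k * t⁻¹ * f) * (t * k * t⁻¹ * f) := by group
      _ = k * k := by rw [← hk']
  rcases (h.mem_eGrp hx hxa).1 hkk with e | e
  · exact (h.memOne_iff hx hxa).1 (S.sq_one k hk e)
  · exact absurd (h.T_free hx hxa hxb hba S ht e (mul_inv_eq_iff_eq_mul.1 hsq)) ht1

/-- A coset of `E` fixed by the torus lies in `A E`. -/
theorem Ctx.T_fix_coset {t : G} (ht : t ∈ S.T) (ht1 : t ≠ 1) {y : G} (hy : y ∈ mGrp D x a)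
    (hfix : (t * y * t⁻¹)⁻¹ * y ∈ eGrp D x a) :
    ∃ v ∈ aGrp Ω x, ∃ e ∈ eGrp D x a, y = v * e := by
  have hxx := invol_mul_self hx.invol
  obtain ⟨htM, htg, -⟩ := h.T_conj hx hxa hxb hba S ht hy
  have hg1 : gOf x y = 1 := by
    have hf : gOf x ((t * y * t⁻¹)⁻¹ * y) = 1 :=
      (gOf_eq_one_iff hxx).2 (h.eGrp_commute hx hxa hfix).1
    have h1 := h.gOf_mul hx hxa htM (h.eGrp_le_mGrp hx hxa hfix)
    rw [mul_inv_cancel_left, hf, mul_one, htg] at h1
    by_contra hne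
    exact ht1 (h.T_free hx hxa hxb hba S ht
      (((h.mem_eGrp hx hxa).1 ((h.mem_mGrp hx hxa).1 hy).2).resolve_left hne)
      (mul_inv_eq_iff_eq_mul.1 h1.symm))
  obtain ⟨p, hp, v, hv, rfl⟩ := h.exists_decomp hx hxa hxb hba S ((h.mem_mGrp hx hxa).1 hy).1
    ((gOf_eq_one_iff hxx).1 hg1)
  have htv : Commute v t := h.aGrp_commute_loc hv hx (h.T_props hx hxa hxb S ht).2.2.2
  have e1 : t * (p * v) * t⁻¹ = t * p * t⁻¹ * v := by
    calc t * (p * v) * t⁻¹ = t * p * t⁻¹ * (t * v * t⁻¹) := by group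
      _ = t * p * t⁻¹ * v := by rw [← htv.eq, mul_inv_cancel_right]
  have h2 : (t * p * t⁻¹)⁻¹ * p ∈ eGrp D x a := by
    have hvc := (h.mem_cGrp' hx hxa (h.aGrp_le_cGrp hx hxa hv)).2 _ hfix
    have e2 : (t * p * t⁻¹)⁻¹ * p = v * ((t * (p * v) * t⁻¹)⁻¹ * (p * v)) * v⁻¹ := by
      rw [e1]; group
    rw [e2, hvc.eq, mul_inv_cancel_right]
    exact hfix
  have hpE := h.T_free_top hx hxa hxb hba S ht ht1 hp h2
  exact ⟨v, hv, p, hpE, ((h.mem_cGrp' hx hxa (h.aGrp_le_cGrp hx hxa hv)).2 p hpE).eq.symm⟩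

end Cfsg.Agent.Lib.Crit5.KillTwo
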