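import Cfsg.Agent.Lib.Crit5.KillTwoBase
import Cfsg.Agent.Lib.Crit5.Shape.TwoGroup
import Cfsg.Agent.Lib.BenderSuzuki.Coords.Semi

/-!
# The single fixed point criterion, section C2: the shape facts

`szShape : PropSzShape` from section S: the group of a bad involution of type `2` is faithful on
the fixed points, is `Sz(q)` there, and a symmetry fixing two points and centralising the members at
one of them is trivial.
-/

set_option autoImplicit false
set_option linter.style.haveILetI false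

namespace Cfsg.Agent.Lib.Crit5.KillTwo

open MulAction Cfsg.Agent.Lib.Involutions.Basic
open Cfsg.Agent.Lib.Crit8 (Pre Bad memAt memSwap loc)
open Cfsg.Agent.Lib.Crit5.Shape
open Cfsg.Agent.Lib.BenderSuzuki (invs qNum kSet)
open Cfsg.Agent.Lib.RankOne.Basic

universe u v

/-! ## Facts on models -/

section model

variable {G : Type u} {Ω : Type v} [Group G] [MulAction G Ω] [Finite G] {a : Ω} {t : G}
  {Q : Subgroup G} (h : Model G Ω a t Q)
include h

/-- A `2`-element fixing `a` lies in `Q`. -/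
theorem mem_Q_of_two {x : G} (hx : x • a = a) {i : ℕ} (hi : x ^ 2 ^ i = 1) : x ∈ Q := by
  have hS := h.hyp.setup
  obtain ⟨q, hq, d, hd, rfl⟩ := exists_Q_D hS hx
  have hpow : ∀ n : ℕ, ∃ q' ∈ Q, (q * d) ^ n = q' * d ^ n := by
    intro n
    induction n with
    | zero => exact ⟨1, Q.one_mem, by simp⟩
    | succ n ih =>
      obtain ⟨q', hq', e'⟩ := ih
      refine ⟨q' * (d ^ n * q * (d ^ n)⁻¹), Q.mul_mem hq'
        (twoStab_norm hS ((twoStab G a t).pow_mem hd n) hq), ?_⟩
      rw [pow_succ, e', pow_succ]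
      group
  obtain ⟨q', hq', e'⟩ := hpow (2 ^ i)
  rw [hi] at e'
  have hd2 : d ^ 2 ^ i = 1 :=
    (Q_D_unique hS Q.one_mem hq' (twoStab G a t).one_mem ((twoStab G a t).pow_mem hd _)
      (by rw [one_mul]; exact e')).2.symm
  have ho : Odd (orderOf d) := by
    refine hS.odd_card.of_dvd_nat ?_
    rw [← Subgroup.orderOf_mk d hd]
    exact orderOf_dvd_natCard _
  have hd1 : d = 1 := orderOf_eq_one_iff.1 (Nat.eq_one_of_dvd_coprimes
    ((Nat.coprime_two_right.2 ho).pow_right i) dvd_rfl (orderOf_dvd_of_pow_eq_one hd2))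
  rw [hd1, mul_one]
  exact hq

/-- For `Sz(q)` the two-point stabiliser is the torus. -/
theorem twoStab_eq_kSet (he : Nat.card Q = qNum G a ^ 2) :
    (twoStab G a t : Set G) = kSet a t := by
  have h4 := h.four_le
  rcases h.cases_top with ⟨hc, -⟩ | ⟨-, hK, -⟩ | ⟨hc, -⟩
  · rw [he] at hc; nlinarith
  · rwa [top_inf_eq] at hK
  · rw [he] at hc; nlinarith [Nat.mul_le_mul h4 h4]

/-- Elements of order two only: `|Q| = q`. -/
theorem sq_eq_one_of_card (he : Nat.card Q = qNum G a) {x : G} (hx : x ∈ Q) : x * x = 1 := by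
  have hinj : Function.Injective (fun z : {z : Q // z * z = 1} => (z : Q)) := Subtype.val_injective
  obtain ⟨w, hw⟩ := ((Nat.bijective_iff_injective_and_card _).2
    ⟨hinj, by rw [he, BenderSuzuki.qNum_eq_card h.hyp]⟩).2 ⟨x, hx⟩
  rw [← show ((w : Q) : G) = x from congrArg Subtype.val hw]
  exact congrArg Subtype.val w.2

theorem qNum_eq_of_invs : Nat.card (invs G a) + 1 = qNum G a := rfl

end model

/-! ## Bad involutions of type two -/

variable {G Ω : Type u} [Group G] [MulAction G Ω] {D : Set G}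

/-- `x` has `q - 1` commuting members at its fixed point `a` and fixes `q² + 1` points. -/
structure Std (D : Set G) (x : G) (a : Ω) (q : ℕ) : Prop where
  bad : Bad G Ω x
  fixes : x • a = a
  four_le : 4 ≤ q
  comm : ∀ d ∈ memCent D x a, ∀ e ∈ memCent D x a, Commute d e
  card_cent : Nat.card (memCent D x a) + 1 = q
  card_fix : Nat.card {p : Ω // x • p = p} = q ^ 2 + 1

variable [Finite G] (hM : Min G Ω D) {x : G} {a : Ω} {q : ℕ}
include hM

theorem Std.of_counts {r : ℕ} (hx : Bad G Ω x) (hc : Counts D x a q 2 r) : Std D x a q :=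
  ⟨hx, hc.fixes, hc.four_le, hc.commute, hc.card_cent, hc.card_fix⟩

/-- The hypotheses move along conjugation. -/
theorem Std.conj (hs : Std D x a q) (g : G) : Std D (g * x * g⁻¹) (g • a) q := by
  refine ⟨⟨(orderOf_conj_eq g x).trans hs.bad.invol, ?_⟩, ?_, hs.four_le, fun d hd e he => ?_, ?_, ?_⟩
  · obtain ⟨c, c', hne, hc, hc'⟩ := hs.bad.two
    exact ⟨g • c, g • c', fun e => hne (smul_left_cancel g e),
      by rw [mul_smul, mul_smul, inv_smul_smul, hc],
      by rw [mul_smul, mul_smul, inv_smul_smul, hc']⟩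
  · rw [mul_smul, mul_smul, inv_smul_smul, hs.fixes]
  · have key : ∀ f ∈ memCent D (g * x * g⁻¹) (g • a), g⁻¹ * f * g ∈ memCent D x a := by
      intro f hf
      have h := CountsB.conj_memCent hM (g := g⁻¹) hf
      rwa [inv_smul_smul, show g⁻¹ * (g * x * g⁻¹) * g⁻¹⁻¹ = x by group, inv_inv] at h
    have h1 := hs.comm _ (key d hd) _ (key e he)
    calc d * e = g * ((g⁻¹ * d * g) * (g⁻¹ * e * g)) * g⁻¹ := by group
      _ = g * ((g⁻¹ * e * g) * (g⁻¹ * d * g)) * g⁻¹ := by rw [h1.eq]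
      _ = e * d := by group
  · rw [CountsB.card_memCent_conj hM, hs.card_cent]
  · rw [← hs.card_fix]
    refine Nat.card_congr (Equiv.subtypeEquiv (MulAction.toPerm g⁻¹) fun p => ?_)
    show (g * x * g⁻¹) • p = p ↔ x • g⁻¹ • p = g⁻¹ • p
    rw [mul_smul, mul_smul, ← eq_inv_smul_iff]

/-- The hypotheses hold at every fixed point. -/
theorem Std.at_point (hs : Std D x a q) {c : Ω} (hc : x • c = c) : Std D x c q := by
  rcases eq_or_ne a c with rfl | hne
  · exact hs
  obtain ⟨f, hf, hfx⟩ := hM.act.toPre.exists_swap_commute hs.bad.invol hne (Or.inl ⟨hs.fixes, hc⟩)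
  have := hs.conj hM f
  rwa [hf.2, hfx.eq, mul_inv_cancel_right] at this

theorem Std.exists_ne (hs : Std D x a q) (d : G) : ∃ g ∈ memCent D x a, g ≠ d := by
  by_contra hall
  push Not at hall
  have h1 : (memCent D x a).ncard ≤ 1 :=
    Set.ncard_le_one_iff_subsingleton.2 fun y hy z hz => (hall y hy).trans (hall z hz).symm
  rw [← Nat.card_coe_set_eq] at h1
  have := hs.card_cent
  have := hs.four_le
  omega

/-- The product with a member centralising it is conjugate to `x` and has the same members. -/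
theorem Std.mul (hs : Std D x a q) {d : G} (hd : d ∈ memCent D x a) :
    Std D (x * d) a q ∧ memCent D (x * d) a = memCent D x a := by
  haveI := hM.faithful
  have hP := hM.act.toPre
  obtain ⟨g, hg, hgd⟩ := hs.exists_ne hM d
  have hgd' : g * d ∈ memCent D x a :=
    ⟨⟨hM.act.mul_mem_D hg.1.1 hd.1.1 hgd (hs.comm g hg d hd), by rw [mul_smul, hd.1.2, hg.1.2]⟩,
      hg.2.mul_left hd.2⟩
  have hv : Bad G Ω (x * g) := hP.bad_mul hs.bad hg.1.1 hg.2
  obtain ⟨s, hsv, hs'⟩ := hP.loc_transitive hv hg.1.1 (hg.2.mul_right (Commute.refl g)) hgd'.1.1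
    (hgd'.2.mul_right (hs.comm _ hgd' g hg))
  have hsa : s • a = a := by
    refine hP.eq_of_fix (x := s • a) hgd'.1.1 ?_ hgd'.1.2
    rw [← hs', mul_smul, mul_smul, inv_smul_smul, hg.1.2]
  have hconj : s * x * s⁻¹ = x * d := by
    calc s * x * s⁻¹ = s * (x * g) * s⁻¹ * (s * g * s⁻¹)⁻¹ := by group
      _ = x * g * (g * d)⁻¹ := by rw [hsv.eq, mul_inv_cancel_right, hs']
      _ = x * d⁻¹ := by rw [(hs.comm g hg d hd).eq]; group
      _ = x * d := by rw [invol_inv (hP.invol d hd.1.1)]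
  have h1 := hs.conj hM s
  rw [hconj, hsa] at h1
  have hsub : memCent D x a ⊆ memCent D (x * d) a := fun f hf =>
    ⟨hf.1, hf.2.mul_right (hs.comm f hf d hd)⟩
  refine ⟨h1, (Set.eq_of_subset_of_ncard_le hsub ?_).symm⟩
  rw [← Nat.card_coe_set_eq, ← Nat.card_coe_set_eq]
  have := h1.card_cent
  have := hs.card_cent
  omega

omit hM in
theorem conj_mem_loc (hP : Pre G Ω D) {g : G} (hgx : Commute g x) {y : G} (hy : y ∈ loc D x) :
    g * y * g⁻¹ ∈ loc D x := by
  induction hy using Subgroup.closure_induction with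
  | mem y hy =>
    exact Subgroup.subset_closure ⟨hP.conj g y hy.1, (hgx.mul_left hy.2).mul_left hgx.inv_left⟩
  | one => simp [Subgroup.one_mem]
  | mul y z _ _ hy hz =>
    rw [show g * (y * z) * g⁻¹ = g * y * g⁻¹ * (g * z * g⁻¹) by group]
    exact mul_mem hy hz
  | inv y _ hy =>
    rw [show g * y⁻¹ * g⁻¹ = (g * y * g⁻¹)⁻¹ by group]
    exact inv_mem hy

omit hM in
theorem mem_normalizer_loc (hP : Pre G Ω D) {g : G} (hgx : Commute g x) :
    g ∈ Subgroup.normalizer (loc D x : Set G) := by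
  refine Subgroup.mem_normalizer_iff.2 fun y => ⟨fun hy => conj_mem_loc hP hgx hy, fun hy => ?_⟩
  have := conj_mem_loc hP hgx.inv_left hy
  simpa [mul_assoc] using this

/-- What section S says on the group of `x`. -/
theorem Std.shape (hs : Std D x a q) :
    Loc D (loc D x) a ∧ Four (loc D x) ∧ qOf (loc D x) a = q ∧
      (∀ p : Ω, p ∈ orbit (loc D x) a ↔ x • p = p) ∧
      Nat.card (orbit (loc D x) a) = q ^ 2 + 1 := by
  have hP := hM.act.toPre
  have hY := loc_bad hM.act hs.bad hs.fixes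
  have horb : ∀ p : Ω, p ∈ orbit (loc D x) a ↔ x • p = p :=
    fun p => orbit_loc hP hs.bad hs.fixes
  have hcomm : ∀ d ∈ memIn D (loc D x) a, ∀ e ∈ memIn D (loc D x) a, Commute d e := by
    rw [memIn_loc]; exact hs.comm
  refine ⟨hY, ?_, ?_, horb, (Nat.card_congr (Equiv.subtypeEquivRight horb)).trans hs.card_fix⟩
  · obtain ⟨d, hd, -⟩ := hs.exists_ne hM 1
    obtain ⟨e, he, hne⟩ := hs.exists_ne hM d
    rw [← memIn_loc] at hd he
    exact ⟨⟨d, hd.2⟩, ⟨e, he.2⟩, fun h => invol_ne_one (hP.invol d hd.1.1) (congrArg Subtype.val h),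
      fun h => invol_ne_one (hP.invol e he.1.1) (congrArg Subtype.val h),
      fun h => hne (congrArg Subtype.val h).symm, Subtype.ext (invol_mul_self (hP.invol d hd.1.1)),
      Subtype.ext (invol_mul_self (hP.invol e he.1.1)), Subtype.ext (hcomm d hd e he).eq⟩
  · rw [← hY.card_memIn hP hcomm, memIn_loc, hs.card_cent]

/-- An element commuting with `x` and with the members at `a`, fixing `a` and another fixed point,
fixes all fixed points. -/
theorem Std.trivial_of_commute (hs : Std D x a q) {b : Ω} (hb : x • b = b) (hba : b ≠ a) {g : G}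
    (hga : g • a = a) (hgb : g • b = b) (hgx : Commute g x)
    (hgB : ∀ d ∈ memCent D x a, Commute g d) : FixesAll (Ω := Ω) x g := by
  obtain ⟨hY, h2, hq, horb, hcard⟩ := hs.shape hM
  have hfix : Fixing D (loc D x) a b g :=
    ⟨mem_normalizer_loc hM.act.toPre hgx, hga, hgb, fun d hd p _ => by
      rw [memIn_loc] at hd; rw [(hgB d hd).eq]⟩
  have h1 := hY.fixing_trivial hM.act.toPre h2 (fun e => ?_) ((horb b).2 hb) hba hfix
  · exact fun p hp => (h1 p ((horb p).2 hp)).trans (one_smul G p)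
  · rw [hcard, hq, Nat.add_right_cancel_iff] at e
    have := hs.four_le
    nlinarith

/-- Members at a point with the same action on the fixed points are equal. -/
theorem Std.distinct (hs : Std D x a q) {d e : G} (hd : d ∈ memCent D x a) (he : e ∈ memCent D x a)
    (heq : ∀ p : Ω, x • p = p → d • p = e • p) : d = e := by
  obtain ⟨hY, -, -, horb, -⟩ := hs.shape hM
  have hc := hs.comm d hd e he
  rw [← memIn_loc] at hd he
  exact hY.eq_of_sameOn hM.act.toPre hd he hc fun p hp => heq p ((horb p).1 hp)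

/-- The group of `x` is faithful on the fixed points. -/
theorem Std.faithful_loc (hs : Std D x a q) {g : G} (hg : g ∈ loc D x)
    (hgF : FixesAll (Ω := Ω) x g) : g = 1 := by
  classical
  haveI := CountsB.finite_points hM
  haveI := hM.faithful
  have hP := hM.act.toPre
  obtain ⟨hY, h2, -, horb, -⟩ := hs.shape hM
  have hodd : Odd (orderOf g) := by
    have hk := (hY.mem_kerOn_iff h2 (y := g)).2
      ⟨hg, fun p hp => (hgF p ((horb p).1 hp)).trans (one_smul G p).symm⟩
    obtain ⟨z, hz, rfl⟩ := hk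
    rw [show (loc D x).subtype z = (z : G) from rfl, Subgroup.orderOf_coe]
    exact ZStar.Elements.oddCore_odd.of_dvd_nat (Subgroup.orderOf_dvd_natCard _ hz)
  -- prime order suffices
  by_contra hne
  obtain ⟨p, hp, hpd⟩ := Nat.exists_prime_and_dvd (fun e => hne (orderOf_eq_one_iff.1 e))
  set k := g ^ (orderOf g / p) with hkdef
  have hk1 : k ≠ 1 := by
    intro e
    have h1 := Nat.le_of_dvd (Nat.div_pos (Nat.le_of_dvd (orderOf_pos g) hpd) hp.pos)
      (orderOf_dvd_of_pow_eq_one e)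
    exact absurd h1 (Nat.not_le.2 (Nat.div_lt_self (orderOf_pos g) hp.one_lt))
  have hkp : k ^ p = 1 := by rw [hkdef, ← pow_mul, Nat.div_mul_cancel hpd, pow_orderOf_eq_one]
  have hp2 : p ≠ 2 := fun e => (Nat.not_even_iff_odd.2 hodd) (even_iff_two_dvd.2 (e ▸ hpd))
  have hk : k ∈ loc D x := Subgroup.pow_mem _ hg _
  have hkF : FixesAll (Ω := Ω) x k := fun c hc =>
    (stabilizer G c).pow_mem (show g ∈ stabilizer G c from hgF c hc) _
  have hkx : Commute k x := Shape.commute_of_mem_loc hk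
  have hkd : ∀ c : Ω, x • c = c → ∀ d ∈ memCent D x c, Commute k d := by
    intro c hc d hd
    have hd' := CountsB.conj_memCent hM (g := k) hd
    rw [hkx.eq, mul_inv_cancel_right, hkF c hc] at hd'
    have hdd : k * d * k⁻¹ = d := (hs.at_point hM hc).distinct hM hd' hd fun p hp => by
      have hdp : x • d • p = d • p := by rw [smul_smul, ← hd.2.eq, mul_smul, hp]
      rw [mul_smul, mul_smul, inv_smul_eq_iff.2 (hkF p hp).symm, hkF _ hdp]
    exact mul_inv_eq_iff_eq_mul.1 hdd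
  refine hk1 (eq_of_smul_eq_smul fun z : Ω => ?_)
  rw [one_smul]
  rcases eq_or_ne (x • z) z with hz | hz
  · exact hkF z hz
  obtain ⟨w, hw, hwx⟩ := hP.exists_swap_commute hs.bad.invol (Ne.symm hz) (Or.inr rfl)
  obtain ⟨c, hwc⟩ := (hP.one w hw.1).exists
  have hxc : x • c = c := hP.smul_eq_of_commute hw.1 hwc hwx
  have hsc := hs.at_point hM hxc
  obtain ⟨hy, hyB⟩ := hsc.mul hM (d := w) ⟨⟨hw.1, hwc⟩, hwx⟩
  have hky : Commute k (x * w) := hkx.mul_right (hkd c hxc w ⟨⟨hw.1, hwc⟩, hwx⟩)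
  let X := {z : Ω // (x * w) • z = z ∧ z ≠ c}
  haveI : Fintype X := Fintype.ofFinite X
  let f : X → X := fun z => ⟨k • z.1, by rw [smul_smul, ← hky.eq, mul_smul, z.2.1],
    fun e => z.2.2 (MulAction.injective k (e.trans (hkF c hxc).symm))⟩
  let e : Equiv.Perm X := Equiv.ofBijective f
    (Finite.injective_iff_bijective.1 fun z z' hzz =>
      Subtype.ext (MulAction.injective k (congrArg Subtype.val hzz)))
  have hfp : ∀ (n : ℕ) (z : X), ((f^[n]) z).1 = k ^ n • z.1 := by
    intro n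
    induction n with
    | zero => intro z; rw [pow_zero, one_smul]; rfl
    | succ n ih =>
      intro z
      rw [Function.iterate_succ_apply', pow_succ', mul_smul, ← ih z]
  have hep : e ^ p ^ 1 = 1 := by
    refine Equiv.ext fun z => Subtype.ext ?_
    rw [pow_one, Equiv.Perm.coe_pow]
    show ((f^[p]) z).1 = z.1
    rw [hfp, hkp, one_smul]
  haveI : Fact p.Prime := ⟨hp⟩
  have hcard : ¬ p ∣ Fintype.card X := by
    rw [← Nat.card_eq_fintype_card, show Nat.card X = q ^ 2 from ?_]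
    · obtain ⟨i, -, hi⟩ := (hs.shape hM).1.qOf_pow hP (hs.shape hM).2.1
      rw [(hs.shape hM).2.2.1] at hi
      intro hd
      rw [hi, ← pow_mul] at hd
      exact hp2 ((Nat.prime_dvd_prime_iff_eq hp Nat.prime_two).1 (hp.dvd_of_dvd_pow hd))
    · have h1 : Nat.card X = Nat.card ↥({z : Ω | (x * w) • z = z} \ {c}) := rfl
      rw [h1, Nat.card_coe_set_eq,
        Set.ncard_sdiff_singleton_of_mem (show c ∈ {z : Ω | (x * w) • z = z} from hy.fixes),
        ← Nat.card_coe_set_eq, show Nat.card {z : Ω | (x * w) • z = z} = q ^ 2 + 1 from hy.card_fix,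
        Nat.add_sub_cancel]
  obtain ⟨⟨b, hb, hbc⟩, hkb⟩ := Equiv.Perm.exists_fixed_point_of_prime hcard hep
  refine hy.trivial_of_commute hM hb hbc (hkF c hxc) (congrArg Subtype.val hkb) hky
    (fun d hd => hkd c hxc d (hyB ▸ hd)) z ?_
  rw [mul_smul, hw.2, smul_smul, invol_mul_self hs.bad.invol, one_smul]

/-- The order is two to an odd power. -/
theorem Std.exists_log (hs : Std D x a q) : ∃ m : ℕ, 1 ≤ m ∧ q = 2 ^ (2 * m + 1) := by
  obtain ⟨hY, h2, hq, -, hcard⟩ := hs.shape hM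
  obtain ⟨t, Q, h⟩ := hY.exists_model' hM.act.toPre h2
  have hQ : Nat.card Q = qNum (img (loc D x) (orbit (loc D x) a)) (pt (loc D x) a) ^ 2 := by
    have h1 := card_omega h.hyp.setup
    rw [hcard, Nat.add_right_cancel_iff] at h1
    rw [← h1, ← hq, qOf]
  obtain ⟨F, i1, i2, m, hF, hm, ⟨c⟩⟩ := h.exists_szCoords hQ
  refine ⟨m, hm, ?_⟩
  have h1 := hQ
  rw [Nat.card_congr c.equiv, Nat.card_prod, Nat.card_eq_fintype_card, hF.card, ← sq] at h1
  rw [← hq, qOf]
  exact (Nat.pow_left_injective two_ne_zero h1).symm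

/-- A `2`-element fixing `a` and commuting with `x` centralises the members at `a`. -/
theorem Std.even_cent (hs : Std D x a q) {b : Ω} (hb : x • b = b) (hba : b ≠ a) {g : G}
    (hga : g • a = a) (hgx : Commute g x) {j : ℕ} (hj : g ^ 2 ^ j = 1) :
    ∀ d ∈ memCent D x a, Commute g d := by
  classical
  obtain ⟨hY, h2, hq, horb, -⟩ := hs.shape hM
  have hP := hM.act.toPre
  obtain ⟨m, -, hqm⟩ := hs.exists_log hM
  obtain ⟨i, ι, -, hqi, hbij, hzero, -, -, hsemi⟩ := hY.exists_field hP h2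
    (by rw [memIn_loc]; exact hs.comm) ((horb b).2 hb) hba
  have hg : g ∈ auto (loc D x) a := ⟨mem_normalizer_loc hP hgx, hga⟩
  obtain ⟨σ, c, hc0, hσ⟩ := hsemi g hg
  have hiter : ∀ k : ℕ, ∃ ck : GaloisField 2 i, ∀ d ∈ memIn D (loc D x) a,
      ι (g ^ k * d * (g ^ k)⁻¹) = ck * (σ ^ k : RingAut (GaloisField 2 i)) (ι d) := by
    intro k
    induction k with
    | zero => exact ⟨1, fun d _ => by simp⟩
    | succ k ih =>
      obtain ⟨ck, hck⟩ := ih
      refine ⟨c * σ ck, fun d hd => ?_⟩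
      have hd' := hY.conj_memIn hP ((auto (loc D x) a).pow_mem hg k) hd
      rw [show g ^ (k + 1) * d * (g ^ (k + 1))⁻¹ = g * (g ^ k * d * (g ^ k)⁻¹) * g⁻¹ by
        rw [pow_succ']; group, hσ _ hd', hck d hd, map_mul, pow_succ', mul_assoc]
      rfl
  obtain ⟨ck, hck⟩ := hiter (2 ^ j)
  simp only [hj, one_mul, inv_one, mul_one] at hck
  have hsurj : ∀ w : GaloisField 2 i, w ≠ 0 → ∃ d ∈ memIn D (loc D x) a, ι d = w := by
    intro w hw
    obtain ⟨d, hd, rfl⟩ := hbij.surjOn (Set.mem_univ w)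
    rcases hd with rfl | hd
    · exact absurd hzero hw
    · exact ⟨d, hd, rfl⟩
  have hck1 : ck = 1 := by
    obtain ⟨d, hd, hd1⟩ := hsurj 1 one_ne_zero
    have := hck d hd
    rw [hd1, map_one, mul_one] at this
    exact this.symm
  have hσj : (σ : RingAut (GaloisField 2 i)) ^ 2 ^ j = 1 := by
    refine RingEquiv.ext fun w => ?_
    rcases eq_or_ne w 0 with rfl | hw
    · simp
    · obtain ⟨d, hd, rfl⟩ := hsurj w hw
      have := hck d hd
      rw [hck1, one_mul] at this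
      exact this.symm
  have hσ1 : (σ : RingAut (GaloisField 2 i)) = 1 := by
    by_contra hne
    haveI : Fact (Nat.Prime 2) := ⟨Nat.prime_two⟩
    obtain ⟨l, -, hl⟩ := (Nat.dvd_prime_pow Nat.prime_two).1 (orderOf_dvd_of_pow_eq_one hσj)
    obtain ⟨l, rfl⟩ : ∃ l', l = l' + 1 := ⟨l - 1, by
      rcases Nat.eq_zero_or_pos l with rfl | h
      · rw [pow_zero, orderOf_eq_one_iff] at hl; exact absurd hl hne
      · omega⟩
    have hpow : ((σ : RingAut (GaloisField 2 i)) ^ 2 ^ l) ^ 2 = 1 := by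
      rw [← pow_mul, ← pow_succ, ← hl, pow_orderOf_eq_one]
    have hne2 : (σ : RingAut (GaloisField 2 i)) ^ 2 ^ l ≠ 1 := fun e => by
      have h0 : (0 : ℕ) < 2 ^ l := Nat.two_pow_pos l
      have := Nat.le_of_dvd h0 (orderOf_dvd_of_pow_eq_one e)
      rw [hl, pow_succ] at this
      omega
    have hsq := BenderSuzuki.Coords.card_eq_fixed_pow _ Nat.prime_two hpow hne2
    have hi0 : i ≠ 0 := fun e => by
      rw [e, pow_zero, hq] at hqi
      have := hs.four_le
      omega
    rw [GaloisField.card 2 i hi0, ← hqi, hq, hqm] at hsq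
    obtain ⟨s, hs'⟩ : ∃ s, 2 ^ (2 * m + 1) = s ^ 2 := ⟨_, hsq⟩
    obtain ⟨u, -, rfl⟩ := (Nat.dvd_prime_pow Nat.prime_two).1 (hs' ▸ dvd_pow_self s two_ne_zero)
    rw [← pow_mul] at hs'
    have := Nat.pow_right_injective le_rfl hs'
    omega
  -- so `g` scales
  have hscal : ∀ k : ℕ, ∀ d ∈ memIn D (loc D x) a, ι (g ^ k * d * (g ^ k)⁻¹) = c ^ k * ι d := by
    intro k
    induction k with
    | zero => intro d _; simp
    | succ k ih =>
      intro d hd
      have hd' := hY.conj_memIn hP ((auto (loc D x) a).pow_mem hg k) hd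
      rw [show g ^ (k + 1) * d * (g ^ (k + 1))⁻¹ = g * (g ^ k * d * (g ^ k)⁻¹) * g⁻¹ by
        rw [pow_succ']; group, hσ _ hd', ih d hd, show σ = (1 : RingAut (GaloisField 2 i)) from hσ1,
        RingAut.one_apply, pow_succ', mul_assoc]
  have hc1 : c = 1 := by
    obtain ⟨d, hd, hd1⟩ := hsurj 1 one_ne_zero
    have h4 := hscal (2 ^ j) d hd
    simp only [hj, one_mul, inv_one, mul_one, hd1] at h4
    haveI : Fact (Nat.Prime 2) := ⟨Nat.prime_two⟩
    exact iterateFrobenius_inj (GaloisField 2 i) 2 j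
      (by rw [iterateFrobenius_def, iterateFrobenius_def, ← h4, one_pow])
  intro d hd
  rw [← memIn_loc] at hd
  have hg1 := hscal 1 d hd
  rw [pow_one, pow_one, hc1, one_mul] at hg1
  exact mul_inv_eq_iff_eq_mul.1
    (hbij.injOn (Or.inr (hY.conj_memIn hP hg hd)) (Or.inr hd) hg1)

/-- The torus is all of the two-point stabiliser in the group of `x`. -/
theorem Std.nonempty_sz (hs : Std D x a q) {b : Ω} (hb : x • b = b) (hba : b ≠ a) :
    Nonempty (Sz D x a b q) ∧ ¬ q + 1 ∣ Nat.card (loc D x) := by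
  classical
  have hP := hM.act.toPre
  obtain ⟨hY, h2, hq, horb, hcard⟩ := hs.shape hM
  set Y := loc D x with hYdef
  have hmem : memIn D Y a = memCent D x a := memIn_loc
  have hcomm : ∀ d ∈ memIn D Y a, ∀ e ∈ memIn D Y a, Commute d e := by rw [hmem]; exact hs.comm
  obtain ⟨P, hT⟩ := hY.exists_trans hP h2 hcomm
  have hbY : b ∈ orbit Y a := (horb b).2 hb
  obtain ⟨t, Q, ht, h⟩ := hY.exists_model hP h2 ⟨b, hbY⟩ fun e => hba (congrArg Subtype.val e)
  set π := toImg Y (orbit Y a)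
  have hQ : Nat.card Q = qNum (img Y (orbit Y a)) (pt Y a) ^ 2 := by
    have h1 := card_omega h.hyp.setup
    rw [hcard, Nat.add_right_cancel_iff] at h1
    rw [← h1, ← hq, qOf]
  have hPq : Nat.card P = qOf Y a ^ 2 := by
    have := hT.card
    rw [hcard] at this
    rw [hq]; omega
  have hfaith : Function.Injective π := by
    rw [injective_iff_map_eq_one]
    intro y hy
    refine Subtype.ext (hs.faithful_loc hM y.2 fun p hp => ?_)
    rw [← map_one π, toImg_eq_iff] at hy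
    exact (congrArg Subtype.val (hy ⟨p, (horb p).2 hp⟩)).trans
      (congrArg Subtype.val (one_smul Y (⟨p, (horb p).2 hp⟩ : orbit Y a)))
  set T : Subgroup G := Y ⊓ stabilizer G a ⊓ stabilizer G b with hTdef
  have hTimg : ∀ {g : G} (hg : g ∈ T), π ⟨g, hg.1.1⟩ ∈ twoStab (img Y (orbit Y a)) (pt Y a) t :=
    fun {g} hg => mem_twoStab.2 ⟨Subtype.ext hg.1.2, by rw [ht]; exact Subtype.ext hg.2⟩
  have hK := twoStab_eq_kSet h hQ
  have hTk : ∀ {g : G} (hg : g ∈ T), π ⟨g, hg.1.1⟩ ∈ kSet (pt Y a) t := fun hg => by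
    rw [← hK]; exact hTimg hg
  obtain ⟨k₀, hk₀, hgen, -, -⟩ := h.exists_generator
  have hone : ∀ y : G, y ∈ P → y * y = 1 → y ∈ memOne D x a := fun y hy e =>
    (hT.sq_one y hy e).imp id fun hm => hmem ▸ hm
  have hTnorm : ∀ s ∈ T, ∀ y ∈ P, s * y * s⁻¹ ∈ P := by
    intro s hs' y hy
    obtain ⟨z, hz, -, hzN, hzs⟩ := hT.lift s hs'.1.1 hs'.1.2
    have hzs' : z = s := congrArg Subtype.val (hfaith ((Loc.sameOn_iff hz hs'.1.1).1 hzs))
    exact (Subgroup.mem_normalizer_iff.1 (hzs' ▸ hzN) y).1 hy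
  have hsq : ∀ y ∈ P, y * y ∈ memOne D x a := fun y hy => hone _ (mul_mem hy hy) (hT.sq_mem y hy)
  obtain ⟨c, hc, hca, hcb, hctr, -, -⟩ := hY.exists_torus hP h2 hcomm hbY hba
  have hcT : ∀ n : ℕ, c ^ n ∈ T := fun n => Subgroup.pow_mem _
    (show c ∈ T from ⟨⟨hc, hca⟩, hcb⟩) n
  have htrans : ∀ d ∈ memCent D x a, ∀ e ∈ memCent D x a, ∃ t ∈ T, t * d * t⁻¹ = e := by
    intro d hd e he
    rw [← hmem] at hd he
    obtain ⟨n, hn⟩ := hctr d hd e he
    exact ⟨c ^ n, hcT n, hn⟩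
  have hTgen : ∃ t ∈ T, ∀ s ∈ T, s ∈ Subgroup.zpowers t := by
    obtain ⟨y, hy⟩ := toImg_surjective k₀
    obtain ⟨hy1, hy2⟩ := mem_twoStab.1 hk₀.1
    rw [ht] at hy2
    rw [← hy] at hy1 hy2
    refine ⟨y, ⟨⟨y.2, congrArg Subtype.val hy1⟩, congrArg Subtype.val hy2⟩, fun s hs' => ?_⟩
    obtain ⟨n, hn⟩ := hgen _ (hTk hs')
    have h1 : (⟨s, hs'.1.1⟩ : Y) = y ^ n := hfaith (by rw [map_pow, hy, hn])
    exact Subgroup.mem_zpowers_iff.2 ⟨n, by
      rw [zpow_natCast, ← SubmonoidClass.coe_pow, ← h1]⟩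
  refine ⟨⟨{
    Q := P
    T := T
    Q_le := fun y hy => ⟨hT.le hy, hT.fix y hy⟩
    card_Q := by rw [hPq, hq]
    mem_Q := fun d hd => hT.mem d (hmem ▸ hd)
    comm_Q := fun y hy d hd => hT.central y hy d (hmem ▸ hd)
    trans := fun p hp hpa => by
      obtain ⟨y, hy, -⟩ := hT.regular b hbY p ((horb p).2 hp) hba hpa
      exact ⟨y, hy⟩
    sq := hsq
    sq_one := hone
    sq_inj := fun y hy z hz e =>
      hone _ (mul_mem (inv_mem hy) hz) (hT.sz_sq_inj hPq y hy z hz e)
    comm_cases := fun y hy z hz e => (hT.sz_commute hPq y hy z hz e).imp (hone y hy)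
      (Or.imp (hone z hz) (hone _ (mul_mem (inv_mem hy) hz)))
    T_le := le_rfl
    card_T := ?_
    T_comm := fun s hs' s' hs'' => ?_
    T_gen := hTgen
    stab := fun g hg h1 h2' => ⟨⟨hg, h1⟩, h2'⟩
    T_norm := hTnorm
    T_trans := htrans
    T_trans_top := fun y hy z hz hy1 hz1 => ?_
    T_fix := fun s hs' hs1 p hp hsp => ?_ }⟩, ?_⟩
  · rw [← hq, qOf, ← qNum_eq_of_invs h, Nat.add_sub_cancel,
      ← card_invertedBy h.hyp.setup]
    refine Nat.card_eq_of_bijective (fun g => ⟨_, hTk g.2⟩) ⟨fun g g' e => Subtype.ext ?_, ?_⟩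
    · exact congrArg (fun z : Y => (z : G)) (hfaith (congrArg Subtype.val e))
    · rintro ⟨k, hk⟩
      obtain ⟨y, rfl⟩ := toImg_surjective k
      obtain ⟨h1, h3⟩ := mem_twoStab.1 hk.1
      rw [ht] at h3
      exact ⟨⟨y, ⟨y.2, congrArg Subtype.val h1⟩, congrArg Subtype.val h3⟩, rfl⟩
  · obtain ⟨n, hn⟩ := hgen _ (hTk hs')
    obtain ⟨n', hn'⟩ := hgen _ (hTk hs'')
    refine congrArg Subtype.val (hfaith (a₁ := (⟨s, hs'.1.1⟩ : Y) * ⟨s', hs''.1.1⟩)
      (a₂ := ⟨s', hs''.1.1⟩ * ⟨s, hs'.1.1⟩) ?_)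
    rw [map_mul, map_mul, ← hn, ← hn', ← pow_add, ← pow_add, add_comm]
  · have hy2 : y * y ∈ memCent D x a := (hsq y hy).resolve_left fun e => hy1 (hone y hy e)
    have hz2 : z * z ∈ memCent D x a := (hsq z hz).resolve_left fun e => hz1 (hone z hz e)
    obtain ⟨s, hs', hse⟩ := htrans _ hy2 _ hz2
    refine ⟨s, hs', hone _ (mul_mem (inv_mem (hTnorm s hs' y hy)) hz)
      (hT.sz_sq_inj hPq _ (hTnorm s hs' y hy) z hz ?_)⟩
    rw [← hse]; group
  · by_contra hne
    push Not at hne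
    haveI := h.hyp.faithful
    obtain ⟨v, hv, hvp⟩ := Q_trans h.hyp.setup (t_smul_ne h.hyp.setup)
      (d := (⟨p, (horb p).2 hp⟩ : orbit Y a)) fun e => hne.1 (congrArg Subtype.val e)
    have hk1 : π ⟨s, hs'.1.1⟩ ≠ 1 := fun e =>
      hs1 (congrArg Subtype.val (hfaith (e.trans (map_one π).symm)))
    have hfix := Cfsg.Agent.S1128.result h.hyp.setup h.hyp.twoRank _ (hTk hs') hk1
    have hvc : π ⟨s, hs'.1.1⟩ * v * (π ⟨s, hs'.1.1⟩)⁻¹ = v := by
      refine Q_smul_inj h.hyp.setup (twoStab_norm h.hyp.setup (hTimg hs') hv) hv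
        (t_smul_ne h.hyp.setup) ?_
      rw [mul_smul, mul_smul, inv_smul_eq_iff.2 (mem_twoStab.1 (hTimg hs')).2.symm, hvp]
      exact Subtype.ext hsp
    have hv1 : v ∈ Q ⊓ Subgroup.centralizer {π ⟨s, hs'.1.1⟩} :=
      ⟨hv, Subgroup.mem_centralizer_singleton_iff.2 (mul_inv_eq_iff_eq_mul.1 hvc).symm⟩
    rw [hfix, Subgroup.mem_bot] at hv1
    rw [hv1, one_smul, ht] at hvp
    exact hne.2 (congrArg Subtype.val hvp).symm
  · intro hdvd
    have hbij : Function.Bijective π := ⟨hfaith, toImg_surjective⟩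
    have hD : Nat.card (twoStab (img Y (orbit Y a)) (pt Y a) t) + 1 = q := by
      rw [show Nat.card ↥(twoStab (img Y (orbit Y a)) (pt Y a) t) =
          Nat.card ↥((twoStab (img Y (orbit Y a)) (pt Y a) t : Set ↥(img Y (orbit Y a)))) from rfl, hK,
        card_invertedBy h.hyp.setup, ← hq, qOf]
      rfl
    rw [Nat.card_eq_of_bijective π hbij, card_group h.hyp.setup, hQ, ← qOf, hq] at hdvd
    obtain ⟨i, hi, hqi⟩ := hY.qOf_pow hP h2
    rw [hq] at hqi
    have h4 := hs.four_le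
    have hoddq : Odd (q + 1) := Even.add_one (hqi ▸ (Nat.even_pow' (by omega)).2 even_two)
    have hcop : ∀ n, (∃ k, n = (q + 1) * k + 2 ∨ n + 2 = q + 1 + (q + 1) * k) →
        Nat.Coprime (q + 1) n := by
      rintro n ⟨k, hk⟩
      refine Nat.coprime_of_dvd fun r hr h1 hn => ?_
      have h2' : r ∣ 2 := by
        rcases hk with rfl | hk
        · exact (Nat.dvd_add_right (h1.mul_right k)).1 hn
        · exact (Nat.dvd_add_right hn).1 (hk ▸ dvd_add h1 (h1.mul_right k))
      obtain rfl := (Nat.prime_dvd_prime_iff_eq hr Nat.prime_two).1 h2'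
      exact hoddq.not_two_dvd_nat h1
    have c1 : Nat.Coprime (q + 1) (q ^ 2) :=
      (Nat.coprime_self_add_left.2 (Nat.coprime_one_left q)).pow_right 2
    have c2 := hcop (Nat.card (twoStab (img Y (orbit Y a)) (pt Y a) t)) ⟨0, Or.inr (by omega)⟩
    have c3 : Nat.Coprime (q + 1) (q ^ 2 + 1) := hcop _ ⟨q - 1, Or.inl (by
      obtain ⟨r, rfl⟩ := Nat.exists_eq_add_of_le h4
      rw [show 4 + r - 1 = 3 + r by omega]; ring)⟩
    have := Nat.eq_one_of_dvd_coprimes ((c1.mul_right c2).mul_right c3) dvd_rfl hdvd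
    omega

/-- An element permuting the fixed points, fixing two of them and centralising the members at one,
fixes all of them. -/
theorem Std.trivial (hs : Std D x a q) {b : Ω} (hb : x • b = b) (hba : b ≠ a) {g : G}
    (hga : g • a = a) (hgb : g • b = b) (hgF : ∀ p : Ω, x • p = p → x • g • p = g • p)
    (hgB : ∀ d ∈ memCent D x a, Commute g d) : FixesAll (Ω := Ω) x g := by
  classical
  haveI := CountsB.finite_points hM
  haveI := hM.faithful
  have hP := hM.act.toPre
  obtain ⟨hY, h2, hq, horb, hcard⟩ := hs.shape hM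
  -- the elements preserving the fixed points
  let S : Subgroup G :=
    { carrier := {g | ∀ p : Ω, x • p = p → x • g • p = g • p}
      one_mem' := fun p hp => by rwa [one_smul]
      mul_mem' := fun {g g'} hg hg' => by
        intro p hp; rw [mul_smul g g' p]; exact hg _ (hg' p hp)
      inv_mem' := fun {g} hg p hp => by
        obtain ⟨⟨p', hp'⟩, hpe⟩ := Finite.surjective_of_injective
          (f := fun p : {p : Ω // x • p = p} => (⟨g • p.1, hg p.1 p.2⟩ : {p : Ω // x • p = p}))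
          (fun p p' e => Subtype.ext (MulAction.injective g (congrArg Subtype.val e))) ⟨p, hp⟩
        rw [← show g • p' = p from congrArg Subtype.val hpe, inv_smul_smul]
        exact hp' }
  set Γ := Subgroup.closure {d | d ∈ D ∧ d ∈ S}
  have hΓS : Γ ≤ S := (Subgroup.closure_le _).2 fun _ hd => hd.2
  have hΓtop : Γ ≠ ⊤ := fun e => by
    obtain ⟨z, hz⟩ := Pre.exists_moved (invol_ne_one hs.bad.invol) hM.faithful
    haveI := hM.act.trans
    obtain ⟨k, rfl⟩ := exists_smul_eq G a z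
    exact hz (hΓS (e ▸ Subgroup.mem_top k) a hs.fixes)
  have hYΓ : loc D x ≤ Γ := (Subgroup.closure_le _).2 fun d hd => Subgroup.subset_closure ⟨hd.1,
    fun p hp => by rw [smul_smul, ← hd.2.eq, mul_smul, hp]⟩
  have hgenΓ : Subgroup.closure {d | d ∈ D ∧ d ∈ Γ} = Γ :=
    le_antisymm ((Subgroup.closure_le _).2 fun _ hd => hd.2)
      ((Subgroup.closure_le _).2 fun d hd =>
        Subgroup.subset_closure ⟨hd.1, Subgroup.subset_closure hd⟩)
  obtain ⟨d₀, hd₀, -⟩ := hs.exists_ne hM 1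
  have hd₀Y : d₀ ∈ loc D x := Subgroup.subset_closure ⟨hd₀.1.1, hd₀.2⟩
  obtain ⟨y₁, hy₁⟩ := (horb b).2 hb
  have hΓ : Loc D Γ a := loc_sub hM hΓtop hgenΓ hd₀.1 (hYΓ hd₀Y)
    ⟨y₁, hYΓ y₁.2, fun e => hba (hy₁.symm.trans e)⟩
  have horbΓ : ∀ p : Ω, p ∈ orbit Γ a ↔ x • p = p := by
    intro p
    constructor
    · rintro ⟨y, rfl⟩; exact hΓS y.2 a hs.fixes
    · intro hp
      obtain ⟨y, hy⟩ := (horb p).2 hp
      exact ⟨⟨y, hYΓ y.2⟩, hy⟩
  have hcardΓ : Nat.card (orbit Γ a) = q ^ 2 + 1 :=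
    (Nat.card_congr (Equiv.subtypeEquivRight horbΓ)).trans hs.card_fix
  have hFourΓ : Four Γ := by
    obtain ⟨u, v, h1, h3, h5, h6, h7, h8⟩ := h2
    exact ⟨Subgroup.inclusion hYΓ u, Subgroup.inclusion hYΓ v,
      fun e => h1 (Subgroup.inclusion_injective hYΓ (e.trans (map_one _).symm)),
      fun e => h3 (Subgroup.inclusion_injective hYΓ (e.trans (map_one _).symm)),
      fun e => h5 (Subgroup.inclusion_injective hYΓ e),
      by rw [← map_mul, h6, map_one], by rw [← map_mul, h7, map_one],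
      by rw [← map_mul, ← map_mul, h8]⟩
  obtain ⟨t, Q, h⟩ := hΓ.exists_model' hP hFourΓ
  have hBΓ : ∀ d ∈ memCent D x a, d ∈ memIn D Γ a := fun d hd =>
    ⟨hd.1, hYΓ (Subgroup.subset_closure ⟨hd.1.1, hd.2⟩)⟩
  -- the members at `a` give distinct involutions of the image
  let φ : memCent D x a → invs (img Γ (orbit Γ a)) (pt Γ a) := fun d =>
    ⟨_, hΓ.invs_of_memIn hP (hBΓ d.1 d.2)⟩
  have hφ : Function.Injective φ := by
    intro d e he
    refine Subtype.ext (hs.distinct hM d.2 e.2 fun p hp => ?_)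
    exact (Loc.sameOn_iff (hBΓ d.1 d.2).2 (hBΓ e.1 e.2).2).2 (congrArg Subtype.val he) p ((horbΓ p).2 hp)
  have hle : q ≤ qOf Γ a := by
    have h1 := Nat.card_le_card_of_injective φ hφ
    rw [← hs.card_cent, qOf, ← qNum_eq_of_invs h]
    omega
  obtain ⟨e, he, hce⟩ := hΓ.card_orbit hP hFourΓ
  rw [hcardΓ, Nat.add_right_cancel_iff] at hce
  have h4 := hs.four_le
  have he3 : e ≠ 3 := by
    rintro rfl
    have h5 : q ^ 2 < q ^ 3 := Nat.pow_lt_pow_right (by omega) (by norm_num)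
    have h6 : q ^ 3 ≤ qOf Γ a ^ 3 := Nat.pow_le_pow_left hle 3
    omega
  have he1 : e ≠ 1 := by
    rintro rfl
    have hQ : Nat.card Q = qNum (img Γ (orbit Γ a)) (pt Γ a) := by
      have h1 := card_omega h.hyp.setup
      rw [hcardΓ, Nat.add_right_cancel_iff] at h1
      rw [← h1, hce, pow_one, qOf]
    obtain ⟨P, hT⟩ := hY.exists_trans hP h2 (by rw [memIn_loc]; exact hs.comm)
    have hPq : Nat.card P ≠ qOf (loc D x) a := by
      have h1 := hT.card
      rw [hcard] at h1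
      rw [hq]
      nlinarith
    obtain ⟨y, hy, hyd⟩ := hT.sqrt hPq d₀ (show d₀ ∈ memIn D (loc D x) a by rw [memIn_loc]; exact hd₀)
    have hyQ : toImg Γ (orbit Γ a) ⟨y, hYΓ (hT.le hy)⟩ ∈ Q := by
      obtain ⟨i, hi⟩ := hT.two ⟨y, hy⟩
      refine mem_Q_of_two h (Subtype.ext (hT.fix y hy)) (i := i) ?_
      rw [← map_pow, ← map_one (toImg Γ (orbit Γ a))]
      exact congrArg _ (Subtype.ext (congrArg Subtype.val hi :))
    have h1 := sq_eq_one_of_card h hQ hyQ
    rw [← map_mul, ← map_one (toImg Γ (orbit Γ a)), toImg_eq_iff] at h1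
    have h3 := (congrArg Subtype.val (h1 ⟨b, (horbΓ b).2 hb⟩)).trans
      (congrArg Subtype.val (one_smul Γ (⟨b, (horbΓ b).2 hb⟩ : orbit Γ a)))
    have h5 : (y * y) • b = b := h3
    rw [hyd] at h5
    exact hba (hP.eq_of_fix hd₀.1.1 h5 hd₀.1.2)
  obtain rfl : e = 2 := by omega
  have hqΓ : qOf Γ a = q := (Nat.pow_left_injective two_ne_zero hce).symm
  have hsurj : Function.Surjective φ := ((Nat.bijective_iff_injective_and_card φ).2 ⟨hφ, by
    have h5 : qOf Γ a = Nat.card (invs (img Γ (orbit Γ a)) (pt Γ a)) + 1 := rfl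
    have := hs.card_cent
    omega⟩).2
  have hgS : g ∈ S := hgF
  have hfix : Fixing D Γ a b g := by
    refine ⟨Subgroup.mem_normalizer_iff.2 fun y => ?_, hga, hgb, fun f hf p hp => ?_⟩
    · have key : ∀ k ∈ S, ∀ y ∈ Γ, k * y * k⁻¹ ∈ Γ := by
        intro k hk y hy
        induction hy using Subgroup.closure_induction with
        | mem y hy =>
          exact Subgroup.subset_closure
            ⟨hP.conj k y hy.1, mul_mem (mul_mem hk hy.2) (inv_mem hk)⟩
        | one => simp [Subgroup.one_mem]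
        | mul y z _ _ hy hz =>
          rw [show k * (y * z) * k⁻¹ = k * y * k⁻¹ * (k * z * k⁻¹) by group]
          exact mul_mem hy hz
        | inv y _ hy =>
          rw [show k * y⁻¹ * k⁻¹ = (k * y * k⁻¹)⁻¹ by group]
          exact inv_mem hy
      refine ⟨key g hgS y, fun hy => ?_⟩
      have := key g⁻¹ (inv_mem hgS) _ hy
      simpa [mul_assoc] using this
    · obtain ⟨⟨d, hd⟩, hde⟩ := hsurj ⟨_, hΓ.invs_of_memIn hP hf⟩
      have hsame : SameOn Γ a f d :=
        (Loc.sameOn_iff hf.2 (hBΓ d hd).2).2 (congrArg Subtype.val hde).symm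
      have hgp : g • p ∈ orbit Γ a := (horbΓ _).2 (hgF p ((horbΓ p).1 hp))
      rw [mul_smul, hsame p hp, ← mul_smul, (hgB d hd).eq, mul_smul, ← hsame _ hgp, mul_smul]
  have h1 := hΓ.fixing_trivial hP hFourΓ (fun e => ?_) ((horbΓ b).2 hb) hba hfix
  · exact fun p hp => (h1 p ((horbΓ p).2 hp)).trans (one_smul G p)
  · rw [hcardΓ, hqΓ, Nat.add_right_cancel_iff] at e
    have : q ^ 2 < q ^ 3 := Nat.pow_lt_pow_right (by omega) (by norm_num)
    omega

omit [Group G] [MulAction G Ω] [Finite G] hM in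
/-- **Section S for an involution of type `2`.** -/
theorem szShape : PropSzShape.{u} := by
  intro X _ _ Δ _ E hMX x a q r hx hc
  have hs := Std.of_counts hMX hx hc
  obtain ⟨b, hb, hba⟩ : ∃ b : Δ, x • b = b ∧ b ≠ a := by
    obtain ⟨p, p', hne, hp, hp'⟩ := hx.two
    by_cases h : p = a
    · exact ⟨p', hp', h ▸ hne.symm⟩
    · exact ⟨p, hp, h⟩
  refine ⟨hs.exists_log hMX, fun g hga hgx ⟨j, hj⟩ => hs.even_cent hMX hb hba hga hgx hj,
    fun d hd e he => hs.distinct hMX hd he, (hs.nonempty_sz hMX hb hba).2, fun c hc hca => ?_⟩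
  exact ⟨(hs.nonempty_sz hMX hc hca).1,
    fun g hga hgc hgF hgB => hs.trivial hMX hc hca hga hgc hgF hgB⟩

end Cfsg.Agent.Lib.Crit5.KillTwo
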