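import Cfsg.Agent.Lib.Crit5.KillTwoTrans

/-!
# The single fixed point criterion, section C2: squares

Either all squares of `mGrp` are in `E` (`IsElem`), or the square of an element outside the
centraliser of `x` is never in `A E`, and then `|A| ≥ q / 2` and the involutions of `mGrp` are in
`A E`.  See `notes/crit_c2_helper31.md`, section 2, and `notes/crit_c2_helper5.md`, 1.4.

Owner: helper31.
-/

set_option autoImplicit false
set_option linter.style.haveILetI false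
set_option linter.unusedSectionVars false

namespace Cfsg.Agent.Lib.Crit5.KillTwo

open MulAction Cfsg.Agent.Lib.Involutions.Basic
open Cfsg.Agent.Lib.Crit8 (Action Pre Bad memAt memSwap loc)

universe u

variable {G Ω : Type u} [Group G] [MulAction G Ω] {D : Set G}

/-- All squares of `mGrp` are in `E`. -/
def IsElem (D : Set G) (x : G) (a : Ω) : Prop := ∀ y ∈ mGrp D x a, y * y ∈ eGrp D x a

variable [Finite G] {q r : ℕ} (h : Ctx G Ω D q r) {x : G} {a b : Ω}
variable (hx : Bad G Ω x) (hxa : x • a = a) (hxb : x • b = b) (hba : b ≠ a) (S : Sz D x a b q)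
include h hx hxa hxb hba S

/-- An involution of `C` centralising `x` is in `A E`. -/
theorem Ctx.invol_decomp {y : G} (hy : y ∈ cGrp D x a) (hyx : Commute y x) (hy2 : y * y = 1) :
    ∃ v ∈ aGrp Ω x, ∃ e ∈ eGrp D x a, y = v * e := by
  obtain ⟨p, hp, v, hv, rfl⟩ := h.exists_decomp hx hxa hxb hba S hy hyx
  have hpv : Commute v p :=
    h.aGrp_commute_loc hv hx (h.Q_props hx hxa hxb hba S hp).2.2.1
  have hp2 : p * p = 1 := by
    calc p * p = p * p * (v * v) := by rw [(h.aGrp_elem hx hxa hxb hba S hv hv).1, mul_one]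
      _ = p * (p * v) * v := by group
      _ = p * (v * p) * v := by rw [hpv.eq]
      _ = p * v * (p * v) := by group
      _ = 1 := hy2
  exact ⟨v, hv, p, (h.memOne_iff hx hxa).1 (S.sq_one p hp hp2), hpv.eq.symm⟩

theorem Ctx.E_central {y : G} (hy : y ∈ mGrp D x a) {e : G} (he : e ∈ eGrp D x a) : Commute y e :=
  (h.mem_cGrp' hx hxa ((h.mem_mGrp hx hxa).1 hy).1).2 e he

/-- The square of an element of `mGrp` centralises `x`. -/
theorem Ctx.sq_decomp {y : G} (hy : y ∈ mGrp D x a) :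
    ∃ k ∈ S.Q, ∃ v ∈ aGrp Ω x, y * y = k * v := by
  have hg : gOf x (y * y) = 1 := by
    rw [h.gOf_mul hx hxa hy hy]
    exact (h.eGrp_commute hx hxa ((h.mem_mGrp hx hxa).1 hy).2).2.2.1
  exact h.exists_decomp hx hxa hxb hba S ((h.mem_mGrp hx hxa).1 (mul_mem hy hy)).1
    ((gOf_eq_one_iff (invol_mul_self hx.invol)).1 hg)

/-- `mGrp` moves an element of `Q` into its coset of `A E`. -/
theorem Ctx.conj_Q {y : G} (hy : y ∈ mGrp D x a) {p : G} (hp : p ∈ S.Q) :
    ∃ e ∈ eGrp D x a, ∃ l ∈ aGrp Ω x, y * p * y⁻¹ = p * e * l := by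
  have hpM := h.Q_le_mGrp hx hxa hxb hba S hp
  have hg1 : gOf x p = 1 :=
    (gOf_eq_one_iff (invol_mul_self hx.invol)).2 (h.Q_props hx hxa hxb hba S hp).2.1
  have hg : gOf x (y * p * y⁻¹) = 1 := by
    rw [h.gOf_mul hx hxa (mul_mem hy hpM) (inv_mem hy), h.gOf_mul hx hxa hy hpM, hg1, mul_one,
      ← h.gOf_mul hx hxa hy (inv_mem hy), mul_inv_cancel,
      (gOf_eq_one_iff (invol_mul_self hx.invol)).2 (Commute.one_left x)]
  obtain ⟨p', hp', l, hl, e'⟩ := h.exists_decomp hx hxa hxb hba S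
    ((h.mem_mGrp hx hxa).1 (mul_mem (mul_mem hy hpM) (inv_mem hy))).1
    ((gOf_eq_one_iff (invol_mul_self hx.invol)).1 hg)
  have hc : Commute l p' := h.aGrp_commute_loc hl hx (h.Q_props hx hxa hxb hba S hp').2.2.1
  have hsq : p' * p' = p * p := by
    have hE : p * p ∈ eGrp D x a := (h.memOne_iff hx hxa).1 (S.sq p hp)
    calc p' * p' = p' * p' * (l * l) := by
          rw [(h.aGrp_elem hx hxa hxb hba S hl hl).1, mul_one]
      _ = p' * (p' * l) * l := by group
      _ = p' * (l * p') * l := by rw [hc.eq]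
      _ = (p' * l) * (p' * l) := by group
      _ = y * (p * p) * y⁻¹ := by rw [← e']; group
      _ = p * p := by rw [(h.E_central hx hxa hxb hba S hy hE).eq, mul_inv_cancel_right]
  refine ⟨p⁻¹ * p', (h.memOne_iff hx hxa).1 (S.sq_inj p hp p' hp' hsq.symm), l, hl, ?_⟩
  rw [e', mul_inv_cancel_left]

/-- The commutator of a square with `p` is a tie of `A`. -/
theorem Ctx.sq_conj {y : G} (hy : y ∈ mGrp D x a) {p : G} (hp : p ∈ S.Q) :
    ∃ l ∈ aGrp Ω x, ∃ w ∈ eGrp D x a, y * y * p * (y * y)⁻¹ = p * w ∧ Tie Ω x l (gOf x y) w := by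
  obtain ⟨e, he, l, hl, hc⟩ := h.conj_Q hx hxa hxb hba S hy hp
  obtain ⟨w, hw, hlw, ht⟩ := h.conj_aGrp hx hxa hxb hba S hy hl
  refine ⟨l, hl, w, hw, ?_, ht⟩
  have hey : y * e * y⁻¹ = e := by
    rw [(h.E_central hx hxa hxb hba S hy he).eq, mul_inv_cancel_right]
  have hle : Commute l e := (h.mem_cGrp' hx hxa (h.aGrp_le_cGrp hx hxa hl)).2 e he
  calc y * y * p * (y * y)⁻¹ = y * (y * p * y⁻¹) * y⁻¹ := by group
    _ = y * (p * e * l) * y⁻¹ := by rw [hc]
    _ = (y * p * y⁻¹) * (y * e * y⁻¹) * (y * l * y⁻¹) := by group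
    _ = p * e * l * e * (l * w) := by rw [hc, hey, hlw]
    _ = p * e * (l * e) * l * w := by group
    _ = p * (e * e) * (l * l) * w := by rw [hle.eq]; group
    _ = p * w := by
      rw [(h.eGrp_commute hx hxa he).2.2.1, (h.aGrp_elem hx hxa hxb hba S hl hl).1, mul_one,
        mul_one]

/-- The `Q`-coset of a square depends on the commutator only. -/
theorem Ctx.sq_coset {y z k k' v v' : G} (hy : y ∈ mGrp D x a) (hz : z ∈ mGrp D x a)
    (hg : gOf x y = gOf x z) (hk : k ∈ S.Q) (hk' : k' ∈ S.Q) (hv : v ∈ aGrp Ω x)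
    (hv' : v' ∈ aGrp Ω x) (e : y * y = k * v) (e' : z * z = k' * v') :
    k⁻¹ * k' ∈ eGrp D x a := by
  have hc : gOf x (y⁻¹ * z) = 1 := by
    have h1 := h.gOf_mul hx hxa hy (mul_mem (inv_mem hy) hz)
    rw [mul_inv_cancel_left, ← hg] at h1
    exact mul_left_cancel (h1.symm.trans (mul_one _).symm)
  obtain ⟨p, hp, v0, hv0, hpv⟩ := h.exists_decomp hx hxa hxb hba S
    ((h.mem_mGrp hx hxa).1 (mul_mem (inv_mem hy) hz)).1
    ((gOf_eq_one_iff (invol_mul_self hx.invol)).1 hc)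
  obtain ⟨e1, he1, l1, hl1, hc1⟩ := h.conj_Q hx hxa hxb hba S (inv_mem hy) hp
  obtain ⟨w1, hw1, hlw1, -⟩ := h.conj_aGrp hx hxa hxb hba S (inv_mem hy) hv0
  rw [inv_inv] at hc1 hlw1
  have hloc : ∀ {l : G}, l ∈ aGrp Ω x → ∀ {p : G}, p ∈ S.Q → Commute l p := by
    intro l hl p hp
    exact h.aGrp_commute_loc hl hx (h.Q_props hx hxa hxb hba S hp).2.2.1
  have hQC := fun {p : G} (hp : p ∈ S.Q) => h.Q_le_mGrp hx hxa hxb hba S hp
  have hzy : z = y * (p * v0) := by rw [← hpv, mul_inv_cancel_left]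
  have hzz : z * z = k * v * ((p * e1 * l1) * (v0 * w1) * (p * v0)) := by
    rw [← e, hzy, ← hlw1, ← hc1]
    group
  set E := eGrp D x a
  have hEQ := h.eGrp_le_Q hx hxa hxb hba S
  have hp2 : p * p ∈ E := (h.memOne_iff hx hxa).1 (S.sq p hp)
  have hEc : ∀ {y' : G}, y' ∈ mGrp D x a → ∀ {e : G}, e ∈ E → Commute y' e :=
    by intro y' hy' e he; exact h.E_central hx hxa hxb hba S hy' he
  have hAM : ∀ {l : G}, l ∈ aGrp Ω x → l ∈ mGrp D x a := fun hl => h.aGrp_le_mGrp hx hxa hl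
  -- collect
  have hfin : k * v * ((p * e1 * l1) * (v0 * w1) * (p * v0)) =
      (k * (p * p * e1 * w1)) * (v * l1) := by
    calc k * v * ((p * e1 * l1) * (v0 * w1) * (p * v0))
        = k * v * p * e1 * l1 * v0 * (w1 * p) * v0 := by group
      _ = k * v * p * e1 * l1 * v0 * (p * w1) * v0 := by rw [(hEc (hQC hp) hw1).eq]
      _ = k * v * p * e1 * l1 * (v0 * p) * (w1 * v0) := by group
      _ = k * v * p * e1 * l1 * (p * v0) * (v0 * w1) := by
          rw [(hloc hv0 hp).eq, (hEc (hAM hv0) hw1).eq]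
      _ = k * v * p * e1 * l1 * p * (v0 * v0) * w1 := by group
      _ = k * v * p * e1 * (l1 * p) * w1 := by
          rw [(h.aGrp_elem hx hxa hxb hba S hv0 hv0).1, mul_one]; group
      _ = k * v * p * e1 * (p * l1) * w1 := by rw [(hloc hl1 hp).eq]
      _ = k * v * p * (e1 * p) * (l1 * w1) := by group
      _ = k * v * p * (p * e1) * (w1 * l1) := by
          rw [(hEc (hAM hl1) hw1).eq, (hEc (hQC hp) he1).eq]
      _ = k * (v * (p * p * e1 * w1)) * l1 := by group
      _ = k * (p * p * e1 * w1 * v) * l1 := by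
          rw [(hEc (hAM hv) (mul_mem (mul_mem hp2 he1) hw1)).eq]
      _ = _ := by group
  have hek : k * (p * p * e1 * w1) ∈ S.Q :=
    mul_mem hk (hEQ (mul_mem (mul_mem hp2 he1) hw1))
  have hk2 : k' = k * (p * p * e1 * w1) := by
    have h1 : (k * (p * p * e1 * w1))⁻¹ * k' = (v * l1) * v'⁻¹ := by
      calc (k * (p * p * e1 * w1))⁻¹ * k'
          = (k * (p * p * e1 * w1))⁻¹ * (k' * v') * v'⁻¹ := by group
        _ = _ := by rw [← e', hzz, hfin]; group
    exact (inv_mul_eq_one.1 (h.Q_inf_aGrp hx hxa hxb hba S (mul_mem (inv_mem hek) hk')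
      (h1 ▸ mul_mem (mul_mem hv hl1) (inv_mem hv')))).symm
  rw [hk2, inv_mul_cancel_left]
  exact mul_mem (mul_mem hp2 he1) hw1

/-- The torus carries the data along. -/
theorem Ctx.T_conj {t : G} (ht : t ∈ S.T) {y : G} (hy : y ∈ mGrp D x a) :
    t * y * t⁻¹ ∈ mGrp D x a ∧ gOf x (t * y * t⁻¹) = t * gOf x y * t⁻¹ ∧
      ∀ f ∈ eGrp D x a, t * f * t⁻¹ ∈ eGrp D x a := by
  obtain ⟨⟨htl, hta⟩, -⟩ := S.T_le ht
  have htx : Commute t x := commute_of_mem_loc htl
  have hta' : t⁻¹ • a = a := inv_smul_eq_iff.2 (show t • a = a from hta).symm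
  have hg : gOf x (t * y * t⁻¹) = t * gOf x y * t⁻¹ := by
    rw [gOf, gOf]
    calc x * (t * y * t⁻¹ * x * (t * y * t⁻¹)⁻¹)
        = x * (t * (y * (t⁻¹ * x * t) * y⁻¹) * t⁻¹) := by group
      _ = x * (t * (y * x * y⁻¹) * t⁻¹) := by
          rw [htx.inv_left.eq, mul_assoc x, inv_mul_cancel, mul_one]
      _ = (x * t) * (y * x * y⁻¹) * t⁻¹ := by group
      _ = _ := by rw [← htx.eq]; group
  have htE : ∀ f ∈ eGrp D x a, t * f * t⁻¹ ∈ eGrp D x a := by
    intro f hf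
    rcases (h.mem_eGrp hx hxa).1 hf with rfl | hf'
    · rw [mul_one, mul_inv_cancel]; exact one_mem _
    · have h1 := CountsB.conj_memCent h.hM (g := t) hf'
      rw [htx.eq, mul_inv_cancel_right, show t • a = a from hta] at h1
      exact Subgroup.subset_closure h1
  refine ⟨(h.mem_mGrp hx hxa).2 ⟨mem_cGrp.2 ⟨?_, fun d hd => ?_⟩, hg ▸
    htE _ ((h.mem_mGrp hx hxa).1 hy).2⟩, hg, htE⟩
  · rw [mul_smul, mul_smul, hta', (h.mGrp_le hx hxa hy : y • a = a), hta]
  · have h1 := CountsB.conj_memCent h.hM (g := t⁻¹) hd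
    rw [htx.inv_left.eq, mul_inv_cancel_right, inv_inv, hta'] at h1
    have h2 := (mem_cGrp.1 ((h.mem_mGrp hx hxa).1 hy).1).2 _ h1
    show t * y * t⁻¹ * d = d * (t * y * t⁻¹)
    calc t * y * t⁻¹ * d = t * (y * (t⁻¹ * d * t)) * t⁻¹ := by group
      _ = t * (t⁻¹ * d * t * y) * t⁻¹ := by rw [h2.eq]
      _ = _ := by group

/-- One square outside `Q`-part `E` puts all of them outside. -/
theorem Ctx.sq_all {y k v : G} (hy : y ∈ mGrp D x a) (hg : gOf x y ≠ 1) (hk : k ∈ eGrp D x a)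
    (hv : v ∈ aGrp Ω x) (e : y * y = k * v) {z : G} (hz : z ∈ mGrp D x a) :
    z * z ∈ eGrp D x a := by
  have hxx := invol_mul_self hx.invol
  rcases eq_or_ne (gOf x z) 1 with hz1 | hz1
  · obtain ⟨p, hp, v0, hv0, rfl⟩ := h.exists_decomp hx hxa hxb hba S ((h.mem_mGrp hx hxa).1 hz).1
      ((gOf_eq_one_iff hxx).1 hz1)
    have hc : Commute v0 p := h.aGrp_commute_loc hv0 hx (h.Q_props hx hxa hxb hba S hp).2.2.1
    have h1 : p * v0 * (p * v0) = p * p := by
      calc p * v0 * (p * v0) = p * (v0 * p) * v0 := by group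
        _ = p * (p * v0) * v0 := by rw [hc.eq]
        _ = p * p * (v0 * v0) := by group
        _ = p * p := by rw [(h.aGrp_elem hx hxa hxb hba S hv0 hv0).1, mul_one]
    rw [h1]
    exact (h.memOne_iff hx hxa).1 (S.sq p hp)
  · have hd : gOf x y ∈ memCent D x a :=
      ((h.mem_eGrp hx hxa).1 ((h.mem_mGrp hx hxa).1 hy).2).resolve_left hg
    have hd' : gOf x z ∈ memCent D x a :=
      ((h.mem_eGrp hx hxa).1 ((h.mem_mGrp hx hxa).1 hz).2).resolve_left hz1
    obtain ⟨t, ht, hte⟩ := S.T_trans _ hd _ hd'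
    obtain ⟨htM, htg, htE⟩ := h.T_conj hx hxa hxb hba S ht hy
    have htl := (S.T_le ht).1.1
    obtain ⟨k', hk', v', hv', e'⟩ := h.sq_decomp hx hxa hxb hba S hz
    have h1 : t * y * t⁻¹ * (t * y * t⁻¹) = t * k * t⁻¹ * v := by
      calc t * y * t⁻¹ * (t * y * t⁻¹) = t * (y * y) * t⁻¹ := by group
        _ = t * k * t⁻¹ * (t * v * t⁻¹) := by rw [e]; group
        _ = _ := by rw [← (h.aGrp_commute_loc hv hx htl).eq, mul_inv_cancel_right]
    have h2 := h.sq_coset hx hxa hxb hba S htM hz (by rw [htg, hte])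
      (h.eGrp_le_Q hx hxa hxb hba S (htE k hk)) hk' hv hv' h1 e'
    have hk'E : k' ∈ eGrp D x a := by
      have h3 := mul_mem (htE k hk) h2
      rwa [mul_inv_cancel_left] at h3
    -- `z` centralises its square
    obtain ⟨w, hw, hzv, ht'⟩ := h.conj_aGrp hx hxa hxb hba S hz hv'
    have h3 : z * (k' * v') * z⁻¹ = k' * v' := by rw [← e']; group
    have h4 : z * (k' * v') * z⁻¹ = k' * (v' * w) := by
      rw [show z * (k' * v') * z⁻¹ = z * k' * z⁻¹ * (z * v' * z⁻¹) by group, hzv,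
        (h.E_central hx hxa hxb hba S hz hk'E).eq, mul_inv_cancel_right]
    have h5 : v' * w = v' * 1 := by rw [mul_one]; exact mul_left_cancel (h4.symm.trans h3)
    rw [mul_left_cancel h5] at ht'
    rw [e', h.tie_one hx hxa hxb hba S ((h.mem_mGrp hx hxa).1 hz).2 hz1 hv' ht', mul_one]
    exact hk'E

/-- If not all squares are in `E`, none outside the centraliser of `x` has its `Q`-part there. -/
theorem Ctx.exotic (hne : ¬ IsElem D x a) {y k v : G} (hy : y ∈ mGrp D x a) (hg : gOf x y ≠ 1)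
    (hk : k ∈ S.Q) (hv : v ∈ aGrp Ω x) (e : y * y = k * v) : k ∉ eGrp D x a :=
  fun hkE => hne fun _ hz => h.sq_all hx hxa hxb hba S hy hg hkE hv e hz

/-- In the exotic case `|A| ≥ q / 2`. -/
theorem Ctx.exotic_card (hne : ¬ IsElem D x a) : q ≤ 2 * Nat.card (aGrp Ω x) := by
  classical
  obtain ⟨y, hy, hy2⟩ : ∃ y ∈ mGrp D x a, y * y ∉ eGrp D x a := by
    by_contra hall
    push Not at hall
    exact hne hall
  have hg : gOf x y ≠ 1 := by
    intro hg
    obtain ⟨d, hd⟩ := CountsB.exists_commute h.hM x hx hxa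
    obtain ⟨p, hp, v0, hv0, rfl⟩ := h.exists_decomp hx hxa hxb hba S ((h.mem_mGrp hx hxa).1 hy).1
      ((gOf_eq_one_iff (invol_mul_self hx.invol)).1 hg)
    have hc : Commute v0 p := h.aGrp_commute_loc hv0 hx (h.Q_props hx hxa hxb hba S hp).2.2.1
    refine hy2 ?_
    have h1 : p * v0 * (p * v0) = p * p := by
      calc p * v0 * (p * v0) = p * (v0 * p) * v0 := by group
        _ = p * (p * v0) * v0 := by rw [hc.eq]
        _ = p * p * (v0 * v0) := by group
        _ = p * p := by rw [(h.aGrp_elem hx hxa hxb hba S hv0 hv0).1, mul_one]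
    rw [h1]
    exact (h.memOne_iff hx hxa).1 (S.sq p hp)
  obtain ⟨k, hk, v, hv, e⟩ := h.sq_decomp hx hxa hxb hba S hy
  have hkE := h.exotic hx hxa hxb hba S hne hy hg hk hv e
  -- the commutators with `k` are ties
  have hval : ∀ p : S.Q, ∃ l : aGrp Ω x, ∃ w ∈ eGrp D x a,
      k * p * k⁻¹ = p * w ∧ Tie Ω x l (gOf x y) w := by
    intro p
    obtain ⟨l, hl, w, hw, hc, ht⟩ := h.sq_conj hx hxa hxb hba S hy p.2
    refine ⟨⟨l, hl⟩, w, hw, ?_, ht⟩
    rw [← hc, e]
    have hvp : Commute v p.1 := h.aGrp_commute_loc hv hx (h.Q_props hx hxa hxb hba S p.2).2.2.1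
    calc k * p.1 * k⁻¹ = k * (p.1 * v) * v⁻¹ * k⁻¹ := by group
      _ = k * (v * p.1) * v⁻¹ * k⁻¹ := by rw [hvp.eq]
      _ = _ := by group
  choose f w hw hfw htie using hval
  haveI : Fintype S.Q := Fintype.ofFinite _
  haveI : Fintype (aGrp Ω x) := Fintype.ofFinite _
  have hfib : ∀ l : aGrp Ω x, (Finset.univ.filter fun p : S.Q => f p = l).card ≤ 2 * q := by
    intro l
    rcases (Finset.univ.filter fun p : S.Q => f p = l).eq_empty_or_nonempty with h0 | ⟨p0, hp0⟩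
    · rw [h0, Finset.card_empty]; exact Nat.zero_le _
    rw [Finset.mem_filter] at hp0
    have hin : ∀ p : S.Q, f p = l → p0.1⁻¹ * p.1 ∈ eGrp D x a ∨
        k⁻¹ * (p0.1⁻¹ * p.1) ∈ eGrp D x a := by
      intro p hpl
      have hww : w p = w p0 := by
        refine h.tie_unique hx hxa hxb hba S ((h.mem_mGrp hx hxa).1 hy).2 (hw p) (hw p0) (htie p) ?_
        rw [show f p = f p0 from hpl.trans hp0.2.symm]
        exact htie p0
      have hc : Commute k (p0.1⁻¹ * p.1) := by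
        have h1 : k * (p0.1⁻¹ * p.1) * k⁻¹ = p0.1⁻¹ * p.1 := by
          rw [show k * (p0.1⁻¹ * p.1) * k⁻¹ = (k * p0.1 * k⁻¹)⁻¹ * (k * p.1 * k⁻¹) by group,
            hfw p, hfw p0, hww, mul_inv_rev, (h.E_central hx hxa hxb hba S
              (h.Q_le_mGrp hx hxa hxb hba S p.2) (hw p0)).eq]
          calc (w p0)⁻¹ * p0.1⁻¹ * (w p0 * p.1) = (w p0)⁻¹ * (p0.1⁻¹ * w p0) * p.1 := by group
            _ = (w p0)⁻¹ * (w p0 * p0.1⁻¹) * p.1 := by
                rw [((h.E_central hx hxa hxb hba S (h.Q_le_mGrp hx hxa hxb hba S p0.2)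
                  (hw p0)).inv_left).eq]
            _ = _ := by group
        exact mul_inv_eq_iff_eq_mul.1 h1
      rcases S.comm_cases k hk _ (mul_mem (inv_mem p0.2) p.2) hc with h1 | h1 | h1
      · exact absurd ((h.memOne_iff hx hxa).1 h1) hkE
      · exact Or.inl ((h.memOne_iff hx hxa).1 h1)
      · exact Or.inr ((h.memOne_iff hx hxa).1 h1)
    have hle : Nat.card {p : S.Q // f p = l} ≤ Nat.card (eGrp D x a ⊕ eGrp D x a) := by
      refine Nat.card_le_card_of_injective (fun p =>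
        if hm : p0.1⁻¹ * p.1.1 ∈ eGrp D x a then Sum.inl (⟨_, hm⟩ : eGrp D x a)
        else Sum.inr ⟨_, (hin p.1 p.2).resolve_left hm⟩) ?_
      intro p p' e
      dsimp only at e
      split_ifs at e with hm hm'
      · exact Subtype.ext (Subtype.ext (mul_left_cancel
          (congrArg (fun z : eGrp D x a ⊕ eGrp D x a => z.elim Subtype.val Subtype.val) e)))
      · exact Subtype.ext (Subtype.ext (mul_left_cancel (mul_left_cancel
          (congrArg (fun z : eGrp D x a ⊕ eGrp D x a => z.elim Subtype.val Subtype.val) e))))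
    rw [Nat.card_sum, h.card_eGrp hx hxa, Nat.card_eq_fintype_card, Fintype.card_subtype] at hle
    omega
  have hsum : Nat.card S.Q ≤ Nat.card (aGrp Ω x) * (2 * q) := by
    rw [Nat.card_eq_fintype_card, Nat.card_eq_fintype_card, ← Finset.card_univ,
      Finset.card_eq_sum_card_fiberwise (f := f) (t := Finset.univ) (fun p _ => Finset.mem_univ _)]
    refine (Finset.sum_le_sum fun l _ => hfib l).trans (le_of_eq ?_)
    rw [Finset.sum_const, smul_eq_mul, Finset.card_univ]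
  rw [S.card_Q] at hsum
  have hq := h.eight_le
  nlinarith

/-- In the exotic case the `Q`-coset of the square determines the commutator. -/
theorem Ctx.exotic_inj (hne : ¬ IsElem D x a) {y z k k' v v' : G} (hy : y ∈ mGrp D x a)
    (hz : z ∈ mGrp D x a) (hgy : gOf x y ≠ 1) (hgz : gOf x z ≠ 1) (hk : k ∈ S.Q) (hk' : k' ∈ S.Q)
    (hv : v ∈ aGrp Ω x) (hv' : v' ∈ aGrp Ω x) (e : y * y = k * v) (e' : z * z = k' * v')
    (heq : k⁻¹ * k' ∈ eGrp D x a) : gOf x y = gOf x z := by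
  classical
  have hd : gOf x y ∈ memCent D x a :=
    ((h.mem_eGrp hx hxa).1 ((h.mem_mGrp hx hxa).1 hy).2).resolve_left hgy
  have hd' : gOf x z ∈ memCent D x a :=
    ((h.mem_eGrp hx hxa).1 ((h.mem_mGrp hx hxa).1 hz).2).resolve_left hgz
  obtain ⟨t, ht, hte⟩ := S.T_trans _ hd _ hd'
  obtain ⟨htM, htg, -⟩ := h.T_conj hx hxa hxb hba S ht hy
  have htl := (S.T_le ht).1.1
  have h1 : t * y * t⁻¹ * (t * y * t⁻¹) = t * k * t⁻¹ * v := by
    calc t * y * t⁻¹ * (t * y * t⁻¹) = t * (y * y) * t⁻¹ := by group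
      _ = t * k * t⁻¹ * (t * v * t⁻¹) := by rw [e]; group
      _ = _ := by rw [← (h.aGrp_commute_loc hv hx htl).eq, mul_inv_cancel_right]
  have h2 := h.sq_coset hx hxa hxb hba S htM hz (by rw [htg, hte]) (S.T_norm t ht k hk) hk' hv
    hv' h1 e'
  have hkE := h.exotic hx hxa hxb hba S hne hy hgy hk hv e
  -- `t` fixes the coset of `k`, so it is trivial
  have hfix : (t * k * t⁻¹)⁻¹ * k ∈ eGrp D x a := by
    have h3 := mul_mem h2 (inv_mem heq)
    have e3 : (t * k * t⁻¹)⁻¹ * k' * (k⁻¹ * k')⁻¹ = (t * k * t⁻¹)⁻¹ * k := by group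
    rwa [e3] at h3
  let X : Set (S.Q ⧸ ((eGrp D x a).subgroupOf S.Q)) := {c | c ≠ ((1 : S.Q) : S.Q ⧸ _)}
  have hval : ∀ s : S.T, ((⟨s * k * (s : G)⁻¹, S.T_norm s s.2 k hk⟩ : S.Q) :
      S.Q ⧸ ((eGrp D x a).subgroupOf S.Q)) ∈ X := by
    intro s he
    have hse : (s : G) * k * (s : G)⁻¹ ∈ eGrp D x a := by
      have h4 := QuotientGroup.eq.1 he.symm
      rw [inv_one, one_mul] at h4
      exact Subgroup.mem_subgroupOf.1 h4
    obtain ⟨-, -, hsE⟩ := h.T_conj hx hxa hxb hba S (inv_mem s.2) hy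
    have h5 := hsE _ hse
    rw [show (s : G)⁻¹ * (s * k * (s : G)⁻¹) * ((s : G)⁻¹)⁻¹ = k by group] at h5
    exact hkE h5
  let f : S.T → X := fun s => ⟨_, hval s⟩
  have hsurj : Function.Surjective f := by
    rintro ⟨c, hc⟩
    induction c using QuotientGroup.induction_on with
    | _ c =>
      have hcE : (c : G) ∉ memOne D x a := fun hm => hc (Eq.symm (QuotientGroup.eq.2 (by
        rw [inv_one, one_mul, Subgroup.mem_subgroupOf]
        exact (h.memOne_iff hx hxa).1 hm)))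
      obtain ⟨s, hs, hsc⟩ := S.T_trans_top k hk c c.2
        (fun hm => hkE ((h.memOne_iff hx hxa).1 hm)) hcE
      exact ⟨⟨s, hs⟩, Subtype.ext (QuotientGroup.eq.2 (Subgroup.mem_subgroupOf.2
        ((h.memOne_iff hx hxa).1 hsc)))⟩
  have hcard : Nat.card S.T ≤ Nat.card X := by
    have h1 : Nat.card (S.Q ⧸ ((eGrp D x a).subgroupOf S.Q)) * q = q * q := by
      rw [← pow_two, ← S.card_Q,
        Subgroup.card_eq_card_quotient_mul_card_subgroup ((eGrp D x a).subgroupOf S.Q),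
        Nat.card_congr (Subgroup.subgroupOfEquivOfLe (h.eGrp_le_Q hx hxa hxb hba S)).toEquiv,
        h.card_eGrp hx hxa]
    have hq := h.eight_le
    have h2 : Nat.card (S.Q ⧸ ((eGrp D x a).subgroupOf S.Q)) = q :=
      Nat.eq_of_mul_eq_mul_right (by omega) h1
    rw [S.card_T, show Nat.card X = Nat.card ↥(Set.univ \ {((1 : S.Q) : S.Q ⧸ _)}) from
      Nat.card_congr (Equiv.setCongr (by ext c; simp [X])), Nat.card_coe_set_eq,
      Set.ncard_sdiff_singleton_of_mem (Set.mem_univ _), Set.ncard_univ, h2]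
  have hinj : Function.Injective f := (hsurj.bijective_of_nat_card_le hcard).1
  have ht1 : (⟨t, ht⟩ : S.T) = 1 := hinj (Subtype.ext (QuotientGroup.eq.2
    (Subgroup.mem_subgroupOf.2 (by
      show (t * k * t⁻¹)⁻¹ * (1 * k * (1 : G)⁻¹) ∈ eGrp D x a
      simpa using hfix))))
  rw [show t = 1 from congrArg Subtype.val ht1] at hte
  simpa using hte

/-- An involution of `mGrp` outside the centraliser of `x` needs elementary squares. -/
theorem Ctx.exotic_invol (hne : ¬ IsElem D x a) {y : G} (hy : y ∈ mGrp D x a) (hy2 : y * y = 1) :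
    ∃ v ∈ aGrp Ω x, ∃ e ∈ eGrp D x a, y = v * e := by
  have hg : gOf x y = 1 := by
    by_contra hg
    exact h.exotic hx hxa hxb hba S hne hy hg (one_mem _) (one_mem _) (by rw [hy2, mul_one])
      (one_mem _)
  exact h.invol_decomp hx hxa hxb hba S ((h.mem_mGrp hx hxa).1 hy).1
    ((gOf_eq_one_iff (invol_mul_self hx.invol)).1 hg) hy2

/-- With elementary squares commutators are in `E`. -/
theorem Ctx.commutator_mem (hel : IsElem D x a) {y z : G} (hy : y ∈ mGrp D x a)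
    (hz : z ∈ mGrp D x a) : y * z * y⁻¹ * z⁻¹ ∈ eGrp D x a := by
  have h1 : y * z * y⁻¹ * z⁻¹ = y * z * (y * z) * ((z * z)⁻¹ * (y * y)⁻¹) := by
    have hc : Commute z⁻¹ (y * y)⁻¹ :=
      ((h.E_central hx hxa hxb hba S hz (hel y hy)).inv_inv)
    have h2 : (z * z)⁻¹ * (y * y)⁻¹ = z⁻¹ * (y * y)⁻¹ * z⁻¹ :=
      calc (z * z)⁻¹ * (y * y)⁻¹ = z⁻¹ * (z⁻¹ * (y * y)⁻¹) := by group
        _ = z⁻¹ * ((y * y)⁻¹ * z⁻¹) := by rw [hc.eq]
        _ = _ := by group
    rw [h2]
    group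
  rw [h1]
  exact mul_mem (hel _ (mul_mem hy hz)) (mul_mem (inv_mem (hel z hz)) (inv_mem (hel y hy)))

end Cfsg.Agent.Lib.Crit5.KillTwo
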