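import Cfsg.Agent.Lib.Crit5.KillTwoLocal
import Cfsg.Agent.Lib.Involutions.StronglyEmbedded

/-!
# The single fixed point criterion, section C2: translations and the Sylow subgroup

`mGrp x a = {y ∈ C | [y, x] ∈ E}` is a `2`-group of order `q³|A|`; it moves `v ∈ A` by the tie of
`v`.  Some bad involution at `a` has it as a largest `2`-subgroup of `G_a` (`exists_top`).

Owner: helper31.
-/

set_option autoImplicit false
set_option linter.style.haveILetI false
set_option linter.unusedSectionVars false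

namespace Cfsg.Agent.Lib.Crit5.KillTwo

open MulAction Cfsg.Agent.Lib.Involutions.Basic
open Cfsg.Agent.Lib.Crit8 (Action Pre Bad memAt memSwap loc)

universe u

variable {G Ω : Type u} [Group G] [MulAction G Ω] {D : Set G}

/-- The commutator of `x` and `y`. -/
def gOf (x y : G) : G := x * (y * x * y⁻¹)

theorem conj_eq_gOf {x : G} (hxx : x * x = 1) (y : G) : y * x * y⁻¹ = x * gOf x y := by
  rw [gOf, ← mul_assoc x x, hxx, one_mul]

theorem gOf_mul_of {x : G} (hxx : x * x = 1) {y z : G} (h : Commute y (gOf x z)) :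
    gOf x (y * z) = gOf x y * gOf x z := by
  rw [gOf, show y * z * x * (y * z)⁻¹ = y * (z * x * z⁻¹) * y⁻¹ by group, conj_eq_gOf hxx z,
    show y * (x * gOf x z) * y⁻¹ = y * x * y⁻¹ * (y * gOf x z * y⁻¹) by group, h.eq,
    mul_inv_cancel_right, ← mul_assoc]
  rfl

theorem gOf_eq_one_iff {x : G} (hxx : x * x = 1) {y : G} : gOf x y = 1 ↔ Commute y x := by
  constructor
  · intro h
    have h1 := conj_eq_gOf hxx y
    rw [h, mul_one] at h1
    exact mul_inv_eq_iff_eq_mul.1 h1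
  · intro h
    rw [gOf, h.eq, mul_inv_cancel_right, hxx]

/-- The elements of `C` whose commutator with `x` is in `E`, closed up. -/
def mGrp (D : Set G) (x : G) (a : Ω) : Subgroup G :=
  Subgroup.closure {y | y ∈ cGrp D x a ∧ gOf x y ∈ eGrp D x a}

/-- `mGrp x a` is as large as any `2`-subgroup fixing `a`. -/
def IsTop (D : Set G) (x : G) (a : Ω) : Prop :=
  ∀ P : Subgroup G, IsPGroup 2 P → P ≤ stabilizer G a → Nat.card P ≤ Nat.card (mGrp D x a)

variable [Finite G] {q r : ℕ} (h : Ctx G Ω D q r) {x : G} {a b : Ω}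
variable (hx : Bad G Ω x) (hxa : x • a = a)
include h hx hxa

theorem Ctx.mem_mGrp {y : G} :
    y ∈ mGrp D x a ↔ y ∈ cGrp D x a ∧ gOf x y ∈ eGrp D x a := by
  have hxx := invol_mul_self hx.invol
  refine ⟨fun hy => ?_, fun hy => Subgroup.subset_closure hy⟩
  induction hy using Subgroup.closure_induction with
  | mem y hy => exact hy
  | one => exact ⟨one_mem _, by rw [(gOf_eq_one_iff hxx).2 (Commute.one_left x)]; exact one_mem _⟩
  | mul y z _ _ hy hz =>
    refine ⟨mul_mem hy.1 hz.1, ?_⟩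
    rw [gOf_mul_of hxx ((h.mem_cGrp' hx hxa hy.1).2 _ hz.2)]
    exact mul_mem hy.2 hz.2
  | inv y _ hy =>
    refine ⟨inv_mem hy.1, ?_⟩
    have hc := (h.mem_cGrp' hx hxa hy.1).2 _ hy.2
    have : gOf x y⁻¹ = (gOf x y)⁻¹ := by
      have h1 : y⁻¹ * (y * x * y⁻¹) * y = x := by group
      rw [conj_eq_gOf hxx] at h1
      have h2 : y⁻¹ * x * y * gOf x y = x := by
        calc y⁻¹ * x * y * gOf x y = y⁻¹ * x * (y * gOf x y) := by group
          _ = y⁻¹ * x * (gOf x y * y) := by rw [hc.eq]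
          _ = y⁻¹ * (x * gOf x y) * y := by group
          _ = x := h1
      rw [gOf, inv_inv, eq_inv_iff_mul_eq_one, mul_assoc x, h2, hxx]
    rw [this]
    exact inv_mem hy.2

theorem Ctx.gOf_mul {y z : G} (hy : y ∈ mGrp D x a) (hz : z ∈ mGrp D x a) :
    gOf x (y * z) = gOf x y * gOf x z :=
  gOf_mul_of (invol_mul_self hx.invol)
    ((h.mem_cGrp' hx hxa ((h.mem_mGrp hx hxa).1 hy).1).2 _ ((h.mem_mGrp hx hxa).1 hz).2)

theorem Ctx.mem_mGrp_of_commute {y : G} (hy : y ∈ cGrp D x a) (hyx : Commute y x) :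
    y ∈ mGrp D x a := by
  rw [h.mem_mGrp hx hxa, (gOf_eq_one_iff (invol_mul_self hx.invol)).2 hyx]
  exact ⟨hy, one_mem _⟩

theorem Ctx.mGrp_le : mGrp D x a ≤ stabilizer G a := fun _ hy =>
  (mem_cGrp.1 ((h.mem_mGrp hx hxa).1 hy).1).1

theorem Ctx.aGrp_le_mGrp : aGrp Ω x ≤ mGrp D x a := fun _ hv =>
  h.mem_mGrp_of_commute hx hxa (h.aGrp_le_cGrp hx hxa hv) (mem_aGrp.1 hv).2

theorem Ctx.eGrp_le_mGrp : eGrp D x a ≤ mGrp D x a := fun _ hg =>
  have h1 := h.eGrp_commute hx hxa hg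
  h.mem_mGrp_of_commute hx hxa (mem_cGrp.2 ⟨h1.2.1, fun d hd => h1.2.2.2 d (Subgroup.subset_closure hd)⟩)
    h1.1

/-- Translations: the commutator takes every value in `E`. -/
theorem Ctx.exists_gOf {g : G} (hg : g ∈ eGrp D x a) : ∃ y ∈ mGrp D x a, gOf x y = g := by
  rcases (h.mem_eGrp hx hxa).1 hg with rfl | hd
  · exact ⟨1, one_mem _, (gOf_eq_one_iff (invol_mul_self hx.invol)).2 (Commute.one_left x)⟩
  obtain ⟨s, hsa, hsc, hsx⟩ := h.pure x a hx hxa g hd
  have hgs : gOf x s = g := by rw [gOf, hsx, ← mul_assoc, invol_mul_self hx.invol, one_mul]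
  exact ⟨s, (h.mem_mGrp hx hxa).2 ⟨mem_cGrp.2 ⟨hsa, hsc⟩, hgs ▸ hg⟩, hgs⟩

variable (hxb : x • b = b) (hba : b ≠ a) (S : Sz D x a b q)
include hxb hba S

theorem Ctx.Q_le_mGrp : S.Q ≤ mGrp D x a := fun y hy =>
  h.mem_mGrp_of_commute hx hxa (h.Q_props hx hxa hxb hba S hy).2.2.2
    (h.Q_props hx hxa hxb hba S hy).2.1

theorem Ctx.eq_of_mul_eq {v v' w w' : G} (hv : v ∈ aGrp Ω x) (hv' : v' ∈ aGrp Ω x)
    (hw : w ∈ eGrp D x a) (hw' : w' ∈ eGrp D x a) (e : v * w = v' * w') : v = v' ∧ w = w' := by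
  have h1 : v'⁻¹ * v = w' * w⁻¹ := by
    calc v'⁻¹ * v = v'⁻¹ * (v * w) * w⁻¹ := by group
      _ = w' * w⁻¹ := by rw [e]; group
  have h2 : v'⁻¹ * v = 1 := h.Q_inf_aGrp hx hxa hxb hba S
    (h1 ▸ h.eGrp_le_Q hx hxa hxb hba S (mul_mem hw' (inv_mem hw))) (mul_mem (inv_mem hv') hv)
  have h3 : v = v' := (inv_mul_eq_one.1 h2).symm
  subst h3
  exact ⟨rfl, mul_left_cancel e⟩

/-- Elements of `C` centralising `x` centralise `A`. -/
theorem Ctx.commute_aGrp {y : G} (hy : y ∈ cGrp D x a) (hyx : Commute y x) {v : G}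
    (hv : v ∈ aGrp Ω x) : Commute y v := by
  obtain ⟨k, hk, v', hv', rfl⟩ := h.exists_decomp hx hxa hxb hba S hy hyx
  exact Commute.mul_left
    (h.aGrp_commute_loc hv hx (h.Q_props hx hxa hxb hba S hk).2.2.1).symm
    (h.aGrp_elem hx hxa hxb hba S hv' hv).2

theorem Ctx.conj_decomp {y : G} (hy : y ∈ mGrp D x a) {v : G} (hv : v ∈ aGrp Ω x) :
    ∃ v' ∈ aGrp Ω x, ∃ w ∈ eGrp D x a, y * v * y⁻¹ = v' * w ∧
      FixesAll (Ω := Ω) (x * gOf x y) (y * v * y⁻¹) := by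
  classical
  obtain ⟨hyC, hg⟩ := (h.mem_mGrp hx hxa).1 hy
  have hxx := invol_mul_self hx.invol
  have hconj : y * x * y⁻¹ = x * gOf x y := conj_eq_gOf hxx y
  have hsub : ∀ u ∈ aGrp Ω x, y * u * y⁻¹ ∈ aGrp Ω (x * gOf x y) := by
    intro u hu
    obtain ⟨hf, hc⟩ := mem_aGrp.1 hu
    refine mem_aGrp.2 ⟨fun p hp => ?_, ?_⟩
    · rw [← hconj, mul_smul, mul_smul, ← eq_inv_smul_iff] at hp
      rw [mul_smul, mul_smul, hf _ hp, smul_inv_smul]
    · rw [← hconj]
      show y * u * y⁻¹ * (y * x * y⁻¹) = y * x * y⁻¹ * (y * u * y⁻¹)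
      calc y * u * y⁻¹ * (y * x * y⁻¹) = y * (u * x) * y⁻¹ := by group
        _ = y * (x * u) * y⁻¹ := by rw [hc.eq]
        _ = _ := by group
  choose w hwE hwt using fun u : aGrp Ω x => h.exists_tie hx hxa hxb hba S hg u.2
  have htie : ∀ u : aGrp Ω x, (u : G) * w u ∈ aGrp Ω (x * gOf x y) := fun u =>
    mem_aGrp.2 ⟨hwt u, by
      have hc1 : Commute (u : G) (x * gOf x y) := (mem_aGrp.1 u.2).2.mul_right
        ((h.mem_cGrp' hx hxa (h.aGrp_le_cGrp hx hxa u.2)).2 _ hg)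
      have hc2 : Commute (w u) (x * gOf x y) := (h.eGrp_commute hx hxa (hwE u)).1.mul_right
        ((h.eGrp_commute hx hxa (hwE u)).2.2.2 _ hg)
      exact hc1.mul_left hc2⟩
  let f : aGrp Ω x → aGrp Ω (x * gOf x y) := fun u => ⟨u.1 * w u, htie u⟩
  let g : aGrp Ω (x * gOf x y) → aGrp Ω x := fun u => ⟨y⁻¹ * u.1 * y, by
    obtain ⟨hf, hc⟩ := mem_aGrp.1 u.2
    refine mem_aGrp.2 ⟨fun p hp => ?_, ?_⟩
    · have : (x * gOf x y) • y • p = y • p := by
        rw [← hconj, mul_smul, mul_smul, inv_smul_smul, hp]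
      rw [mul_smul, mul_smul, hf _ this, inv_smul_smul]
    · have hc' : Commute u.1 (y * x * y⁻¹) := by rw [hconj]; exact hc
      show y⁻¹ * u.1 * y * x = x * (y⁻¹ * u.1 * y)
      calc y⁻¹ * u.1 * y * x = y⁻¹ * (u.1 * (y * x * y⁻¹)) * y := by group
        _ = y⁻¹ * (y * x * y⁻¹ * u.1) * y := by rw [hc'.eq]
        _ = _ := by group⟩
  have hf : Function.Injective f := fun u u' e => Subtype.ext
    (h.eq_of_mul_eq hx hxa hxb hba S u.2 u'.2 (hwE u) (hwE u') (congrArg Subtype.val e)).1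
  have hg' : Function.Injective g := fun u u' e => Subtype.ext (by
    have e' : y⁻¹ * u.1 * y = y⁻¹ * u'.1 * y := congrArg Subtype.val e
    simpa using e')
  obtain ⟨u, hu⟩ := (hf.bijective_of_nat_card_le (Nat.card_le_card_of_injective g hg')).2
    ⟨_, hsub v hv⟩
  have hu' : (u : G) * w u = y * v * y⁻¹ := congrArg Subtype.val hu
  exact ⟨u.1, u.2, w u, hwE u, hu'.symm, (mem_aGrp.1 (hsub v hv)).1⟩

/-- An element of `mGrp` moves `v ∈ A` by the tie of `v` at its commutator. -/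
theorem Ctx.conj_aGrp {y : G} (hy : y ∈ mGrp D x a) {v : G} (hv : v ∈ aGrp Ω x) :
    ∃ w ∈ eGrp D x a, y * v * y⁻¹ = v * w ∧ Tie Ω x v (gOf x y) w := by
  classical
  have hxx := invol_mul_self hx.invol
  choose σ hσA τ hτE hσ hfix using fun (z : mGrp D x a) (u : aGrp Ω x) =>
    h.conj_decomp hx hxa hxb hba S z.2 u.2
  let s : mGrp D x a → aGrp Ω x → aGrp Ω x := fun z u => ⟨σ z u, hσA z u⟩
  have huniq : ∀ (z : mGrp D x a) (u : aGrp Ω x) (u' w' : G), u' ∈ aGrp Ω x → w' ∈ eGrp D x a →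
      (z : G) * u * (z : G)⁻¹ = u' * w' → σ z u = u' := fun z u u' w' hu' hw' e =>
    (h.eq_of_mul_eq hx hxa hxb hba S (hσA z u) hu' (hτE z u) hw' ((hσ z u).symm.trans e)).1
  have hmul : ∀ z z' u, s (z * z') u = s z (s z' u) := by
    intro z z' u
    refine Subtype.ext (huniq _ _ _ (τ z (s z' u) * τ z' u) (hσA z _)
      (mul_mem (hτE z _) (hτE z' u)) ?_)
    have hc : Commute (z : G) (τ z' u) :=
      (h.mem_cGrp' hx hxa ((h.mem_mGrp hx hxa).1 z.2).1).2 _ (hτE z' u)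
    show (z : G) * z' * u * ((z : G) * z')⁻¹ = σ z (s z' u) * (τ z (s z' u) * τ z' u)
    rw [show (z : G) * z' * u * ((z : G) * z')⁻¹ = z * (z' * u * (z' : G)⁻¹) * (z : G)⁻¹ by group,
      hσ z' u, show (z : G) * (σ z' u * τ z' u) * (z : G)⁻¹ =
        z * σ z' u * (z : G)⁻¹ * (z * τ z' u * (z : G)⁻¹) by group, hc.eq, mul_inv_cancel_right,
      hσ z (s z' u)]
    group
  have hone : ∀ z : mGrp D x a, Commute (z : G) x → ∀ u, s z u = u := fun z hz u =>
    Subtype.ext (huniq z u u 1 u.2 (one_mem _) (by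
      rw [(h.commute_aGrp hx hxa hxb hba S ((h.mem_mGrp hx hxa).1 z.2).1 hz u.2).eq,
        mul_inv_cancel_right, mul_one]))
  -- the value depends on the commutator only
  have hdep : ∀ z z' : mGrp D x a, gOf x (z : G) = gOf x (z' : G) → ∀ u, s z u = s z' u := by
    intro z z' e u
    have hc : Commute (((z'⁻¹ * z : mGrp D x a)) : G) x := by
      rw [← gOf_eq_one_iff hxx]
      have h1 := h.gOf_mul hx hxa z'.2 (z'⁻¹ * z).2
      rw [show (z' : G) * ((z'⁻¹ * z : mGrp D x a) : G) = z by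
        simp only [Subgroup.coe_mul, Subgroup.coe_inv]; group, e] at h1
      exact mul_left_cancel (h1.symm.trans (mul_one _).symm)
    calc s z u = s (z' * (z'⁻¹ * z)) u := by rw [mul_inv_cancel_left]
      _ = s z' u := by rw [hmul, hone _ hc]
  -- and is the same for all non-trivial commutators
  have hT : ∀ z z' : mGrp D x a, gOf x (z : G) ≠ 1 → gOf x (z' : G) ≠ 1 → ∀ u, s z u = s z' u := by
    intro z z' hz hz' u
    have hd : gOf x (z : G) ∈ memCent D x a :=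
      ((h.mem_eGrp hx hxa).1 ((h.mem_mGrp hx hxa).1 z.2).2).resolve_left hz
    have hd' : gOf x (z' : G) ∈ memCent D x a :=
      ((h.mem_eGrp hx hxa).1 ((h.mem_mGrp hx hxa).1 z'.2).2).resolve_left hz'
    obtain ⟨t, ht, hte⟩ := S.T_trans _ hd _ hd'
    obtain ⟨⟨htl, hta⟩, -⟩ := S.T_le ht
    have htx : Commute t x := commute_of_mem_loc htl
    have htu : ∀ u ∈ aGrp Ω x, Commute t u := fun u hu => (h.aGrp_commute_loc hu hx htl).symm
    have htE : ∀ f, f ∈ eGrp D x a → t * f * t⁻¹ ∈ eGrp D x a := by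
      intro f hf
      rcases (h.mem_eGrp hx hxa).1 hf with rfl | hf'
      · rw [mul_one, mul_inv_cancel]; exact one_mem _
      · have h1 := CountsB.conj_memCent h.hM (g := t) hf'
        rw [htx.eq, mul_inv_cancel_right, show t • a = a from hta] at h1
        exact Subgroup.subset_closure h1
    have hgt : gOf x (t * (z : G) * t⁻¹) = gOf x (z' : G) := by
      rw [← hte, gOf, gOf]
      calc x * (t * (z : G) * t⁻¹ * x * (t * (z : G) * t⁻¹)⁻¹)
          = x * (t * ((z : G) * (t⁻¹ * x * t) * (z : G)⁻¹) * t⁻¹) := by group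
        _ = x * (t * ((z : G) * x * (z : G)⁻¹) * t⁻¹) := by
            rw [htx.inv_left.eq, mul_assoc x, inv_mul_cancel, mul_one]
        _ = (x * t) * ((z : G) * x * (z : G)⁻¹) * t⁻¹ := by group
        _ = t * (x * ((z : G) * x * (z : G)⁻¹)) * t⁻¹ := by rw [← htx.eq]; group
    have htz : t * (z : G) * t⁻¹ ∈ mGrp D x a := by
      rw [h.mem_mGrp hx hxa, hgt]
      refine ⟨mem_cGrp.2 ⟨?_, fun d hd => ?_⟩, ((h.mem_mGrp hx hxa).1 z'.2).2⟩
      · rw [mul_smul, mul_smul, inv_smul_eq_iff.2 (show t • a = a from hta).symm,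
          (h.mGrp_le hx hxa z.2 : (z : G) • a = a), hta]
      · have h1 := CountsB.conj_memCent h.hM (g := t⁻¹) hd
        rw [htx.inv_left.eq, mul_inv_cancel_right, inv_inv,
          inv_smul_eq_iff.2 (show t • a = a from hta).symm] at h1
        have h2 := (mem_cGrp.1 ((h.mem_mGrp hx hxa).1 z.2).1).2 _ h1
        show t * (z : G) * t⁻¹ * d = d * (t * (z : G) * t⁻¹)
        calc t * (z : G) * t⁻¹ * d = t * ((z : G) * (t⁻¹ * d * t)) * t⁻¹ := by group
          _ = t * (t⁻¹ * d * t * (z : G)) * t⁻¹ := by rw [h2.eq]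
          _ = _ := by group
    refine (Subtype.ext (huniq ⟨_, htz⟩ u (σ z u) (t * τ z u * t⁻¹) (hσA z u) (htE _ (hτE z u)) ?_)
      : s ⟨_, htz⟩ u = s z u).symm.trans (hdep ⟨_, htz⟩ z' hgt u)
    show t * (z : G) * t⁻¹ * u * (t * (z : G) * t⁻¹)⁻¹ = σ z u * (t * τ z u * t⁻¹)
    calc t * (z : G) * t⁻¹ * u * (t * (z : G) * t⁻¹)⁻¹
        = t * ((z : G) * (t⁻¹ * u * t) * (z : G)⁻¹) * t⁻¹ := by group
      _ = t * ((z : G) * u * (z : G)⁻¹) * t⁻¹ := by
          rw [(htu u u.2).inv_left.eq, inv_mul_cancel_right]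
      _ = t * σ z u * τ z u * t⁻¹ := by rw [hσ z u]; group
      _ = _ := by rw [(htu _ (hσA z u)).eq]; group
  -- so it is trivial
  have htriv : ∀ (z : mGrp D x a) (u : aGrp Ω x), s z u = u := by
    intro z u
    rcases eq_or_ne (gOf x (z : G)) 1 with hz | hz
    · exact hone z ((gOf_eq_one_iff hxx).1 hz) u
    obtain ⟨d', hd', hne⟩ : ∃ d' ∈ memCent D x a, d' ≠ gOf x (z : G) := by
      obtain ⟨e1, he1, e2, he2, he12, -⟩ := h.four x a hx hxa
      rcases eq_or_ne e1 (gOf x (z : G)) with e | e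
      · exact ⟨e2, he2, fun e' => he12 (e.trans e'.symm)⟩
      · exact ⟨e1, he1, e⟩
    obtain ⟨z', hz', hgz'⟩ := h.exists_gOf hx hxa (Subgroup.subset_closure hd')
    have hz'1 : gOf x z' ≠ 1 := hgz' ▸ invol_ne_one (h.pre.invol d' hd'.1.1)
    have hne' : gOf x (z : G) * gOf x z' ≠ 1 := by
      intro e
      have hE : gOf x (z : G) ∈ eGrp D x a := ((h.mem_mGrp hx hxa).1 z.2).2
      refine hne ?_
      rw [← hgz', eq_inv_of_mul_eq_one_right e, inv_eq_of_mul_eq_one_right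
        (h.eGrp_commute hx hxa hE).2.2.1]
    have h1 := hmul z ⟨z', hz'⟩ u
    rw [← hT z (z * ⟨z', hz'⟩) hz (by rw [Subgroup.coe_mul, h.gOf_mul hx hxa z.2 hz']; exact hne') u,
      ← hT z ⟨z', hz'⟩ hz hz'1 u] at h1
    -- `σ = σ ∘ σ` and `σ` is injective
    have hinj : Function.Injective (s z) := by
      intro u1 u2 e
      have := congrArg (s z⁻¹) e
      rwa [← hmul, ← hmul, inv_mul_cancel, hone 1 (Commute.one_left x),
        hone 1 (Commute.one_left x)] at this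
    exact (hinj h1).symm
  refine ⟨τ ⟨y, hy⟩ ⟨v, hv⟩, hτE _ _, ?_, ?_⟩
  · have h1 := hσ ⟨y, hy⟩ ⟨v, hv⟩
    rwa [show σ ⟨y, hy⟩ ⟨v, hv⟩ = v from congrArg Subtype.val (htriv ⟨y, hy⟩ ⟨v, hv⟩)] at h1
  · have h1 := hσ ⟨y, hy⟩ ⟨v, hv⟩
    rw [show σ ⟨y, hy⟩ ⟨v, hv⟩ = v from congrArg Subtype.val (htriv ⟨y, hy⟩ ⟨v, hv⟩)] at h1
    rw [Tie, ← h1]
    exact hfix ⟨y, hy⟩ ⟨v, hv⟩

/-- The order of `mGrp`. -/
theorem Ctx.card_mGrp : Nat.card (mGrp D x a) = q ^ 3 * Nat.card (aGrp Ω x) := by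
  have hxx := invol_mul_self hx.invol
  let φ : mGrp D x a →* eGrp D x a :=
    { toFun := fun y => ⟨gOf x (y : G), ((h.mem_mGrp hx hxa).1 y.2).2⟩
      map_one' := Subtype.ext ((gOf_eq_one_iff hxx).2 (Commute.one_left x))
      map_mul' := fun y z => Subtype.ext (h.gOf_mul hx hxa y.2 z.2) }
  have hφ : Function.Surjective φ := fun g => by
    obtain ⟨y, hy, hg⟩ := h.exists_gOf hx hxa g.2
    exact ⟨⟨y, hy⟩, Subtype.ext hg⟩
  let f : S.Q × aGrp Ω x → φ.ker := fun p => ⟨⟨p.1.1 * p.2.1,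
    mul_mem (h.Q_le_mGrp hx hxa hxb hba S p.1.2) (h.aGrp_le_mGrp hx hxa p.2.2)⟩, Subtype.ext
      ((gOf_eq_one_iff hxx).2 ((h.Q_props hx hxa hxb hba S p.1.2).2.1.mul_left
        (mem_aGrp.1 p.2.2).2))⟩
  have hf : Function.Bijective f := by
    refine ⟨fun p p' e => ?_, fun z => ?_⟩
    · have e' : p.1.1 * p.2.1 = p'.1.1 * p'.2.1 :=
        congrArg (fun w : φ.ker => ((w : mGrp D x a) : G)) e
      have h1 : p'.1.1⁻¹ * p.1.1 = p'.2.1 * p.2.1⁻¹ := by
        calc p'.1.1⁻¹ * p.1.1 = p'.1.1⁻¹ * (p.1.1 * p.2.1) * p.2.1⁻¹ := by group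
          _ = _ := by rw [e']; group
      have h2 := h.Q_inf_aGrp hx hxa hxb hba S (mul_mem (inv_mem p'.1.2) p.1.2)
        (h1 ▸ mul_mem p'.2.2 (inv_mem p.2.2))
      have h3 : p.1.1 = p'.1.1 := (inv_mul_eq_one.1 h2).symm
      exact Prod.ext (Subtype.ext h3) (Subtype.ext (mul_left_cancel (h3 ▸ e')))
    · have hz : gOf x ((z : mGrp D x a) : G) = 1 := congrArg Subtype.val z.2
      obtain ⟨k, hk, v, hv, e⟩ := h.exists_decomp hx hxa hxb hba S
        ((h.mem_mGrp hx hxa).1 z.1.2).1 ((gOf_eq_one_iff hxx).1 hz)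
      exact ⟨(⟨k, hk⟩, ⟨v, hv⟩), Subtype.ext (Subtype.ext e.symm)⟩
  rw [← φ.ker.index_mul_card, Subgroup.index_ker, MonoidHom.range_eq_top.2 hφ, Subgroup.card_top,
    h.card_eGrp hx hxa, ← Nat.card_eq_of_bijective f hf, Nat.card_prod, S.card_Q]
  ring

theorem Ctx.mGrp_pGroup : IsPGroup 2 (mGrp D x a) := by
  haveI : Fact (Nat.Prime 2) := ⟨Nat.prime_two⟩
  obtain ⟨j, hj⟩ := IsPGroup.iff_card.1 (h.aGrp_pGroup (Ω := Ω) hx)
  obtain ⟨m, -, hqm⟩ := h.exists_log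
  exact IsPGroup.iff_card.2 ⟨(2 * m + 1) * 3 + j, by
    rw [h.card_mGrp hx hxa hxb hba S, hj, hqm, ← pow_mul, ← pow_add]⟩

/-- Every involution of `A` has the data of `x`. -/
theorem Ctx.aGrp_bad {v : G} (hv : v ∈ aGrp Ω x) (hv1 : v ≠ 1) :
    Bad G Ω v ∧ v • a = a ∧ (∀ p : Ω, v • p = p ↔ x • p = p) ∧ loc D v = loc D x ∧
      eGrp D v a = eGrp D x a ∧ aGrp Ω v = aGrp Ω x ∧ mGrp D v a = mGrp D x a := by
  classical
  haveI := h.finite
  obtain ⟨hfix, hvx⟩ := mem_aGrp.1 hv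
  have hvb : Bad G Ω v :=
    ⟨invol_iff.2 ⟨(h.aGrp_elem hx hxa hxb hba S hv hv).1, hv1⟩, a, b, hba.symm, hfix a hxa,
      hfix b hxb⟩
  have hva : v • a = a := hfix a hxa
  have hF : ∀ p : Ω, v • p = p ↔ x • p = p := by
    have hsub : {p : Ω | x • p = p} ⊆ {p : Ω | v • p = p} := fun p hp => hfix p hp
    have heq := Set.eq_of_subset_of_ncard_le hsub (by
      rw [← Nat.card_coe_set_eq, ← Nat.card_coe_set_eq]
      exact le_of_eq ((h.all v a hvb hva).card_fix.trans (h.all x a hx hxa).card_fix.symm))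
    exact fun p => ⟨fun hp => (Set.ext_iff.1 heq p).2 hp, hfix p⟩
  have hB : ∀ c : Ω, x • c = c → memCent D v c = memCent D x c := by
    intro c hc
    refine (Set.eq_of_subset_of_ncard_le (fun d hd => ?_) ?_).symm
    · exact ⟨hd.1, (h.aGrp_commute_mem hv hx hd.1.1 hd.2).symm⟩
    · rw [← Nat.card_coe_set_eq, ← Nat.card_coe_set_eq]
      have h1 := (h.all v c hvb ((hF c).2 hc)).card_cent
      have h2 := (h.all x c hx hc).card_cent
      omega
  have hmem : ∀ d ∈ D, (Commute d v ↔ Commute d x) := by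
    intro d hd
    refine ⟨fun hc => ?_, fun hc => (h.aGrp_commute_mem hv hx hd hc).symm⟩
    obtain ⟨c, hdc⟩ := (h.pre.one d hd).exists
    have hxc : x • c = c := (hF c).1 (h.pre.smul_eq_of_commute hd hdc hc)
    have h1 : d ∈ memCent D v c := ⟨⟨hd, hdc⟩, hc⟩
    rw [hB c hxc] at h1
    exact h1.2
  have hloc : loc D v = loc D x := by
    have e : {y | y ∈ D ∧ Commute y v} = {y | y ∈ D ∧ Commute y x} :=
      Set.ext fun y => and_congr_right fun hy => hmem y hy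
    rw [loc, e, loc]
  have hE : eGrp D v a = eGrp D x a := by rw [eGrp, hB a hxa, eGrp]
  have hA : aGrp Ω v = aGrp Ω x := by
    obtain ⟨Sv⟩ := h.sz v a b hvb hva ((hF b).2 hxb) hba
    have hxv : x ∈ aGrp Ω v := mem_aGrp.2 ⟨fun p hp => (hF p).1 hp, hvx.symm⟩
    refine le_antisymm (fun g hg => mem_aGrp.2 ⟨fun p hp => (mem_aGrp.1 hg).1 p ((hF p).2 hp),
      ?_⟩) fun g hg => mem_aGrp.2 ⟨fun p hp => (mem_aGrp.1 hg).1 p ((hF p).1 hp),
      (h.aGrp_elem hx hxa hxb hba S hg hv).2⟩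
    exact (h.aGrp_elem hvb hva ((hF b).2 hxb) hba Sv hg hxv).2
  refine ⟨hvb, hva, hF, hloc, hE, hA, ?_⟩
  obtain ⟨Sv⟩ := h.sz v a b hvb hva ((hF b).2 hxb) hba
  refine (Subgroup.eq_of_le_of_card_ge (fun y hy => ?_) (le_of_eq ?_)).symm
  · obtain ⟨w, hw, hyv, -⟩ := h.conj_aGrp hx hxa hxb hba S hy hv
    rw [h.mem_mGrp hvb hva, show cGrp D v a = cGrp D x a by rw [cGrp, cGrp, hB a hxa], hE]
    refine ⟨((h.mem_mGrp hx hxa).1 hy).1, ?_⟩
    rw [gOf, hyv, ← mul_assoc, (h.aGrp_elem hx hxa hxb hba S hv hv).1, one_mul]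
    exact hw
  · rw [h.card_mGrp hx hxa hxb hba S, h.card_mGrp hvb hva ((hF b).2 hxb) hba Sv, hA]

omit hx hxa hxb hba S

/-- Some bad involution at `a` has a largest `2`-subgroup of `G_a` as `mGrp`. -/
theorem Ctx.exists_top (hex : ∃ y : G, Bad G Ω y ∧ y • a = a) :
    ∃ y : G, Bad G Ω y ∧ y • a = a ∧ IsTop D y a := by
  classical
  haveI := h.finite
  haveI : Fact (Nat.Prime 2) := ⟨Nat.prime_two⟩
  have hq := h.eight_le
  set P0 : Sylow 2 (stabilizer G a) := default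
  set P := (P0 : Subgroup (stabilizer G a)).map (stabilizer G a).subtype with hPdef
  have hP2 : IsPGroup 2 P := P0.2.map _
  have hPa : P ≤ stabilizer G a := Subgroup.map_subtype_le _
  have hmax : ∀ R : Subgroup G, IsPGroup 2 R → R ≤ stabilizer G a → Nat.card R ≤ Nat.card P := by
    intro R hR hRa
    have h1 : IsPGroup 2 (R.subgroupOf (stabilizer G a)) :=
      hR.of_equiv (Subgroup.subgroupOfEquivOfLe hRa).symm
    obtain ⟨R1, hR1⟩ := h1.exists_le_sylow
    calc Nat.card R = Nat.card (R.subgroupOf (stabilizer G a)) :=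
          (Nat.card_congr (Subgroup.subgroupOfEquivOfLe hRa).toEquiv).symm
      _ ≤ Nat.card R1 := Subgroup.card_le_of_le hR1
      _ = Nat.card P := by
          rw [hPdef, Subgroup.card_map_of_injective (stabilizer G a).subtype_injective]
          exact (R1.card_eq_multiplicity).trans P0.card_eq_multiplicity.symm
  -- the stabilisers in `P` of the other points
  have key : ∀ y : Ω, y ≠ a → ∀ R : Subgroup G, R ≤ P → (∀ g ∈ R, g • y = y) → R ≠ ⊥ →
      ∃ v : G, Bad G Ω v ∧ v • a = a ∧ q ^ 3 * Nat.card R ≤ Nat.card (mGrp D v a) := by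
    intro y hy R hRP hRy hR
    have hR2 : IsPGroup 2 R := hP2.to_le hRP
    haveI : Nontrivial R := (Subgroup.nontrivial_iff_ne_bot R).2 hR
    haveI := hR2.center_nontrivial
    obtain ⟨l, hl, hl'⟩ :=
      (hR2.to_subgroup (Subgroup.center R)).nontrivial_iff_card.1 inferInstance
    obtain ⟨⟨⟨v, hvR⟩, hvc⟩, hv⟩ := exists_prime_orderOf_dvd_card' (G := Subgroup.center R) 2
      (hl' ▸ dvd_pow_self 2 hl.ne')
    rw [← Subgroup.orderOf_coe, ← Subgroup.orderOf_coe] at hv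
    have hva : v • a = a := hPa (hRP hvR)
    have hvy : v • y = y := hRy v hvR
    have hvb : Bad G Ω v := ⟨hv, a, y, hy.symm, hva, hvy⟩
    obtain ⟨Sv⟩ := h.sz v a y hvb hva hvy hy
    refine ⟨v, hvb, hva, ?_⟩
    rw [h.card_mGrp hvb hva hvy hy Sv]
    refine Nat.mul_le_mul_left _ (Subgroup.card_le_of_le fun g hg => ?_)
    obtain ⟨j, hj⟩ := hR2 ⟨g, hg⟩
    exact h.mem_aGrp_of_two hvb hva hvy hy (hPa (hRP hg)) (hRy g hg)
      (congrArg Subtype.val (Subgroup.mem_center_iff.1 hvc ⟨g, hg⟩))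
      ⟨j, congrArg Subtype.val hj⟩
  -- the orbits of `P`
  let O : Type u := {y : Ω // y ≠ a}
  letI : MulAction P O :=
    { smul := fun g y => ⟨(g : G) • y.1, fun e => y.2 (MulAction.injective (g : G)
        (e.trans (show a = (g : G) • a from (hPa g.2 : (g : G) • a = a).symm)))⟩
      one_smul := fun y => Subtype.ext (one_smul G y.1)
      mul_smul := fun g g' y => Subtype.ext (mul_smul (g : G) (g' : G) y.1) }
  obtain ⟨j3, hj3⟩ : ∃ j, q ^ 3 = 2 ^ j := by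
    obtain ⟨m, -, hqm⟩ := h.exists_log
    exact ⟨(2 * m + 1) * 3, by rw [hqm, ← pow_mul]⟩
  have hmulo : ∀ y : O, Nat.card (orbit P y) * Nat.card (stabilizer P y) = Nat.card P := fun y => by
    rw [Nat.card_coe_set_eq, ← index_stabilizer, Subgroup.index_mul_card]
  -- some orbit has at most `q ^ 3` elements
  obtain ⟨y, hy⟩ : ∃ y : O, Nat.card (orbit P y) ≤ q ^ 3 := by
    by_contra hall
    push Not at hall
    have hdvd : ∀ y : O, 2 ^ (j3 + 1) ∣ Nat.card (orbit P y) := by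
      intro y
      obtain ⟨k, hk⟩ := hP2.card_orbit y
      have hk' := hall y
      rw [hk, hj3] at hk'
      rw [hk]
      exact pow_dvd_pow 2 (Nat.succ_le_of_lt ((Nat.pow_lt_pow_iff_right (by norm_num)).1 hk'))
    haveI : Fintype (Quotient (orbitRel P O)) := Fintype.ofFinite _
    have hsum : 2 ^ (j3 + 1) ∣ Nat.card O := by
      rw [Nat.card_congr (MulAction.selfEquivSigmaOrbits P O), Nat.card_sigma]
      exact Finset.dvd_sum fun o _ => hdvd o.out
    have hO : Nat.card O = Nat.card Ω - 1 := by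
      haveI : Fintype Ω := Fintype.ofFinite Ω
      rw [Nat.card_eq_fintype_card, Nat.card_eq_fintype_card, Fintype.card_subtype_compl,
        Fintype.card_subtype_eq]
    have hodd : ∃ w, Odd w ∧ Nat.card Ω - 1 = q ^ 3 * w := by
      rcases h.cases with ⟨-, e⟩ | ⟨-, e⟩
      · refine ⟨_, ?_, e⟩
        obtain ⟨m, -, hqm⟩ := h.exists_log
        have hev : Even q := by rw [hqm]; exact (Nat.even_pow' (by omega)).2 even_two
        refine Even.add_one ?_
        rw [pow_two, ← Nat.mul_sub_one]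
        exact hev.mul_right _
      · exact ⟨1, odd_one, by rw [mul_one]; exact e⟩
    obtain ⟨w, hw, hwe⟩ := hodd
    rw [hO, hwe, hj3, pow_succ] at hsum
    exact Nat.not_even_iff_odd.2 hw (even_iff_two_dvd.2
      (Nat.dvd_of_mul_dvd_mul_left (Nat.two_pow_pos j3) hsum))
  set R := (stabilizer P y).map P.subtype with hRdef
  have hRc : Nat.card R = Nat.card (stabilizer P y) :=
    Subgroup.card_map_of_injective P.subtype_injective
  have hne : R ≠ ⊥ := by
    intro e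
    have h1 : Nat.card (stabilizer P y) = 1 := by rw [← hRc, e, Subgroup.card_bot]
    have h2 := hmulo y
    rw [h1, mul_one] at h2
    -- but `P` is larger than `q ^ 3`
    obtain ⟨y0, hy0, hy0a⟩ := hex
    obtain ⟨b0, hb0, hb0a⟩ := h.exists_other (a := a) hy0
    obtain ⟨S0⟩ := h.sz y0 a b0 hy0 hy0a hb0 hb0a
    have h3 := hmax _ (h.mGrp_pGroup hy0 hy0a hb0 hb0a S0) (h.mGrp_le hy0 hy0a)
    rw [h.card_mGrp hy0 hy0a hb0 hb0a S0] at h3
    have h4 : 2 ≤ Nat.card (aGrp Ω y0) := Finite.one_lt_card_iff_nontrivial.2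
      ⟨⟨⟨y0, mem_aGrp.2 ⟨fun p hp => hp, Commute.refl y0⟩⟩, 1,
        fun e => invol_ne_one hy0.invol (congrArg Subtype.val e)⟩⟩
    have h5 : q ^ 3 * 2 ≤ q ^ 3 * Nat.card (aGrp Ω y0) := Nat.mul_le_mul_left _ h4
    have h6 : 0 < q ^ 3 := pow_pos (by omega) 3
    omega
  obtain ⟨v, hv, hva, hle⟩ := key y.1 y.2 R (Subgroup.map_subtype_le _) (by
    rintro g ⟨g', hg', rfl⟩
    exact congrArg Subtype.val hg') hne
  refine ⟨v, hv, hva, fun R' hR' hR'a => le_trans (hmax R' hR' hR'a) ?_⟩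
  refine le_trans ?_ hle
  rw [← hmulo y, hRc]
  exact Nat.mul_le_mul_right _ hy

end Cfsg.Agent.Lib.Crit5.KillTwo
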