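import Mathlib

/-!
# The single fixed point criterion: generalized quadrangles

A finite generalized quadrangle with lines of `s + 1` points and pencils of `t + 1` lines has
`s + t ∣ s t (s + 1) (t + 1)`: the trace of an idempotent built from the incidence matrix is a natural
number.  So there is none with parameters `(q, q - 1)` or `(q ^ 2, q - 1)`, `q ≥ 3`, which are the last
cases of sections C1 and C2.
-/

set_option autoImplicit false
set_option linter.style.haveILetI false

namespace Cfsg.Agent.Lib.Crit5.Quadrangle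

open Matrix Finset

/-- Lines as sets of points, `s + 1` points on a line, `t + 1` lines on a point. -/
structure IsGQ {V : Type*} (L : Set (Set V)) (s t : ℕ) : Prop where
  card_line : ∀ l ∈ L, l.ncard = s + 1
  card_pencil : ∀ x : V, {l | l ∈ L ∧ x ∈ l}.ncard = t + 1
  unique : ∀ l ∈ L, ∀ m ∈ L, ∀ x y : V, x ≠ y → x ∈ l → y ∈ l → x ∈ m → y ∈ m → l = m
  collinear : ∀ l ∈ L, ∀ x, x ∉ l → ∃! y, y ∈ l ∧ ∃ m ∈ L, x ∈ m ∧ y ∈ m

/-- The trace of an idempotent rational matrix is a natural number. -/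
theorem exists_trace_eq {ι : Type*} [Fintype ι] [DecidableEq ι] {P : Matrix ι ι ℚ}
    (h : P * P = P) : ∃ n : ℕ, P.trace = n := by
  have he : IsIdempotentElem (Matrix.toLin' P) := by
    show Matrix.toLin' P * Matrix.toLin' P = Matrix.toLin' P
    rw [Module.End.mul_eq_comp, ← Matrix.toLin'_mul, h]
  exact ⟨_, (Matrix.trace_toLin'_eq P).symm.trans
    (LinearMap.IsIdempotentElem.isProj_range _ he).trace⟩

variable {V : Type*} [Finite V] {L : Set (Set V)} {s t : ℕ}

/-- **Integrality.** -/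
theorem IsGQ.dvd [Nonempty V] (h : IsGQ L s t) (hs : 0 < s) :
    s + t ∣ s * t * ((s + 1) * (t + 1)) := by
  classical
  letI := Fintype.ofFinite V
  letI := Fintype.ofFinite ↥L
  let N : Matrix V ↥L ℚ := Matrix.of fun x l => if x ∈ (l : Set V) then 1 else 0
  let M := N * Nᵀ
  let J : Matrix V V ℚ := Matrix.of fun _ _ => 1
  have hline : ∀ l : ↥L, (univ.filter fun y : V => y ∈ (l : Set V)).card = s + 1 := fun l => by
    rw [← Set.ncard_coe_finset, ← h.card_line _ l.2]
    congr 1
    ext y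
    simp
  have hpen : ∀ x : V, (univ.filter fun l : ↥L => x ∈ (l : Set V)).card = t + 1 := fun x => by
    rw [← Set.ncard_coe_finset, ← h.card_pencil x,
      ← Set.ncard_image_of_injective _ Subtype.val_injective]
    congr 1
    ext l
    simp [and_comm]
  have hM : ∀ x y, M x y = ((univ.filter fun l : ↥L => x ∈ (l : Set V) ∧ y ∈ (l : Set V)).card : ℚ) := by
    intro x y
    simp only [M, Matrix.mul_apply]
    rw [← Finset.sum_boole]
    refine Finset.sum_congr rfl fun l _ => ?_
    by_cases hx : x ∈ (l : Set V) <;> by_cases hy : y ∈ (l : Set V) <;> simp [N, hx, hy]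
  have hle : ∀ x y : V, x ≠ y → ∀ l m : ↥L, x ∈ (l : Set V) → y ∈ (l : Set V) → x ∈ (m : Set V) →
      y ∈ (m : Set V) → l = m := fun x y hxy l m a b c d =>
    Subtype.ext (h.unique _ l.2 _ m.2 x y hxy a b c d)
  -- the product of three incidence matrices
  have h3 : M * N = ((s : ℚ) + t) • N + Matrix.of (fun _ _ => (1 : ℚ)) := by
    ext x l
    have e : (M * N) x l = ∑ y ∈ univ.filter (fun y : V => y ∈ (l : Set V)), M x y := by
      rw [Matrix.mul_apply, Finset.sum_filter]
      simp [N]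
    rw [e, Matrix.add_apply, Matrix.smul_apply, Matrix.of_apply, smul_eq_mul]
    by_cases hx : x ∈ (l : Set V)
    · rw [← Finset.add_sum_erase _ _ (show x ∈ univ.filter (fun y : V => y ∈ (l : Set V)) by simpa using hx),
        Finset.sum_eq_card_nsmul (b := (1 : ℚ))]
      · rw [Finset.card_erase_of_mem (by simpa using hx), hline, hM]
        simp only [and_self, hpen, N, Matrix.of_apply, if_pos hx]
        push_cast
        ring
      · intro y hy
        obtain ⟨hyx, hyl⟩ : y ≠ x ∧ y ∈ (l : Set V) := by simpa using hy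
        rw [hM, Nat.cast_eq_one, Finset.card_eq_one]
        exact ⟨l, Finset.eq_singleton_iff_unique_mem.2 ⟨by simp [hx, hyl], fun m hm => by
          simp only [Finset.mem_filter, Finset.mem_univ, true_and] at hm
          exact hle x y (Ne.symm hyx) m l hm.1 hm.2 hx hyl⟩⟩
    · obtain ⟨y₀, ⟨hy₀, m₀, hm₀, hxm, hym⟩, huniq⟩ := h.collinear _ l.2 x hx
      rw [Finset.sum_eq_single y₀]
      · simp only [N, Matrix.of_apply, if_neg hx, mul_zero, zero_add]
        rw [hM, Nat.cast_eq_one, Finset.card_eq_one]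
        refine ⟨⟨m₀, hm₀⟩, Finset.eq_singleton_iff_unique_mem.2 ⟨by simp [hxm, hym], fun m hm => ?_⟩⟩
        simp only [Finset.mem_filter, Finset.mem_univ, true_and] at hm
        exact hle x y₀ (fun e => hx (e ▸ hy₀)) m ⟨m₀, hm₀⟩ hm.1 hm.2 hxm hym
      · intro y hy hne
        rw [hM, Nat.cast_eq_zero, Finset.card_eq_zero, Finset.filter_eq_empty_iff]
        intro m _ hm
        exact hne (huniq y ⟨by simpa using hy, m, m.2, hm.1, hm.2⟩)
      · intro hc
        exact absurd (by simpa using hy₀) hc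
  have hMM : M * M = ((s : ℚ) + t) • M + ((t : ℚ) + 1) • J := by
    calc M * M = (M * N) * Nᵀ := (Matrix.mul_assoc M N Nᵀ).symm
      _ = _ := by
        rw [h3, Matrix.add_mul, Matrix.smul_mul]
        congr 1
        ext x y
        simp [N, J, Matrix.mul_apply, Finset.sum_boole, hpen]
  have hrow : ∀ x, ∑ y, M x y = ((s : ℚ) + 1) * (t + 1) := by
    intro x
    simp only [M, Matrix.mul_apply]
    rw [Finset.sum_comm]
    simp only [← Finset.mul_sum, N, Matrix.transpose_apply, Matrix.of_apply, Finset.sum_boole, hline,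
      ← Finset.sum_mul, hpen]
    push_cast
    ring
  have hsymm : Mᵀ = M := by simp [M, Matrix.transpose_mul]
  set K : ℚ := ((s : ℚ) + 1) * (t + 1) with hK
  have hMJ : M * J = K • J := by
    ext x y
    simp [J, Matrix.mul_apply, hrow]
  have hJM : J * M = K • J := by
    have := congrArg Matrix.transpose hMJ
    rwa [Matrix.transpose_mul, hsymm, Matrix.transpose_smul, show Jᵀ = J from rfl] at this
  set n : ℚ := (Fintype.card V : ℚ) with hn
  have hJJ : J * J = n • J := by
    ext x y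
    simp [J, Matrix.mul_apply, hn]
  obtain ⟨x⟩ := ‹Nonempty V›
  have hcount : K * K = ((s : ℚ) + t) * K + ((t : ℚ) + 1) * n := by
    have e₀ : M * M * J = (((s : ℚ) + t) • M + ((t : ℚ) + 1) • J) * J := by rw [hMM]
    rw [Matrix.mul_assoc, hMJ, Matrix.mul_smul, hMJ, Matrix.add_mul, Matrix.smul_mul, Matrix.smul_mul,
      hMJ, hJJ] at e₀
    have e := congrFun (congrFun e₀ x) x
    simpa [J] using e
  have hn0 : n ≠ 0 := by
    simp [hn, Fintype.card_ne_zero]
  have hst : ((s : ℚ) + t) ≠ 0 := by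
    have : (0 : ℚ) < (s : ℚ) + t := by positivity
    exact this.ne'
  let P : Matrix V V ℚ := ((s : ℚ) + t)⁻¹ • (M - (K / n) • J)
  have hP : P * P = P := by
    have hc : ((t : ℚ) + 1) - 2 * (K / n) * K + K / n * (K / n) * n = -((s : ℚ) + t) * (K / n) := by
      field_simp
      linear_combination -hcount
    simp only [P, smul_mul_assoc, mul_smul_comm, sub_mul, mul_sub, hMM, hMJ, hJM, hJJ, smul_smul]
    match_scalars
    · field_simp
    · field_simp at hc ⊢
      linear_combination hc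
  obtain ⟨m, hm⟩ := exists_trace_eq hP
  have htrM : M.trace = n * ((t : ℚ) + 1) := by
    simp [Matrix.trace, hM, hpen, hn, mul_add]
  have htrJ : J.trace = n := by simp [Matrix.trace, J, hn]
  rw [Matrix.trace_smul, Matrix.trace_sub, Matrix.trace_smul, htrM, htrJ, smul_eq_mul, smul_eq_mul,
    div_mul_cancel₀ _ hn0, inv_mul_eq_iff_eq_mul₀ hst] at hm
  refine Dvd.intro m ?_
  have e : (((s + t) * m : ℕ) : ℚ) = ((s * t * ((s + 1) * (t + 1)) : ℕ) : ℚ) := by
    push_cast
    rw [hK] at hm hcount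
    linear_combination -hm + (-1 : ℚ) * hcount
  exact_mod_cast e

/-- No quadrangle with parameters `(q, q - 1)`. -/
theorem not_isGQ_one [Nonempty V] {q : ℕ} (hq : 3 ≤ q) : ¬ IsGQ L q (q - 1) := fun h => by
  have hd := h.dvd (by omega)
  obtain ⟨p, rfl⟩ : ∃ p, q = p + 1 := ⟨q - 1, by omega⟩
  simp only [Nat.add_sub_cancel] at hd
  have hcop : Nat.Coprime (2 * p + 1) (p + 1) := by
    rw [show 2 * p + 1 = p + (p + 1) by ring, Nat.coprime_add_self_left]
    simp
  rw [show p + 1 + p = 2 * p + 1 by ring,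
    show (p + 1) * p * ((p + 1 + 1) * (p + 1)) = p * (p + 2) * (p + 1) ^ 2 by ring] at hd
  have h4 : 2 * p + 1 ∣ 4 * (p * (p + 2)) := Dvd.dvd.mul_left ((hcop.pow_right 2).dvd_of_dvd_mul_right hd) 4
  rw [← Int.natCast_dvd_natCast] at h4
  push_cast at h4
  have h3 : (2 * (p : ℤ) + 1) ∣ (-3 : ℤ) := by
    have := dvd_sub h4 (Dvd.intro (2 * (p : ℤ) + 3) rfl)
    rwa [show 4 * ((p : ℤ) * (p + 2)) - (2 * (p : ℤ) + 1) * (2 * p + 3) = -3 by ring] at this
  have := Int.le_of_dvd (by norm_num) (dvd_neg.1 h3)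
  omega

/-- No quadrangle with parameters `(q ^ 2, q - 1)`. -/
theorem not_isGQ_two [Nonempty V] {q : ℕ} (hq : 3 ≤ q) : ¬ IsGQ L (q ^ 2) (q - 1) := fun h => by
  have hd := h.dvd (by positivity)
  obtain ⟨p, rfl⟩ : ∃ p, q = p + 1 := ⟨q - 1, by omega⟩
  simp only [Nat.add_sub_cancel] at hd
  have hcop : Nat.Coprime ((p + 1) ^ 2 + p) (p + 1) := by
    rw [show (p + 1) ^ 2 + p = p + (p + 1) * (p + 1) by ring, Nat.coprime_add_mul_left_left]
    simp
  rw [show (p + 1) ^ 2 * p * (((p + 1) ^ 2 + 1) * (p + 1)) = p * ((p + 1) ^ 2 + 1) * (p + 1) ^ 3 by ring]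
    at hd
  have h4 := (hcop.pow_right 3).dvd_of_dvd_mul_right hd
  rw [← Int.natCast_dvd_natCast] at h4
  push_cast at h4
  have h5 : (((p : ℤ) + 1) ^ 2 + p) ∣ (4 * (p : ℤ) + 1) := by
    have := dvd_sub h4 (Dvd.intro ((p : ℤ) - 1) rfl)
    rwa [show (p : ℤ) * (((p : ℤ) + 1) ^ 2 + 1) - (((p : ℤ) + 1) ^ 2 + p) * ((p : ℤ) - 1) = 4 * p + 1
      by ring] at this
  have := Int.le_of_dvd (by positivity) h5
  nlinarith

end Cfsg.Agent.Lib.Crit5.Quadrangle
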