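import Cfsg.Agent.Lib.Crit5.Shape.Image
import Cfsg.Agent.Lib.Crit5.Shape.Unitary
import Cfsg.Agent.Lib.Crit5.Facts

/-!
# The single fixed point criterion, section S: shape of subgroups generated by members

`Loc D Y a`: `Y` is generated by members and has a strongly embedded stabiliser of `a`; the points
are `orbit Y a`.  See `notes/crit_helper5.md`, section S: involutions in a 2-group commute; with two
commuting involutions (`Four`) the points number `q ^ e + 1`, the kernel is the odd core, two pair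
stabilisers give the members at their point, `Y` generated at two points has `e ≤ 2`, and a
normalising element fixing two points and the members at one of them is trivial (`e ≤ 2`), or has
order two or fixes only a line (`e = 3`).
-/

set_option autoImplicit false
set_option linter.style.haveILetI false

namespace Cfsg.Agent.Lib.Crit5.Shape

open MulAction Cfsg.Agent.Lib.Involutions.Basic
open Cfsg.Agent.Lib.Crit8 (Pre Action Bad memAt loc)
open Cfsg.Agent.Lib.BenderSuzuki (TwoRank invs qNum)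

universe u

instance finite_img {M Δ : Type u} [Group M] [MulAction M Δ] [Finite M] : Finite (img M Δ) :=
  Finite.of_surjective _ toImg_surjective

variable {G Ω : Type u} [Group G] [MulAction G Ω]

/-- The members of `Y` at `a`. -/
def memIn (D : Set G) (Y : Subgroup G) (a : Ω) : Set G := {d | d ∈ memAt G D a ∧ d ∈ Y}

/-- Two elements agree on the points of `Y`. -/
def SameOn (Y : Subgroup G) (a : Ω) (g h : G) : Prop := ∀ p ∈ orbit Y a, g • p = h • p

/-- `Y` is generated by members and has a strongly embedded stabiliser of `a`. -/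
structure Loc (D : Set G) (Y : Subgroup G) (a : Ω) : Prop where
  se : Cfsg.IsStronglyEmbedded ((stabilizer G a).subgroupOf Y)
  gen : Subgroup.closure {x | x ∈ D ∧ x ∈ Y} = Y

/-- Two commuting involutions. -/
abbrev Four (Y : Subgroup G) : Prop := TwoRank ↥Y

/-- The point `a` among the points of `Y`. -/
abbrev pt (Y : Subgroup G) (a : Ω) : orbit Y a := ⟨a, mem_orbit_self a⟩

/-- The number `q`. -/
noncomputable def qOf (Y : Subgroup G) (a : Ω) : ℕ := qNum (img Y (orbit Y a)) (pt Y a)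

/-- The kernel on the points. -/
def kerOn (Y : Subgroup G) : Subgroup G := (Cfsg.oddCore ↥Y).map Y.subtype

theorem stabilizer_pt (Y : Subgroup G) (a : Ω) :
    stabilizer Y (pt Y a) = (stabilizer G a).subgroupOf Y := by
  ext y
  exact ⟨fun h => congrArg Subtype.val h, fun h => Subtype.ext h⟩

/-- The subgroup normalising `Y` and fixing `a`. -/
abbrev auto (Y : Subgroup G) (a : Ω) : Subgroup G :=
  Subgroup.normalizer (Y : Set G) ⊓ stabilizer G a

theorem auto_smul_mem {Y : Subgroup G} {a : Ω} {g : G} (hg : g ∈ auto Y a) {p : Ω}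
    (hp : p ∈ orbit Y a) : g • p ∈ orbit Y a := by
  obtain ⟨y, rfl⟩ := hp
  refine ⟨⟨g * y * g⁻¹, (Subgroup.mem_normalizer_iff.1 hg.1 _).1 y.2⟩, ?_⟩
  show (g * (y : G) * g⁻¹) • a = g • (y : G) • a
  rw [mul_smul, mul_smul, inv_smul_eq_iff.2 (show g • a = a from hg.2).symm]

/-- The action of `auto Y a` on the points. -/
def onPoints (Y : Subgroup G) (a : Ω) : auto Y a →* Equiv.Perm (orbit Y a) where
  toFun g :=
    { toFun := fun p => ⟨(g : G) • p.1, auto_smul_mem g.2 p.2⟩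
      invFun := fun p => ⟨(g : G)⁻¹ • p.1, auto_smul_mem (inv_mem g.2) p.2⟩
      left_inv := fun p => Subtype.ext (inv_smul_smul _ _)
      right_inv := fun p => Subtype.ext (smul_inv_smul _ _) }
  map_one' := Equiv.ext fun p => Subtype.ext (one_smul G p.1)
  map_mul' g h := Equiv.ext fun p => Subtype.ext (mul_smul (g : G) (h : G) p.1)

theorem onPoints_conj (Y : Subgroup G) (a : Ω) (g : auto Y a) (y : Y) :
    onPoints Y a g * (toImg Y (orbit Y a) y : Equiv.Perm (orbit Y a)) * (onPoints Y a g)⁻¹ =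
      toImg Y (orbit Y a)
        ⟨(g : G) * y * (g : G)⁻¹, (Subgroup.mem_normalizer_iff.1 g.2.1 _).1 y.2⟩ := by
  refine Equiv.ext fun p => Subtype.ext ?_
  show (g : G) • (y : G) • (g : G)⁻¹ • p.1 = ((g : G) * y * (g : G)⁻¹) • p.1
  rw [mul_smul, mul_smul]

/-- An element fixing `a`, `b`, normalising `Y` and commuting on the points with the members at
`a`. -/
structure Fixing (D : Set G) (Y : Subgroup G) (a b : Ω) (g : G) : Prop where
  norm : g ∈ Subgroup.normalizer (Y : Set G)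
  fix_a : g • a = a
  fix_b : g • b = b
  comm : ∀ d ∈ memIn D Y a, SameOn Y a (g * d) (d * g)

variable [Finite G] {D : Set G} {Y : Subgroup G} {a : Ω}

/-- A proper subgroup of members with members at two points, in a minimal counterexample. -/
theorem loc_sub (hM : Min G Ω D) (hY : Y ≠ ⊤)
    (hgen : Subgroup.closure {x | x ∈ D ∧ x ∈ Y} = Y) {d : G} (hd : d ∈ memAt G D a)
    (hdY : d ∈ Y) (hmove : ∃ y ∈ Y, y • a ≠ a) : Loc D Y a :=
  ⟨Facts.sub_stronglyEmbedded hM hY hgen hd hdY hmove, hgen⟩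

/-- The group localised by a bad involution. -/
theorem loc_bad (hA : Action G Ω D) {x : G} (hx : Bad G Ω x) (ha : x • a = a) :
    Loc D (loc D x) a :=
  ⟨hA.emb_bad hx ha, le_antisymm ((Subgroup.closure_le _).2 fun _ hy => hy.2)
    ((Subgroup.closure_le _).2 fun _ hy =>
      Subgroup.subset_closure ⟨hy.1, Subgroup.subset_closure hy⟩)⟩

omit [Finite G] in
theorem commute_of_mem_loc {x y : G} (hy : y ∈ loc D x) : Commute y x := by
  induction hy using Subgroup.closure_induction with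
  | mem y hy => exact hy.2
  | one => exact Commute.one_left x
  | mul y z _ _ hy hz => exact hy.mul_left hz
  | inv y _ hy => exact hy.inv_left

omit [Finite G] in
theorem memIn_loc {x : G} : memIn D (loc D x) a = memCent D x a :=
  Set.ext fun _ => ⟨fun hd => ⟨hd.1, commute_of_mem_loc hd.2⟩,
    fun hd => ⟨hd.1, Subgroup.subset_closure ⟨hd.1.1, hd.2⟩⟩⟩

/-- The points of the group localised by a bad involution are its fixed points. -/
theorem orbit_loc (hP : Pre G Ω D) {x : G} (hx : Bad G Ω x) (ha : x • a = a) {p : Ω} :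
    p ∈ orbit (loc D x) a ↔ x • p = p := by
  constructor
  · rintro ⟨y, rfl⟩
    show x • (y : G) • a = (y : G) • a
    rw [← mul_smul, ← (commute_of_mem_loc y.2).eq, mul_smul, ha]
  · intro hp
    by_cases hpa : a = p
    · exact hpa ▸ mem_orbit_self a
    obtain ⟨f, hf, hfx⟩ := hP.exists_swap_commute hx.invol hpa (Or.inl ⟨ha, hp⟩)
    exact ⟨⟨f, Subgroup.subset_closure ⟨hf.1, hfx⟩⟩, hf.2⟩

namespace Loc

variable (hP : Pre G Ω D) (hY : Loc D Y a)
include hY

omit [Finite G] in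
theorem se' : Cfsg.IsStronglyEmbedded (stabilizer Y (pt Y a)) := by
  rw [stabilizer_pt]; exact hY.se

omit [Finite G] in
theorem exists_ne : ∃ b ∈ orbit Y a, b ≠ a := by
  obtain ⟨y, -, hy⟩ := SetLike.exists_of_lt (lt_top_iff_ne_top.2 hY.se.1)
  exact ⟨(y : G) • a, mem_orbit a y, hy⟩

include hP

omit [Finite G] in
theorem gen' : Subgroup.closure {x : Y | x * x = 1} = ⊤ := by
  refine top_unique fun y _ => ?_
  have hy : (y : G) ∈ (Subgroup.closure {x : Y | x * x = 1}).map Y.subtype := by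
    rw [MonoidHom.map_closure]
    have h1 : (y : G) ∈ Subgroup.closure {x | x ∈ D ∧ x ∈ Y} := hY.gen.symm ▸ y.2
    refine (Subgroup.closure_le _).2 ?_ h1
    rintro x ⟨hx, hxY⟩
    exact Subgroup.subset_closure
      ⟨⟨x, hxY⟩, Subtype.ext (invol_mul_self (hP.invol x hx)), rfl⟩
  obtain ⟨z, hz, e⟩ := hy
  exact Subtype.ext e ▸ hz

omit [Finite G] in
theorem exists_member : ∃ d ∈ D, d ∈ Y := by
  by_contra hall
  have h0 : {x | x ∈ D ∧ x ∈ Y} = (∅ : Set G) :=
    Set.eq_empty_iff_forall_notMem.2 fun x hx => hall ⟨x, hx.1, hx.2⟩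
  have h1 := hY.gen
  rw [h0, Subgroup.closure_empty] at h1
  obtain ⟨b, ⟨y, rfl⟩, hb⟩ := hY.exists_ne
  refine hb ?_
  have hy : (y : G) = 1 := Subgroup.mem_bot.1 (h1 ▸ y.2)
  show (y : G) • a = a
  rw [hy, one_smul]

/-- Every involution of `Y` is a member. -/
theorem mem_D {y : G} (hy : y ∈ Y) (h2 : orderOf y = 2) : y ∈ D := by
  obtain ⟨d, hd, hdY⟩ := hY.exists_member hP
  obtain ⟨g, hg⟩ := isConj_iff.1 (Involutions.StronglyEmbedded.isConj_involutions hY.se
    (show orderOf (⟨d, hdY⟩ : Y) = 2 by rw [Subgroup.orderOf_mk]; exact hP.invol d hd)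
    (show orderOf (⟨y, hy⟩ : Y) = 2 by rw [Subgroup.orderOf_mk]; exact h2))
  rw [show y = (g : G) * d * (g : G)⁻¹ from (congrArg Subtype.val hg).symm]
  exact hP.conj _ _ hd

/-- Involutions of `Y` in one 2-group commute. -/
theorem commute_of_isPGroup {P : Subgroup G} (hP2 : IsPGroup 2 P) (hPY : P ≤ Y) {x y : G}
    (hx : orderOf x = 2) (hy : orderOf y = 2) (hxP : x ∈ P) (hyP : y ∈ P) : Commute x y :=
  congrArg Subtype.val (Shape.commute_of_isPGroup hY.se' (hY.gen' hP)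
    (P := P.subgroupOf Y) (hP2.of_equiv (Subgroup.subgroupOfEquivOfLe hPY).symm)
    (x := ⟨x, hPY hxP⟩) (y := ⟨y, hPY hyP⟩) (by rw [Subgroup.orderOf_mk]; exact hx)
    (by rw [Subgroup.orderOf_mk]; exact hy) hxP hyP).eq

/-- The fixed point of a member is one of the points. -/
theorem fix_mem {d : G} (hd : d ∈ D) (hdY : d ∈ Y) {p : Ω} (hp : d • p = p) : p ∈ orbit Y a := by
  obtain ⟨p', hp'⟩ := exists_fix hY.se'
    (show orderOf (⟨d, hdY⟩ : Y) = 2 by rw [Subgroup.orderOf_mk]; exact hP.invol d hd)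
  rw [hP.eq_of_fix hd hp (show d • (p' : Ω) = p' from congrArg Subtype.val hp')]
  exact p'.2

omit hP in
/-- The kernel on the points is the odd core. -/
theorem mem_kerOn_iff (h2 : Four Y) {y : G} : y ∈ kerOn Y ↔ y ∈ Y ∧ SameOn Y a y 1 := by
  constructor
  · rintro ⟨z, hz, rfl⟩
    refine ⟨z.2, fun p hp => ?_⟩
    have h := (toImg_eq_one_iff hY.se' h2 z).2 hz
    rw [← map_one (toImg Y (orbit Y a)), toImg_eq_iff] at h
    exact congrArg Subtype.val (h ⟨p, hp⟩)
  · rintro ⟨hy, hs⟩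
    refine ⟨⟨y, hy⟩, (toImg_eq_one_iff hY.se' h2 _).1 ?_, rfl⟩
    rw [← map_one (toImg Y (orbit Y a)), toImg_eq_iff]
    exact fun p => Subtype.ext (hs p.1 p.2)

omit hY hP in
theorem sameOn_iff {g h : G} (hg : g ∈ Y) (hh : h ∈ Y) :
    SameOn Y a g h ↔ toImg Y (orbit Y a) ⟨g, hg⟩ = toImg Y (orbit Y a) ⟨h, hh⟩ := by
  rw [toImg_eq_iff]
  exact ⟨fun hs p => Subtype.ext (hs p.1 p.2), fun hs p hp => congrArg Subtype.val (hs ⟨p, hp⟩)⟩

theorem exists_model (h2 : Four Y) (b : orbit Y a) (hb : b ≠ pt Y a) :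
    ∃ (t : img Y (orbit Y a)) (Q : Subgroup (img Y (orbit Y a))),
      t • pt Y a = b ∧ Model (img Y (orbit Y a)) (orbit Y a) (pt Y a) t Q :=
  Shape.exists_model hY.se' h2 (hY.gen' hP) hb

theorem exists_model' (h2 : Four Y) : ∃ (t : img Y (orbit Y a)) (Q : Subgroup (img Y (orbit Y a))),
    Model (img Y (orbit Y a)) (orbit Y a) (pt Y a) t Q := by
  obtain ⟨b, hb, hne⟩ := hY.exists_ne
  obtain ⟨t, Q, -, h⟩ := hY.exists_model hP h2 ⟨b, hb⟩ fun e => hne (congrArg Subtype.val e)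
  exact ⟨t, Q, h⟩

theorem invs_of_memIn {d : G} (hd : d ∈ memIn D Y a) :
    toImg Y (orbit Y a) ⟨d, hd.2⟩ ∈ invs (img Y (orbit Y a)) (pt Y a) := by
  have h := orderOf_toImg hY.se'
    (show orderOf (⟨d, hd.2⟩ : Y) = 2 by rw [Subgroup.orderOf_mk]; exact hP.invol d hd.1.1)
  exact ⟨Subtype.ext hd.1.2, invol_ne_one h, invol_mul_self h⟩

theorem exists_memIn {v : img Y (orbit Y a)} (hv : v ∈ invs (img Y (orbit Y a)) (pt Y a)) :
    ∃ (d : G) (hd : d ∈ memIn D Y a), toImg Y (orbit Y a) ⟨d, hd.2⟩ = v := by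
  obtain ⟨g, hg, rfl⟩ := exists_lift hY.se' (invol_iff.2 ⟨hv.2.2, hv.2.1⟩)
  exact ⟨g, ⟨⟨hY.mem_D hP g.2 ((Subgroup.orderOf_coe g).trans hg), congrArg Subtype.val hv.1⟩, g.2⟩,
    rfl⟩

/-- `q` is a power of two, at least four. -/
theorem qOf_pow (h2 : Four Y) : ∃ i : ℕ, 2 ≤ i ∧ qOf Y a = 2 ^ i := by
  obtain ⟨t, Q, h⟩ := hY.exists_model' hP h2
  exact h.qNum_pow

theorem four_le (h2 : Four Y) : 4 ≤ qOf Y a := by
  obtain ⟨t, Q, h⟩ := hY.exists_model' hP h2
  exact h.four_le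

/-- The number of points. -/
theorem card_orbit (h2 : Four Y) :
    ∃ e : ℕ, (e = 1 ∨ e = 2 ∨ e = 3) ∧ Nat.card (orbit Y a) = qOf Y a ^ e + 1 := by
  obtain ⟨t, Q, h⟩ := hY.exists_model' hP h2
  obtain ⟨e, he, hc⟩ := h.card_cases
  exact ⟨e, he, by rw [RankOne.Basic.card_omega h.hyp.setup, hc, qOf]⟩

/-- `Y` is doubly transitive on its points. -/
theorem exists_pair (h2 : Four Y) {p q p' q' : Ω} (hp : p ∈ orbit Y a) (hq : q ∈ orbit Y a)
    (hp' : p' ∈ orbit Y a) (hq' : q' ∈ orbit Y a) (hpq : p ≠ q) (hpq' : p' ≠ q') :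
    ∃ y ∈ Y, y • p = p' ∧ y • q = q' := by
  obtain ⟨t, Q, h⟩ := hY.exists_model' hP h2
  obtain ⟨k, h1, h3⟩ := RankOne.Basic.exists_pair h.hyp.setup
    (b := (⟨p, hp⟩ : orbit Y a)) (c := ⟨q, hq⟩) (d := ⟨p', hp'⟩) (e := ⟨q', hq'⟩)
    (fun e => hpq (congrArg Subtype.val e)) (fun e => hpq' (congrArg Subtype.val e))
  obtain ⟨y, rfl⟩ := toImg_surjective k
  exact ⟨y, y.2, congrArg Subtype.val h1, congrArg Subtype.val h3⟩

/-- Members at one point commute on the points. -/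
theorem commute_on (h2 : Four Y) {d e : G} (hd : d ∈ memIn D Y a) (he : e ∈ memIn D Y a) :
    SameOn Y a (d * e) (e * d) := by
  obtain ⟨t, Q, h⟩ := hY.exists_model' hP h2
  have h1 := h.invs_comm (hY.invs_of_memIn hP hd)
    (BenderSuzuki.mem_Q_of_invs h.hyp (hY.invs_of_memIn hP he))
  exact (sameOn_iff (mul_mem hd.2 he.2) (mul_mem he.2 hd.2)).2
    (((map_mul (toImg Y (orbit Y a)) ⟨d, hd.2⟩ ⟨e, he.2⟩).trans h1).trans
      (map_mul (toImg Y (orbit Y a)) ⟨e, he.2⟩ ⟨d, hd.2⟩).symm)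

/-- Commuting members agreeing on the points are equal. -/
theorem eq_of_sameOn {d e : G} (hd : d ∈ memIn D Y a) (he : e ∈ memIn D Y a) (hc : Commute d e)
    (hs : SameOn Y a d e) : d = e := by
  have hd2 := invol_mul_self (hP.invol d hd.1.1)
  have he2 := invol_mul_self (hP.invol e he.1.1)
  have h1 : toImg Y (orbit Y a) (⟨d, hd.2⟩ * ⟨e, he.2⟩) = 1 := by
    rw [map_mul, (sameOn_iff hd.2 he.2).1 hs, ← map_mul,
      show (⟨e, he.2⟩ : Y) * ⟨e, he.2⟩ = 1 from Subtype.ext he2, map_one]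
  have h3 : orderOf ((⟨d, hd.2⟩ : Y) * ⟨e, he.2⟩) = 1 :=
    Nat.Coprime.eq_one_of_dvd (Nat.coprime_two_right.2 (odd_orderOf_of_toImg hY.se' h1))
      (orderOf_dvd_of_pow_eq_one (Subtype.ext (by
        show (d * e) ^ 2 = 1
        rw [hc.mul_pow, sq, sq, hd2, he2, one_mul])))
  have h4 : d * e = 1 := congrArg Subtype.val (orderOf_eq_one_iff.1 h3)
  rw [eq_inv_of_mul_eq_one_left h4, invol_inv (hP.invol e he.1.1)]

/-- Commuting members at a point number `q - 1`. -/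
theorem card_memIn (hcomm : ∀ d ∈ memIn D Y a, ∀ e ∈ memIn D Y a, Commute d e) :
    Nat.card (memIn D Y a) + 1 = qOf Y a := by
  rw [qOf, BenderSuzuki.qNum]
  congr 1
  refine Nat.card_eq_of_bijective (fun d => ⟨_, hY.invs_of_memIn hP d.2⟩) ⟨fun d e h => ?_, ?_⟩
  · exact Subtype.ext (hY.eq_of_sameOn hP d.2 e.2 (hcomm _ d.2 _ e.2)
      ((sameOn_iff d.2.2 e.2.2).2 (congrArg Subtype.val h)))
  · rintro ⟨v, hv⟩
    obtain ⟨d, hd, rfl⟩ := hY.exists_memIn hP hv
    exact ⟨⟨d, hd⟩, rfl⟩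

/-- A subgroup containing the stabilisers of two pairs through `a` contains the members at `a`. -/
theorem memIn_le_of_two_tori (h2 : Four Y) {b c : Ω} (hb : b ∈ orbit Y a) (hc : c ∈ orbit Y a)
    (hba : b ≠ a) (hca : c ≠ a) (hcb : c ≠ b) {W : Subgroup G}
    (hWb : Y ⊓ (stabilizer G a ⊓ stabilizer G b) ≤ W)
    (hWc : Y ⊓ (stabilizer G a ⊓ stabilizer G c) ≤ W) {d : G} (hd : d ∈ memIn D Y a) : d ∈ W := by
  obtain ⟨t, Q, ht, h⟩ := hY.exists_model hP h2 ⟨b, hb⟩ fun e => hba (congrArg Subtype.val e)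
  have key : ∀ (p : Ω) (hp : p ∈ orbit Y a), Y ⊓ (stabilizer G a ⊓ stabilizer G p) ≤ W →
      ∀ x : img Y (orbit Y a), x • pt Y a = pt Y a → x • (⟨p, hp⟩ : orbit Y a) = ⟨p, hp⟩ →
        x ∈ (W.subgroupOf Y).map (toImg Y (orbit Y a)) := by
    intro p hp hle x hxa hxp
    obtain ⟨y, rfl⟩ := toImg_surjective x
    exact ⟨y, hle ⟨y.2, congrArg Subtype.val hxa, congrArg Subtype.val hxp⟩, rfl⟩
  obtain ⟨w, hw, hwd⟩ := h.invs_mem_of_two_tori (W := (W.subgroupOf Y).map (toImg Y (orbit Y a)))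
    (c := ⟨c, hc⟩)
    (fun x hx => by
      rw [RankOne.Basic.mem_twoStab, ht] at hx
      exact key b hb hWb x hx.1 hx.2)
    (fun e => hca (congrArg Subtype.val e)) (fun e => hcb (congrArg Subtype.val (e.trans ht)))
    (fun x hx => key c hc hWc x hx.1 hx.2) (hY.invs_of_memIn hP hd)
  have hk : toImg Y (orbit Y a) ((⟨d, hd.2⟩ : Y) * w⁻¹) = 1 := by
    rw [map_mul, map_inv, hwd, mul_inv_cancel]
  rw [← map_one (toImg Y (orbit Y a)), toImg_eq_iff] at hk
  have hfixp : ∀ p : orbit Y a, (d * ((w : Y) : G)⁻¹) • p.1 = p.1 := fun p =>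
    (congrArg Subtype.val (hk p)).trans (congrArg Subtype.val (one_smul Y p))
  have hdw : d * ((w : Y) : G)⁻¹ ∈ W :=
    hWb (Subgroup.mem_inf.2 ⟨Y.mul_mem hd.2 (Y.inv_mem w.2), Subgroup.mem_inf.2
      ⟨hfixp (pt Y a), hfixp ⟨b, hb⟩⟩⟩)
  simpa using mul_mem hdw hw

/-- Generated by the members at two points, `Y` induces `L2(q)` or `Sz(q)`. -/
theorem card_ne_of_pair (h2 : Four Y) {b : Ω} (hb : b ∈ orbit Y a) (hba : b ≠ a)
    (hgen : Y ≤ Subgroup.closure (memIn D Y a ∪ memIn D Y b)) :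
    Nat.card (orbit Y a) ≠ qOf Y a ^ 3 + 1 := by
  obtain ⟨t, Q, ht, h⟩ := hY.exists_model hP h2 ⟨b, hb⟩ fun e => hba (congrArg Subtype.val e)
  rw [RankOne.Basic.card_omega h.hyp.setup, qOf, Ne, Nat.add_right_cancel_iff]
  refine h.card_ne_of_pair (top_unique fun x _ => ?_)
  obtain ⟨y, rfl⟩ := toImg_surjective x
  set S : Subgroup (img Y (orbit Y a)) := Subgroup.closure
    (invs (img Y (orbit Y a)) (pt Y a) ∪ invs (img Y (orbit Y a)) (t • pt Y a))
  suffices hs : Y ≤ (S.comap (toImg Y (orbit Y a))).map Y.subtype by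
    obtain ⟨z, hz, e⟩ := hs y.2
    exact Subtype.ext e ▸ hz
  refine hgen.trans ((Subgroup.closure_le _).2 ?_)
  rintro d (hd | hd)
  · exact ⟨⟨d, hd.2⟩, Subgroup.subset_closure (Or.inl (hY.invs_of_memIn hP hd)), rfl⟩
  · have h3 := orderOf_toImg hY.se'
      (show orderOf (⟨d, hd.2⟩ : Y) = 2 by rw [Subgroup.orderOf_mk]; exact hP.invol d hd.1.1)
    refine ⟨⟨d, hd.2⟩, Subgroup.subset_closure (Or.inr ⟨?_, invol_ne_one h3, invol_mul_self h3⟩),
      rfl⟩
    show toImg Y (orbit Y a) ⟨d, hd.2⟩ • (t • pt Y a) = t • pt Y a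
    rw [ht]
    exact Subtype.ext hd.1.2

/-- An element `Fixing` gives a symmetry of the model. -/
theorem exists_fixer {b : Ω} {hb : b ∈ orbit Y a} {t : img Y (orbit Y a)}
    (ht : t • pt Y a = ⟨b, hb⟩) {g : G} (hg : Fixing D Y a b g) :
    ∃ φ : img Y (orbit Y a) ≃* img Y (orbit Y a),
      Fixer (pt Y a) t φ (onPoints Y a ⟨g, hg.norm, hg.fix_a⟩) := by
  set g₀ : auto Y a := ⟨g, hg.norm, hg.fix_a⟩
  set σ := onPoints Y a g₀
  have hmem : ∀ (g' : auto Y a) (k : img Y (orbit Y a)),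
      onPoints Y a g' * (k : Equiv.Perm (orbit Y a)) * (onPoints Y a g')⁻¹ ∈
        img Y (orbit Y a) := fun g' k => by
    obtain ⟨y, rfl⟩ := toImg_surjective k
    rw [onPoints_conj]
    exact (toImg Y (orbit Y a) _).2
  let φ : img Y (orbit Y a) ≃* img Y (orbit Y a) :=
    { toFun := fun k => ⟨σ * k * σ⁻¹, hmem g₀ k⟩
      invFun := fun k => ⟨σ⁻¹ * k * σ, by simpa [σ] using hmem g₀⁻¹ k⟩
      left_inv := fun k => Subtype.ext (by simp [mul_assoc])
      right_inv := fun k => Subtype.ext (by simp [mul_assoc])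
      map_mul' := fun k l => Subtype.ext (by simp [mul_assoc]) }
  refine ⟨φ, ⟨fun k p => ?_, Subtype.ext hg.fix_a, ?_, fun v hv => ?_⟩⟩
  · show σ ((k : Equiv.Perm (orbit Y a)) p) = (σ * k * σ⁻¹) (σ p)
    simp
  · rw [ht]
    exact Subtype.ext hg.fix_b
  · obtain ⟨d, hd, rfl⟩ := hY.exists_memIn hP hv
    refine Subtype.ext ?_
    show σ * _ * σ⁻¹ = _
    rw [onPoints_conj]
    refine Equiv.ext fun p => Subtype.ext ?_
    show (g * d * g⁻¹) • p.1 = d • p.1
    have hp : g⁻¹ • p.1 ∈ orbit Y a := auto_smul_mem (inv_mem g₀.2) p.2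
    rw [mul_smul, hg.comm d hd _ hp, mul_smul, smul_inv_smul]

omit hY hP in
theorem sameOn_one_iff {g : G} (hg : g ∈ auto Y a) :
    SameOn Y a g 1 ↔ onPoints Y a ⟨g, hg⟩ = 1 :=
  ⟨fun h => Equiv.ext fun p => Subtype.ext ((h p.1 p.2).trans (one_smul G p.1)),
    fun h p hp => by
      rw [one_smul]
      exact congrArg Subtype.val (DFunLike.congr_fun h ⟨p, hp⟩)⟩

/-- For `L2(q)` and `Sz(q)` a `Fixing` element is trivial on the points. -/
theorem fixing_trivial (h2 : Four Y) (he : Nat.card (orbit Y a) ≠ qOf Y a ^ 3 + 1) {b : Ω}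
    (hb : b ∈ orbit Y a) (hba : b ≠ a) {g : G} (hg : Fixing D Y a b g) : SameOn Y a g 1 := by
  obtain ⟨t, Q, ht, h⟩ := hY.exists_model hP h2 ⟨b, hb⟩ fun e => hba (congrArg Subtype.val e)
  obtain ⟨φ, f⟩ := hY.exists_fixer hP ht hg
  refine (sameOn_one_iff ⟨hg.norm, hg.fix_a⟩).2 (f.eq_one h fun e => he ?_)
  rw [RankOne.Basic.card_omega h.hyp.setup, e, qOf]

/-- Two non-trivial elements of a 2-group of `Fixing` elements agree on the points, and are
involutions there. -/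
theorem fixing_two_group (h2 : Four Y) {b : Ω} (hb : b ∈ orbit Y a) (hba : b ≠ a) {A : Subgroup G}
    (hA : IsPGroup 2 A) (hfix : ∀ g ∈ A, Fixing D Y a b g) {g g' : G} (hg : g ∈ A) (hg' : g' ∈ A)
    (hne : ¬ SameOn Y a g 1) (hne' : ¬ SameOn Y a g' 1) :
    SameOn Y a g g' ∧ SameOn Y a (g * g) 1 := by
  obtain ⟨t, Q, ht, h⟩ := hY.exists_model hP h2 ⟨b, hb⟩ fun e => hba (congrArg Subtype.val e)
  obtain ⟨φ, f⟩ := hY.exists_fixer hP ht (hfix g hg)
  obtain ⟨φ', f'⟩ := hY.exists_fixer hP ht (hfix g' hg')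
  set s : auto Y a := ⟨g, (hfix g hg).norm, (hfix g hg).fix_a⟩
  set s' : auto Y a := ⟨g', (hfix g' hg').norm, (hfix g' hg').fix_a⟩
  have hpow : ∀ z : auto Y a, (z : G) ∈ A → ∃ i : ℕ, onPoints Y a z ^ 2 ^ i = 1 := by
    intro z hz
    obtain ⟨i, hi⟩ := hA ⟨z, hz⟩
    exact ⟨i, by rw [← map_pow, show z ^ 2 ^ i = 1 from Subtype.ext (congrArg Subtype.val hi :),
      map_one]⟩
  obtain ⟨i, hi⟩ := hpow s hg
  obtain ⟨j, hj⟩ := hpow s' hg'
  obtain ⟨k, hk⟩ := hpow (s * s') (mul_mem hg hg')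
  rw [map_mul] at hk
  obtain ⟨h1, h3⟩ := f.two_group f' h hi hj hk (fun e => hne ((sameOn_one_iff s.2).2 e))
    (fun e => hne' ((sameOn_one_iff s'.2).2 e))
  refine ⟨fun p hp => congrArg (fun τ : Equiv.Perm (orbit Y a) => (τ ⟨p, hp⟩ : Ω)) h1, ?_⟩
  exact (sameOn_one_iff (g := g * g) (s * s).2).2 ((map_mul (onPoints Y a) s s).trans h3)

/-- A `Fixing` element of odd order fixes, unless trivial on the points, only the line of `a`
and `b`. -/
theorem fixing_odd (h2 : Four Y) {b : Ω} (hb : b ∈ orbit Y a) (hba : b ≠ a) {g : G}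
    (hg : Fixing D Y a b g) (hodd : Odd (orderOf g)) (hne : ¬ SameOn Y a g 1) {p : Ω}
    (hp : p ∈ orbit Y a) :
    g • p = p ↔ p = a ∨ p = b ∨ ∃ d ∈ memIn D Y a, p = d • b := by
  obtain ⟨t, Q, ht, h⟩ := hY.exists_model hP h2 ⟨b, hb⟩ fun e => hba (congrArg Subtype.val e)
  obtain ⟨φ, f⟩ := hY.exists_fixer hP ht hg
  set s : auto Y a := ⟨g, hg.norm, hg.fix_a⟩
  have hσ1 : onPoints Y a s ≠ 1 := fun e => hne ((sameOn_one_iff s.2).2 e)
  by_cases he : Nat.card Q = qNum (img Y (orbit Y a)) (pt Y a) ^ 3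
  swap
  · exact absurd (f.eq_one h he) hσ1
  have hpow : onPoints Y a s ^ orderOf g = 1 := by
    rw [← map_pow, show s ^ orderOf g = 1 from Subtype.ext (pow_orderOf_eq_one g), map_one]
  have hiff := f.fix_of_odd h he hodd hpow hσ1 ⟨p, hp⟩
  rw [show (onPoints Y a s) ⟨p, hp⟩ = ⟨p, hp⟩ ↔ g • p = p from
    ⟨fun e => congrArg Subtype.val e, fun e => Subtype.ext e⟩, ht] at hiff
  rw [hiff]
  constructor
  · rintro (e | e | ⟨v, hv, e⟩)
    · exact Or.inl (congrArg Subtype.val e)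
    · exact Or.inr (Or.inl (congrArg Subtype.val e))
    · obtain ⟨d, hd, rfl⟩ := hY.exists_memIn hP hv
      exact Or.inr (Or.inr ⟨d, hd, congrArg Subtype.val e⟩)
  · rintro (e | e | ⟨d, hd, e⟩)
    · exact Or.inl (Subtype.ext e)
    · exact Or.inr (Or.inl (Subtype.ext e))
    · exact Or.inr (Or.inr ⟨_, hY.invs_of_memIn hP hd, Subtype.ext e⟩)

end Loc

end Cfsg.Agent.Lib.Crit5.Shape
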